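import Cfsg.Prelude.Def_OddOrderLocal
import Cfsg.Agent.H83.PGroupBasic
import Cfsg.Agent.H83.CoprimeAbelian

/-!
Metacyclic groups: exponent-`p` bound, and coprime action on metacyclic `p`-groups (`p` odd).
-/

set_option autoImplicit false

open scoped commutatorElement

namespace H83

variable {G : Type*} [Group G]

/-- A cyclic group of exponent dividing `p` has order at most `p`. -/
theorem card_le_of_isCyclic_exponent {p : ℕ} (hp : 0 < p) [IsCyclic G] (h : ∀ x : G, x ^ p = 1) :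
    Nat.card G ≤ p :=
  Nat.le_of_dvd hp (IsCyclic.exponent_eq_card (α := G) ▸
    Monoid.exponent_dvd_of_forall_pow_eq_one h)

/-- Surjective images of metacyclic groups are metacyclic. -/
theorem isMetacyclic_of_surjective {Q : Type*} [Group Q] (f : G →* Q)
    (hf : Function.Surjective f) (h : Cfsg.IsMetacyclic G) : Cfsg.IsMetacyclic Q := by
  obtain ⟨N, hN, hc, hq⟩ := h
  refine ⟨N.map f, hN.map f hf, ?_, ?_⟩
  · have := hc
    exact isCyclic_of_surjective (f.subgroupMap N) (f.subgroupMap_surjective N)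
  · have := hN.map f hf
    refine @isCyclic_of_surjective _ _ _ _ _ hq _ _
      (QuotientGroup.map N (N.map f) f (Subgroup.le_comap_map f N)) ?_
    intro y
    obtain ⟨q, rfl⟩ := QuotientGroup.mk_surjective y
    obtain ⟨x, rfl⟩ := hf q
    exact ⟨x, rfl⟩

/-- Subgroups of metacyclic groups are metacyclic. -/
theorem isMetacyclic_of_injective {Q : Type*} [Group Q] (f : Q →* G) (hf : Function.Injective f)
    (h : Cfsg.IsMetacyclic G) : Cfsg.IsMetacyclic Q := by
  obtain ⟨N, hN, hc, hq⟩ := h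
  have := hc
  have := hq
  have hn : (N.comap f).Normal := hN.comap f
  refine ⟨N.comap f, hn, ?_, ?_⟩
  · refine isCyclic_of_injective ((f.comp (N.comap f).subtype).codRestrict N fun x => x.2) ?_
    intro a b hab
    exact Subtype.ext (hf (congrArg Subtype.val hab))
  · refine isCyclic_of_injective (QuotientGroup.map (N.comap f) N f le_rfl) ?_
    rw [injective_iff_map_eq_one]
    intro y hy
    obtain ⟨q, rfl⟩ := QuotientGroup.mk_surjective y
    exact (QuotientGroup.eq_one_iff q).mpr ((QuotientGroup.eq_one_iff (f q)).mp hy)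

/-- A metacyclic group of exponent dividing `p` has order at most `p²`. -/
theorem card_le_sq_of_isMetacyclic [Finite G] {p : ℕ} (hp : 0 < p) (h : Cfsg.IsMetacyclic G)
    (he : ∀ x : G, x ^ p = 1) : Nat.card G ≤ p ^ 2 := by
  obtain ⟨N, hN, hc, hq⟩ := h
  have h1 := @card_le_of_isCyclic_exponent N _ p hp hc (fun x => Subtype.ext (by simpa using he x))
  have h2 := @card_le_of_isCyclic_exponent (G ⧸ N) _ p hp hq (fun x => by
    obtain ⟨y, rfl⟩ := QuotientGroup.mk_surjective x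
    rw [← QuotientGroup.mk_pow, he, QuotientGroup.mk_one])
  rw [← Subgroup.card_mul_index N, Subgroup.index, sq]
  exact Nat.mul_le_mul h1 h2

/-- A subgroup of exponent `p` of a metacyclic group has order at most `p²`. -/
theorem card_le_sq_of_le_metacyclic [Finite G] {p : ℕ} (hp : 0 < p) {R X : Subgroup G}
    (hm : Cfsg.IsMetacyclic R) (hX : X ≤ R) (he : ∀ x ∈ X, x ^ p = 1) : Nat.card X ≤ p ^ 2 :=
  card_le_sq_of_isMetacyclic hp
    (isMetacyclic_of_injective (Subgroup.inclusion hX) (Subgroup.inclusion_injective hX) hm)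
    fun x => Subtype.ext (by simpa using he x x.2)

/-- The commutator subgroup of a metacyclic group is cyclic. -/
theorem exists_zpowers_commutator [Finite G] {R : Subgroup G} (hm : Cfsg.IsMetacyclic R) :
    ∃ c : G, ⁅R, R⁆ = Subgroup.zpowers c := by
  obtain ⟨N, hN, hc, hq⟩ := hm
  have := hc
  have := hq
  have hle : commutator R ≤ N := by
    rw [commutator_def, Subgroup.commutator_le]
    intro a _ b _
    refine (QuotientGroup.eq_one_iff _).mp ?_
    rw [← QuotientGroup.mk'_apply, map_commutatorElement, commutatorElement_eq_one_iff_mul_comm]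
    exact IsMulCommutative.is_comm.comm _ _
  have : IsCyclic (commutator R) :=
    isCyclic_of_injective (Subgroup.inclusion hle) (Subgroup.inclusion_injective hle)
  obtain ⟨g, hg⟩ := IsCyclic.exists_generator (α := commutator R)
  refine ⟨((g : R) : G), le_antisymm ?_ ?_⟩
  · rw [← Subgroup.map_subtype_commutator]
    rintro x ⟨y, hy, rfl⟩
    obtain ⟨k, hk⟩ := Subgroup.mem_zpowers_iff.mp (hg ⟨y, hy⟩)
    exact Subgroup.mem_zpowers_iff.mpr ⟨k, by
      simpa using congrArg (fun z : commutator R => ((z : R) : G)) hk⟩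
  · rw [Subgroup.zpowers_le, ← Subgroup.map_subtype_commutator]
    exact ⟨(g : R), g.2, rfl⟩

/-- If `R' = ⟨c⟩` has order `p` and `R` is metacyclic, then `c` is a `p`-th power in `R`. -/
theorem exists_pow_eq_of_commutator [Finite G] {p : ℕ} [Fact p.Prime] {R : Subgroup G}
    (hR : IsPGroup p R) (hm : Cfsg.IsMetacyclic R) {c : G} (hc1 : c ≠ 1) (hcp : c ^ p = 1)
    (hder : ⁅R, R⁆ = Subgroup.zpowers c) (hcen : ∀ r ∈ R, r * c = c * r) :
    ∃ g ∈ R, g ^ p = c := by
  obtain ⟨N, hN, hcyc, hq⟩ := hm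
  have := hcyc
  have := hq
  have hle : commutator R ≤ N := by
    rw [commutator_def, Subgroup.commutator_le]
    intro a _ b _
    refine (QuotientGroup.eq_one_iff _).mp ?_
    rw [← QuotientGroup.mk'_apply, map_commutatorElement, commutatorElement_eq_one_iff_mul_comm]
    exact IsMulCommutative.is_comm.comm _ _
  have hcR : c ∈ ⁅R, R⁆ := hder ▸ Subgroup.mem_zpowers c
  rw [← Subgroup.map_subtype_commutator] at hcR
  obtain ⟨c', hc', rfl⟩ := hcR
  obtain ⟨n, hn⟩ := IsCyclic.exists_generator (α := N)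
  obtain ⟨k, hk⟩ := mem_powers_iff_mem_zpowers.mpr (hn ⟨c', hle hc'⟩)
  have hk' : ((n : R) : G) ^ k = (c' : G) := by
    simpa using congrArg (fun z : N => ((z : R) : G)) hk
  by_cases hpk : p ∣ k
  · obtain ⟨m, rfl⟩ := hpk
    exact ⟨((n : R) : G) ^ m, R.pow_mem (n : R).2 m, by rw [← pow_mul, mul_comm, hk']; rfl⟩
  exfalso
  have hcop : (orderOf n).Coprime k := by
    obtain ⟨j, hj⟩ := IsPGroup.iff_orderOf.mp (hR.to_subgroup N) n
    rw [hj]
    exact Nat.Coprime.pow_left _ ((Fact.out : p.Prime).coprime_iff_not_dvd.mpr hpk)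
  obtain ⟨m, hm'⟩ := exists_pow_eq_self_of_coprime (x := n) hcop.symm
  have hnc : (n : R) ∈ Subgroup.center R := by
    rw [Subgroup.mem_center_iff]
    intro r
    refine Subtype.ext ?_
    have h1 : ((n : R) : G) = ((c' : G)) ^ m := by
      rw [← hk', ← pow_mul]
      simpa [← pow_mul] using (congrArg (fun z : N => ((z : R) : G)) hm').symm
    show (r : G) * ((n : R) : G) = ((n : R) : G) * r
    rw [h1]
    exact (Commute.pow_right (show Commute (r : G) (c' : G) from hcen r r.2) m).eq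
  have hNc : N ≤ Subgroup.center R := by
    intro x hx
    obtain ⟨i, hi⟩ := Subgroup.mem_zpowers_iff.mp (hn ⟨x, hx⟩)
    have : x = (n : R) ^ i := by simpa using (congrArg Subtype.val hi).symm
    rw [this]; exact Subgroup.zpow_mem _ hnc i
  have hab : ∀ a b : R, a * b = b * a :=
    commutative_of_cyclic_center_quotient (QuotientGroup.mk' N) (by rwa [QuotientGroup.ker_mk'])
  apply hc1
  have : ⁅R, R⁆ = ⊥ := by
    rw [eq_bot_iff, Subgroup.commutator_le]
    intro a ha b hb
    rw [Subgroup.mem_bot, commutatorElement_eq_one_iff_mul_comm]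
    exact congrArg Subtype.val (hab ⟨a, ha⟩ ⟨b, hb⟩)
  rw [this] at hder
  exact Subgroup.zpowers_eq_bot.mp hder.symm

/-- Key case: `R' = ⟨c⟩` of order `p` is incompatible with `[R, A] = R` for metacyclic `R`. -/
theorem false_of_commutator_prime [Finite G] {p : ℕ} [Fact p.Prime] (hp : p ≠ 2) {R A : Subgroup G}
    (hR : IsPGroup p R) (hm : Cfsg.IsMetacyclic R) (hA : A ≤ Subgroup.normalizer (R : Set G))
    (hcop : (Nat.card A).Coprime (Nat.card R)) (hRA : R ≤ ⁅R, A⁆) {c : G} (hc1 : c ≠ 1)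
    (hcp : c ^ p = 1) (hder : ⁅R, R⁆ = Subgroup.zpowers c) : False := by
  have hp' : p.Prime := Fact.out
  have hcR : c ∈ R := Subgroup.commutator_le_self R (hder ▸ Subgroup.mem_zpowers c)
  have hord : orderOf c = p := orderOf_eq_prime hcp hc1
  have hcen : ∀ r ∈ R, r * c = c * r := commute_of_zpowers_invariant hR hcp fun r hr => by
    rw [← hder]
    exact conj_mem_of_le_normalizer
      (le_normalizer_commutator Subgroup.le_normalizer Subgroup.le_normalizer) hr
      (hder ▸ Subgroup.mem_zpowers c)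
  have hzc : ∀ z ∈ Subgroup.zpowers c, (∀ r ∈ R, r * z = z * r) ∧ z ^ p = 1 := by
    rintro z ⟨i, rfl⟩
    refine ⟨fun r hr => (Commute.zpow_right (show Commute r c from hcen r hr) i).eq, ?_⟩
    show (c ^ i) ^ p = 1
    rw [← zpow_natCast, ← zpow_mul, mul_comm, zpow_mul, zpow_natCast, hcp, one_zpow]
  have hcm : ∀ x ∈ R, ∀ y ∈ R, x * y * x⁻¹ * y⁻¹ ∈ Subgroup.zpowers c := fun x hx y hy =>
    hder ▸ Subgroup.commutator_mem_commutator hx hy
  -- powers
  have hmul : ∀ j : ℕ, ∀ x ∈ R, ∀ y ∈ R, (x * y) ^ p ^ j = x ^ p ^ j * y ^ p ^ j := by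
    intro j
    induction j with
    | zero => simp
    | succ j ih =>
      intro x hx y hy
      rw [pow_succ, pow_mul, pow_mul, pow_mul, ih x hx y hy]
      set u := x ^ p ^ j
      set v := y ^ p ^ j
      have hu : u ∈ R := R.pow_mem hx _
      have hv : v ∈ R := R.pow_mem hy _
      set d := v⁻¹ * u⁻¹ * v * u with hd
      have hdz : d ∈ Subgroup.zpowers c := by
        simpa [hd] using hcm v⁻¹ (R.inv_mem hv) u⁻¹ (R.inv_mem hu)
      exact mul_pow_prime hp' hp (c := d) (by rw [hd]; group) ((hzc d hdz).1 u hu).symm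
        ((hzc d hdz).1 v hv).symm (hzc d hdz).2
  have hpc : ∀ x ∈ R, ∀ y ∈ R, y * x ^ p = x ^ p * y := by
    intro x hx y hy
    set d := y * x * y⁻¹ * x⁻¹ with hd
    have hdz := hzc d (hcm y hy x hx)
    have : y * x ^ p * y⁻¹ = x ^ p := by
      rw [← conj_pow, show y * x * y⁻¹ = d * x by rw [hd]; group,
        Commute.mul_pow (hdz.1 x hx).symm, hdz.2, one_mul]
    exact mul_inv_eq_iff_eq_mul.mp this
  let F : ℕ → (R →* G) := fun j =>
    { toFun := fun x => (x : G) ^ p ^ j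
      map_one' := by simp
      map_mul' := fun x y => hmul j x x.2 y y.2 }
  -- the centre
  let Z : Subgroup G := R ⊓ Subgroup.centralizer (R : Set G)
  have hZmem : ∀ z, z ∈ Z ↔ z ∈ R ∧ ∀ r ∈ R, r * z = z * r := fun z =>
    and_congr_right fun _ => Subgroup.mem_centralizer_iff
  let M : Subgroup G := (F 1).range ⊔ Subgroup.zpowers c
  have hMZ : M ≤ Z := by
    refine sup_le ?_ ((Subgroup.zpowers_le).mpr ((hZmem c).mpr ⟨hcR, hcen⟩))
    rintro _ ⟨x, rfl⟩
    refine (hZmem _).mpr ⟨R.pow_mem x.2 _, fun r hr => ?_⟩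
    simpa [F] using hpc x x.2 r hr
  have hMR : M ≤ R := hMZ.trans inf_le_left
  have hRsq : Nat.card R ≤ p ^ 2 * Nat.card M := by
    have hn : (M.subgroupOf R).Normal := Subgroup.normal_subgroupOf_of_le_normalizer
      (le_normalizer_of_conj_mem fun r hr x hx => by
        rw [((hZmem x).mp (hMZ hx)).2 r hr, mul_inv_cancel_right]; exact hx)
    have := card_le_sq_of_isMetacyclic (G := R ⧸ M.subgroupOf R) hp'.pos
      (isMetacyclic_of_surjective (QuotientGroup.mk' _) (QuotientGroup.mk'_surjective _) hm)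
      (fun q => by
        obtain ⟨x, rfl⟩ := QuotientGroup.mk_surjective q
        rw [← QuotientGroup.mk_pow, QuotientGroup.eq_one_iff]
        exact Subgroup.mem_subgroupOf.mpr (Subgroup.mem_sup_left ⟨x, by simp [F]⟩))
    calc Nat.card R = Nat.card (M.subgroupOf R) * (M.subgroupOf R).index :=
          (Subgroup.card_mul_index _).symm
      _ ≤ Nat.card M * p ^ 2 := Nat.mul_le_mul
          (Nat.card_congr (Subgroup.subgroupOfEquivOfLe hMR).toEquiv).le this
      _ = _ := mul_comm _ _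
  have hX : ∀ e ∈ R, e ∉ Z → Z < Z ⊔ Subgroup.zpowers e ∧ Z ⊔ Subgroup.zpowers e < R ∧
      ∀ a ∈ Z ⊔ Subgroup.zpowers e, ∀ b ∈ Z ⊔ Subgroup.zpowers e, a * b = b * a := by
    intro e he hez
    have hle : Z ⊔ Subgroup.zpowers e ≤ R := sup_le inf_le_left ((Subgroup.zpowers_le).mpr he)
    have hcommX := mem_centralizer_sup_zpowers (X := Z) (e := e)
      (fun z hz => (((hZmem z).mp hz).2 e he).symm)
      (fun a ha b hb => ((hZmem b).mp hb).2 a ((hZmem a).mp ha).1)
    refine ⟨lt_of_le_of_ne le_sup_left fun h => hez (h ▸ Subgroup.mem_sup_right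
      (Subgroup.mem_zpowers e)), lt_of_le_of_ne hle fun h => hez ?_, hcommX⟩
    refine (hZmem e).mpr ⟨he, fun r hr => hcommX r ?_ e ?_⟩
    · rw [h]; exact hr
    · exact Subgroup.mem_sup_right (Subgroup.mem_zpowers e)
  -- the maximal `p`-power
  obtain ⟨g₁, hg₁, hg₁p⟩ := exists_pow_eq_of_commutator hR hm hc1 hcp hder hcen
  classical
  obtain ⟨n, hn⟩ := IsPGroup.iff_card.mp hR
  have hex : ∃ m : ℕ, ∀ g ∈ R, g ^ p ^ (m + 1) ≠ c := ⟨n, fun g hg h => hc1 (by
    rw [← h]
    refine orderOf_dvd_iff_pow_eq_one.mp (dvd_trans (Subgroup.orderOf_dvd_natCard R hg) ?_)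
    rw [hn]; exact pow_dvd_pow p (Nat.le_succ n))⟩
  let j := Nat.find hex
  have hmax : ∀ g ∈ R, g ^ p ^ (j + 1) ≠ c := Nat.find_spec hex
  have hj1 : 1 ≤ j := by
    by_contra h
    have hj0 : j = 0 := by omega
    exact hmax g₁ hg₁ (by rw [hj0]; simpa using hg₁p)
  obtain ⟨g, hg, hgc⟩ : ∃ g ∈ R, g ^ p ^ j = c := by
    have := Nat.find_min hex (show j - 1 < j by omega)
    simp only [not_forall, not_not] at this
    obtain ⟨g, hg, hgc⟩ := this
    exact ⟨g, hg, by rwa [show j - 1 + 1 = j by omega] at hgc⟩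
  have hcj : c ^ p ^ j = 1 := by
    rw [show p ^ j = p * p ^ (j - 1) by rw [← pow_succ', show j - 1 + 1 = j by omega], pow_mul,
      hcp, one_pow]
  -- the subgroup `L`
  let S : Subgroup G := (F j).ker.map R.subtype
  have hSmem : ∀ s, s ∈ S ↔ s ∈ R ∧ s ^ p ^ j = 1 := fun s => by
    constructor
    · rintro ⟨x, hx, rfl⟩; exact ⟨x.2, hx⟩
    · rintro ⟨h1, h2⟩; exact ⟨⟨s, h1⟩, h2, rfl⟩
  let L : Subgroup G := S ⊔ Z
  have hLR : L ≤ R := sup_le (Subgroup.map_subtype_le _) inf_le_left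
  have hgZ : g ∉ Z := by
    intro hgz
    obtain ⟨e, he, hez⟩ : ∃ e ∈ R, e ∉ Z := by
      by_contra h
      push Not at h
      refine hc1 ?_
      have : ⁅R, R⁆ = ⊥ := by
        rw [eq_bot_iff, Subgroup.commutator_le]
        intro a ha b hb
        rw [Subgroup.mem_bot, commutatorElement_eq_one_iff_mul_comm]
        exact (((hZmem a).mp (h a ha)).2 b hb).symm
      rw [this] at hder
      exact Subgroup.zpowers_eq_bot.mp hder.symm
    obtain ⟨h1, h2, -⟩ := hX e he hez
    have h3 := card_le_mul_of_lt (hR.to_le h2.le) h1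
    have h4 := card_le_mul_of_lt hR h2
    have h5 : Nat.card Z ≤ Nat.card M := by
      refine Nat.le_of_mul_le_mul_left ?_ (pow_pos hp'.pos 2)
      calc p ^ 2 * Nat.card Z = p * (p * Nat.card Z) := by rw [sq, mul_assoc]
        _ ≤ p * Nat.card ↥(Z ⊔ Subgroup.zpowers e) := Nat.mul_le_mul_left p h3
        _ ≤ _ := h4.trans hRsq
    have hZM : M = Z := Subgroup.eq_of_le_of_card_ge hMZ h5
    have hsub : M ≤ ((F (j + 1)).range.comap (F j)).map R.subtype := by
      refine sup_le ?_ ((Subgroup.zpowers_le).mpr ⟨⟨c, hcR⟩, ⟨1, by simp [F, hcj]⟩, rfl⟩)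
      rintro _ ⟨x, rfl⟩
      refine ⟨⟨_, R.pow_mem x.2 _⟩, ⟨x, ?_⟩, rfl⟩
      show (x : G) ^ p ^ (j + 1) = ((x : G) ^ p ^ 1) ^ p ^ j
      rw [← pow_mul, ← pow_add, add_comm]
    obtain ⟨x, ⟨y, hy⟩, hxg⟩ := hsub (hZM.symm ▸ hgz)
    refine hmax y y.2 ?_
    rw [← hgc, ← hxg]
    exact hy
  obtain ⟨hgX1, hgX2, hgX3⟩ := hX g hg hgZ
  have h3 := card_le_mul_of_lt (hR.to_le hgX2.le) hgX1
  have h4 := card_le_mul_of_lt hR hgX2
  have hsqZ : p ^ 2 * Nat.card Z ≤ Nat.card R := by
    calc p ^ 2 * Nat.card Z = p * (p * Nat.card Z) := by rw [sq, mul_assoc]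
      _ ≤ p * Nat.card ↥(Z ⊔ Subgroup.zpowers g) := Nat.mul_le_mul_left p h3
      _ ≤ _ := h4
  have hMeq : M = Z := Subgroup.eq_of_le_of_card_ge hMZ
    (Nat.le_of_mul_le_mul_left (hsqZ.trans hRsq) (pow_pos hp'.pos 2))
  have hgL : g ∉ L := by
    intro hgl
    have hsub : L ≤ ((F (j + 1)).range.comap (F j)).map R.subtype := by
      refine sup_le ?_ (hMeq ▸ sup_le ?_ ?_)
      · intro s hs
        obtain ⟨h1, h2⟩ := (hSmem s).mp hs
        exact ⟨⟨s, h1⟩, ⟨1, by simp [F, h2]⟩, rfl⟩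
      · rintro _ ⟨x, rfl⟩
        refine ⟨⟨_, R.pow_mem x.2 _⟩, ⟨x, ?_⟩, rfl⟩
        show (x : G) ^ p ^ (j + 1) = ((x : G) ^ p ^ 1) ^ p ^ j
        rw [← pow_mul, ← pow_add, add_comm]
      · exact (Subgroup.zpowers_le).mpr ⟨⟨c, hcR⟩, ⟨1, by simp [F, hcj]⟩, rfl⟩
    obtain ⟨x, ⟨y, hy⟩, hxg⟩ := hsub hgl
    refine hmax y y.2 ?_
    rw [← hgc, ← hxg]
    exact hy
  -- `L` is abelian
  have hLX : ∀ e ∈ L, e ∉ Z → L = Z ⊔ Subgroup.zpowers e := by
    intro e he hez
    obtain ⟨h1, h2, -⟩ := hX e (hLR he) hez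
    have hle : Z ⊔ Subgroup.zpowers e ≤ L := sup_le le_sup_right ((Subgroup.zpowers_le).mpr he)
    refine (hle.lt_or_eq.resolve_left fun hlt => ?_).symm
    have hLlt : L < R := lt_of_le_of_ne hLR fun h => hgL (h ▸ hg)
    have a1 := card_le_mul_of_lt (hR.to_le h2.le) h1
    have a2 := card_le_mul_of_lt (hR.to_le hLR) hlt
    have a3 := card_le_mul_of_lt hR hLlt
    have : p ^ 3 * Nat.card Z ≤ p ^ 2 * Nat.card Z := by
      calc p ^ 3 * Nat.card Z = p * (p * (p * Nat.card Z)) := by ring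
        _ ≤ p * (p * Nat.card ↥(Z ⊔ Subgroup.zpowers e)) := by gcongr
        _ ≤ p * Nat.card L := by gcongr
        _ ≤ Nat.card R := a3
        _ ≤ p ^ 2 * Nat.card M := hRsq
        _ = _ := by rw [hMeq]
    have := Nat.le_of_mul_le_mul_right this Nat.card_pos
    have := (Nat.pow_le_pow_iff_right hp'.one_lt).mp this
    omega
  have hLcomm : ∀ a ∈ L, ∀ b ∈ L, a * b = b * a := by
    intro a ha b hb
    by_cases h : a ∈ Z
    · exact (((hZmem a).mp h).2 b (hLR hb)).symm
    · have := (hX a (hLR ha) h).2.2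
      rw [← hLX a ha h] at this
      exact this a ha b hb
  -- action of `A`
  have hRn : ∀ a ∈ A, ∀ x ∈ R, a * x * a⁻¹ ∈ R := fun a ha x hx =>
    conj_mem_of_le_normalizer hA ha hx
  have hAZ : A ≤ Subgroup.normalizer (Z : Set G) := le_normalizer_of_conj_mem fun a ha z hz => by
    obtain ⟨h1, h2⟩ := (hZmem z).mp hz
    refine (hZmem _).mpr ⟨hRn a ha z h1, fun r hr => ?_⟩
    have hr' : a⁻¹ * r * a ∈ R := by simpa using hRn a⁻¹ (A.inv_mem ha) r hr
    calc r * (a * z * a⁻¹) = a * ((a⁻¹ * r * a) * z) * a⁻¹ := by group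
      _ = a * z * a⁻¹ * r := by rw [h2 _ hr']; group
  have hSa : ∀ a ∈ A, ∀ s ∈ S, a * s * a⁻¹ ∈ S := fun a ha s hs => by
    obtain ⟨h1, h2⟩ := (hSmem s).mp hs
    exact (hSmem _).mpr ⟨hRn a ha s h1, by rw [conj_pow, h2]; group⟩
  have hAL : A ≤ Subgroup.normalizer (L : Set G) := le_normalizer_of_conj_mem fun a ha => by
    have h : L ≤ L.comap (MulAut.conj a).toMonoidHom := sup_le
      (fun s hs => Subgroup.mem_sup_left (hSa a ha s hs))
      (fun z hz => Subgroup.mem_sup_right (conj_mem_of_le_normalizer hAZ ha hz))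
    exact fun x hx => h hx
  have hlam : ∀ a ∈ A, ∃ l : ℕ, ¬ p ∣ l ∧ a * c * a⁻¹ = c ^ l ∧
      ∃ s ∈ S, a * g * a⁻¹ = g ^ l * s := by
    intro a ha
    have hmem : a * c * a⁻¹ ∈ Subgroup.zpowers c := hder ▸ conj_mem_of_le_normalizer
      (le_normalizer_commutator hA hA) ha (hder ▸ Subgroup.mem_zpowers c)
    obtain ⟨l, hl⟩ := mem_powers_iff_mem_zpowers.mpr hmem
    replace hl : c ^ l = a * c * a⁻¹ := hl
    refine ⟨l, ?_, hl.symm, (g ^ l)⁻¹ * (a * g * a⁻¹),
      (hSmem _).mpr ⟨R.mul_mem (R.inv_mem (R.pow_mem hg l)) (hRn a ha g hg), ?_⟩, by group⟩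
    · rintro ⟨i, rfl⟩
      rw [pow_mul, hcp, one_pow, eq_comm, conj_eq_one_iff] at hl
      exact hc1 hl
    · rw [hmul j _ (R.inv_mem (R.pow_mem hg l)) _ (hRn a ha g hg), conj_pow, hgc, inv_pow,
        ← pow_mul, mul_comm l, pow_mul, hgc, hl]
      group
  -- if `a y a⁻¹` commutes with `s`, then `a y a⁻¹ y⁻¹` commutes with `g`
  have hkey : ∀ a ∈ A, ∀ y ∈ R, (∀ s ∈ S, Commute (a * y * a⁻¹) s) →
      Commute (a * y * a⁻¹ * y⁻¹) g := by
    intro a ha y hy hcs
    obtain ⟨l, hl, hlc, s, hs, hgs⟩ := hlam a ha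
    set Y := a * y * a⁻¹ with hY
    have hYR : Y ∈ R := hRn a ha y hy
    set t := y * g * y⁻¹ * g⁻¹ with ht
    have htz : t ∈ Subgroup.zpowers c := hcm y hy g hg
    set T := Y * g * Y⁻¹ * g⁻¹ with hT
    have hTz : T ∈ Subgroup.zpowers c := hcm Y hYR g hg
    -- `a t a⁻¹ = t ^ l`
    have hat : a * t * a⁻¹ = t ^ l := by
      obtain ⟨i, hi⟩ := htz
      rw [← hi]
      show a * c ^ i * a⁻¹ = (c ^ i) ^ l
      rw [← conj_zpow, hlc, ← zpow_natCast, ← zpow_natCast, ← zpow_mul, ← zpow_mul, mul_comm]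
    have hT' : Y * g ^ l * Y⁻¹ = T ^ l * g ^ l := by
      rw [← conj_pow, show Y * g * Y⁻¹ = T * g by rw [hT]; group,
        Commute.mul_pow ((hzc T hTz).1 g hg).symm]
    have hs' : Y * s * Y⁻¹ = s := by
      rw [(hcs s hs).eq]; group
    have hTt : T ^ l = t ^ l := by
      rw [← hat, ht]
      calc T ^ l = Y * g ^ l * Y⁻¹ * (g ^ l)⁻¹ := by rw [hT']; group
        _ = (Y * g ^ l * Y⁻¹) * (Y * s * Y⁻¹) * (g ^ l * s)⁻¹ := by rw [hs']; group
        _ = Y * (g ^ l * s) * Y⁻¹ * (g ^ l * s)⁻¹ := by group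
        _ = _ := by rw [← hgs, hY]; group
    have hTeq : T = t := by
      obtain ⟨m, hm'⟩ := exists_pow_eq_self_of_coprime (x := T * t⁻¹) (n := l) (by
        refine Nat.Coprime.coprime_dvd_right (orderOf_dvd_of_pow_eq_one ?_)
          (hp'.coprime_iff_not_dvd.mpr hl).symm
        exact (hzc _ (Subgroup.mul_mem _ hTz (Subgroup.inv_mem _ htz))).2)
      have h0 : (T * t⁻¹) ^ l = 1 := by
        rw [Commute.mul_pow]
        · rw [inv_pow, hTt, mul_inv_cancel]
        · exact ((hzc T hTz).1 _ (Subgroup.inv_mem _ (Subgroup.commutator_le_self R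
            (hder ▸ htz)))).symm
      rw [h0, one_pow] at hm'
      exact mul_inv_eq_one.mp hm'.symm
    have hY' : Y * g * Y⁻¹ = y * g * y⁻¹ := mul_right_cancel (hTeq : _ = t)
    have h1 : y * g * y⁻¹ = t * g := by rw [ht]; group
    have h2 : Commute (Y * y⁻¹) (t * g) := by
      show Y * y⁻¹ * (t * g) = t * g * (Y * y⁻¹)
      rw [← h1]
      calc Y * y⁻¹ * (y * g * y⁻¹) = Y * g * Y⁻¹ * (Y * y⁻¹) := by group
        _ = _ := by rw [hY']
    have h3 : Commute (Y * y⁻¹) t :=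
      (hzc t htz).1 _ (R.mul_mem hYR (R.inv_mem hy))
    show (Y * y⁻¹) * g = g * (Y * y⁻¹)
    calc (Y * y⁻¹) * g = t⁻¹ * ((Y * y⁻¹) * (t * g)) := by
          rw [← mul_assoc (Y * y⁻¹), h3.eq]; group
      _ = _ := by rw [h2.eq]; group
  by_cases hLZ : L ≤ Z
  · -- `S` central: `[R, A]` centralises `g`
    have hle : ⁅R, A⁆ ≤ Subgroup.centralizer ({g} : Set G) := by
      refine Subgroup.commutator_le.mpr fun y hy a ha => ?_
      rw [Subgroup.mem_centralizer_singleton_iff]
      have := hkey a ha y hy fun s hs =>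
        ((hZmem s).mp (hLZ (Subgroup.mem_sup_left hs))).2 _ (hRn a ha y hy)
      have e : ⁅y, a⁆ = (a * y * a⁻¹ * y⁻¹)⁻¹ := by simp only [commutatorElement_def]; group
      rw [e]
      exact this.inv_left.eq
    exact hgZ ((hZmem g).mpr ⟨hg, fun r hr =>
      Subgroup.mem_centralizer_singleton_iff.mp (hle (hRA hr))⟩)
  · obtain ⟨e, he, hez⟩ := SetLike.not_le_iff_exists.mp hLZ
    refine hez ?_
    refine fixed_mem_of_commutator (M := Z) hA ?_ hAZ inf_le_left ?_ hcop
      (Subgroup.mem_sup_left (hRA (hLR he))) fun a ha => ?_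
    · refine le_normalizer_of_conj_mem fun r hr z hz => ?_
      rw [((hZmem z).mp hz).2 r hr, mul_inv_cancel_right]; exact hz
    · rw [hder, Subgroup.zpowers_le]
      exact (hZmem c).mpr ⟨hcR, hcen⟩
    · have hYL : a * e * a⁻¹ ∈ L := conj_mem_of_le_normalizer hAL ha he
      have hd := hkey a ha e (hLR he) fun s hs => hLcomm _ hYL s (Subgroup.mem_sup_left hs)
      set d := a * e * a⁻¹ * e⁻¹ with hd'
      have hdL : d ∈ L := L.mul_mem hYL (L.inv_mem he)
      by_contra hdZ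
      have hgmem : g ∈ Subgroup.centralizer ({d} : Set G) :=
        Subgroup.mem_centralizer_singleton_iff.mpr hd.eq.symm
      have hLlt : L < L ⊔ Subgroup.zpowers g :=
        lt_of_le_of_ne le_sup_left fun h => hgL (h ▸ Subgroup.mem_sup_right (Subgroup.mem_zpowers g))
      have hle : L ⊔ Subgroup.zpowers g ≤ R := sup_le hLR ((Subgroup.zpowers_le).mpr hg)
      have htop : L ⊔ Subgroup.zpowers g = R := by
        refine Subgroup.eq_of_le_of_card_ge hle (hRsq.trans ?_)
        have a1 := card_le_mul_of_lt (hR.to_le hLR)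
          (lt_of_le_of_ne le_sup_right fun h => hez (by rw [h]; exact he) : Z < L)
        have a2 := card_le_mul_of_lt (hR.to_le hle) hLlt
        calc p ^ 2 * Nat.card M = p * (p * Nat.card Z) := by rw [hMeq, sq, mul_assoc]
          _ ≤ p * Nat.card L := Nat.mul_le_mul_left p a1
          _ ≤ _ := a2
      have hdc : R ≤ Subgroup.centralizer ({d} : Set G) := htop ▸ sup_le
        (fun x hx => Subgroup.mem_centralizer_singleton_iff.mpr (hLcomm x hx d hdL))
        ((Subgroup.zpowers_le).mpr hgmem)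
      exact hdZ ((hZmem d).mpr ⟨hLR hdL, fun r hr =>
        Subgroup.mem_centralizer_singleton_iff.mp (hdc hr)⟩)

/-- A metacyclic `p`-group (`p` odd) with `[R, A] = R` under coprime action is abelian. -/
theorem commutator_eq_bot_of_metacyclic [Finite G] {p : ℕ} [Fact p.Prime] (hp : p ≠ 2)
    {R A : Subgroup G} (hR : IsPGroup p R) (hm : Cfsg.IsMetacyclic R)
    (hA : A ≤ Subgroup.normalizer (R : Set G))
    (hcop : (Nat.card A).Coprime (Nat.card R)) (hRA : R ≤ ⁅R, A⁆) : ⁅R, R⁆ = ⊥ := by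
  by_contra hne
  obtain ⟨c, hc⟩ := exists_zpowers_commutator hm
  have hc1 : c ≠ 1 := fun h => hne (by rw [hc, h, Subgroup.zpowers_one_eq_bot])
  have hcR : c ∈ R := Subgroup.commutator_le_self R (hc ▸ Subgroup.mem_zpowers c)
  let M : Subgroup G := Subgroup.zpowers (c ^ p)
  let L : Subgroup G := R ⊔ A
  have hLM : L ≤ Subgroup.normalizer (M : Set G) := by
    refine le_normalizer_of_conj_mem fun l hl x hx => ?_
    have hN : L ≤ Subgroup.normalizer ((⁅R, R⁆ : Subgroup G) : Set G) :=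
      sup_le (le_normalizer_commutator Subgroup.le_normalizer Subgroup.le_normalizer)
        (le_normalizer_commutator hA hA)
    have := conj_mem_of_le_normalizer hN hl (hc ▸ Subgroup.mem_zpowers c)
    rw [hc] at this
    obtain ⟨i, hi⟩ := this
    obtain ⟨k, rfl⟩ := hx
    refine ⟨i * k, ?_⟩
    show (c ^ p) ^ (i * k) = l * (c ^ p) ^ k * l⁻¹
    rw [← conj_zpow, ← conj_pow, ← hi, zpow_mul]
    congr 1
    rw [← zpow_natCast, ← zpow_natCast, ← zpow_mul, ← zpow_mul, mul_comm]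
  have hn : (M.subgroupOf L).Normal := Subgroup.normal_subgroupOf_of_le_normalizer hLM
  let f : L →* L ⧸ M.subgroupOf L := QuotientGroup.mk' _
  have hRL : R ≤ L := le_sup_left
  have hAL : A ≤ L := le_sup_right
  let R' := R.subgroupOf L
  let A' := A.subgroupOf L
  have eR : R'.map L.subtype = R := Subgroup.map_subgroupOf_eq_of_le hRL
  have eA : A'.map L.subtype = A := Subgroup.map_subgroupOf_eq_of_le hAL
  let c' : L := ⟨c, hRL hcR⟩
  have hder' : ⁅R', R'⁆ = Subgroup.zpowers c' := by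
    apply Subgroup.map_injective L.subtype_injective
    rw [Subgroup.map_commutator, eR, MonoidHom.map_zpowers]
    exact hc
  have hRA' : R' ≤ ⁅R', A'⁆ := by
    rw [← Subgroup.map_le_map_iff_of_injective L.subtype_injective, Subgroup.map_commutator, eR, eA]
    exact hRA
  have hA' : A' ≤ Subgroup.normalizer (R' : Set L) :=
    le_normalizer_of_conj_mem fun a ha r hr =>
      conj_mem_of_le_normalizer hA (Subgroup.mem_subgroupOf.mp ha) (Subgroup.mem_subgroupOf.mp hr)
  have hcardR : Nat.card R' = Nat.card R :=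
    Nat.card_congr (Subgroup.subgroupOfEquivOfLe hRL).toEquiv
  have hcardA : Nat.card A' = Nat.card A :=
    Nat.card_congr (Subgroup.subgroupOfEquivOfLe hAL).toEquiv
  have hp' : p.Prime := Fact.out
  refine false_of_commutator_prime (R := R'.map f) (A := A'.map f) (c := f c') hp ?_ ?_ ?_ ?_ ?_
    ?_ ?_ ?_
  · exact (hR.comap_of_injective L.subtype L.subtype_injective).map f
  · exact isMetacyclic_of_surjective (f.subgroupMap R') (f.subgroupMap_surjective R')
      (isMetacyclic_of_injective (Subgroup.subgroupOfEquivOfLe hRL).toMonoidHom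
        (Subgroup.subgroupOfEquivOfLe hRL).injective hm)
  · exact (Subgroup.map_mono hA').trans (Subgroup.le_normalizer_map f)
  · refine (Nat.Coprime.coprime_dvd_left (Subgroup.card_map_dvd A' f) ?_).coprime_dvd_right
      (Subgroup.card_map_dvd R' f)
    rw [hcardR, hcardA]; exact hcop
  · rw [← Subgroup.map_commutator]
    exact Subgroup.map_mono hRA'
  · intro h
    have h1 : c ∈ Subgroup.zpowers (c ^ p) :=
      Subgroup.mem_subgroupOf.mp ((QuotientGroup.eq_one_iff c').mp h)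
    obtain ⟨k, hk⟩ := IsPGroup.iff_orderOf.mp hR ⟨c, hcR⟩
    rw [Subgroup.orderOf_mk] at hk
    have hk0 : k ≠ 0 := by
      rintro rfl
      exact hc1 (orderOf_eq_one_iff.mp (by simpa using hk))
    have hd : p ∣ orderOf c := hk ▸ dvd_pow_self p hk0
    have h2 := Subgroup.orderOf_dvd_natCard _ h1
    rw [Nat.card_zpowers, orderOf_pow_of_dvd hp'.pos.ne' hd] at h2
    have h3 : orderOf c / p < orderOf c := Nat.div_lt_self (orderOf_pos c) hp'.one_lt
    exact absurd (Nat.le_of_dvd (Nat.div_pos (Nat.le_of_dvd (orderOf_pos c) hd) hp'.pos) h2)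
      (not_le.mpr h3)
  · rw [← map_pow]
    exact (QuotientGroup.eq_one_iff _).mpr
      (Subgroup.mem_subgroupOf.mpr (Subgroup.mem_zpowers (c ^ p)))
  · rw [← Subgroup.map_commutator, hder', MonoidHom.map_zpowers]

end H83
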