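import Cfsg.Agent.H80.FrobFixed
import Cfsg.Agent.H2.FPFSubgroup
import Cfsg.Agent.H2.FrobeniusKernel
import Cfsg.Agent.H33.TwoPrime
import Cfsg.Agent.H35.Basic
import Cfsg.Agent.H81.Fitting
import Cfsg.Agent.H83.TrivAction
import Mathlib.GroupTheory.Frattini
import Mathlib.Algebra.IsPrimePow

/-!
If every element outside a non-soluble normal subgroup `N` has prime power order then the quotient
is soluble: a minimal non-soluble subgroup of the quotient would have all Sylow subgroups for its
smallest prime self-centralising TI with a unique subgroup of prime order, so be a Frobenius group.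
-/

set_option autoImplicit false
set_option linter.style.haveILetI false

open Cfsg
open scoped Pointwise

namespace H83

namespace OutsideEPPO

universe u

theorem eq_of_isPrimePow {n r t : ℕ} (hn : IsPrimePow n) (hr : r.Prime) (ht : t.Prime) (hrn : r ∣ n)
    (htn : t ∣ n) : r = t := by
  obtain ⟨p, k, hp, -, rfl⟩ := (isPrimePow_nat_iff _).mp hn
  rw [(Nat.prime_dvd_prime_iff_eq hr hp).mp (hr.dvd_of_dvd_pow hrn),
    (Nat.prime_dvd_prime_iff_eq ht hp).mp (ht.dvd_of_dvd_pow htn)]

/-- A group, all of whose proper subgroups are soluble, is soluble if the centralisers of its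
elements of smallest prime order `r` are `r`-groups and commuting elements of order `r` generate
the same subgroup. -/
theorem isSolvable_of_isolated {M : Type u} [Group M] [Finite M] {r : ℕ} [Fact r.Prime]
    (hr : r ∣ Nat.card M) (hmin : ∀ t : ℕ, t.Prime → t ∣ Nat.card M → r ≤ t)
    (hproper : ∀ K : Subgroup M, K ≠ ⊤ → Group.IsSolvable K)
    (hcent : ∀ z : M, orderOf z = r → IsPGroup r (Subgroup.centralizer ({z} : Set M)))
    (huniq : ∀ y z : M, orderOf y = r → orderOf z = r → Commute y z → y ∈ Subgroup.zpowers z) :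
    Group.IsSolvable M := by
  classical
  obtain ⟨R⟩ := (inferInstance : Nonempty (Sylow r M))
  have hrp : r.Prime := Fact.out
  haveI hRnt : Nontrivial (R : Subgroup M) :=
    (Subgroup.nontrivial_iff_ne_bot _).mpr (R.ne_bot_of_dvd_card hr)
  by_cases hRtop : (R : Subgroup M) = ⊤
  · haveI : Group.IsNilpotent (⊤ : Subgroup M) := hRtop ▸ R.isPGroup'.isNilpotent
    haveI : Group.IsNilpotent M := (Group.isNilpotent_congr Subgroup.topEquiv).mp inferInstance
    infer_instance
  haveI : Nontrivial (Subgroup.center (R : Subgroup M)) := R.isPGroup'.center_nontrivial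
  have hdvd : r ∣ Nat.card (Subgroup.center (R : Subgroup M)) := by
    obtain ⟨n, hn⟩ := IsPGroup.iff_card.mp (R.isPGroup'.to_subgroup (Subgroup.center _))
    rw [hn]
    exact dvd_pow_self r fun h0 => (Finite.one_lt_card
      (α := Subgroup.center (R : Subgroup M))).ne' (by rw [hn, h0, pow_zero])
  obtain ⟨⟨⟨z, hzR⟩, hzc⟩, hz⟩ := exists_prime_orderOf_dvd_card' r hdvd
  rw [Subgroup.orderOf_mk, Subgroup.orderOf_mk] at hz
  have hCR : Subgroup.centralizer ({z} : Set M) = R := R.3 (hcent z hz) fun y hy =>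
    Subgroup.mem_centralizer_singleton_iff.mpr
      (congrArg Subtype.val (Subgroup.mem_center_iff.mp hzc ⟨y, hy⟩))
  have hcomm : ∀ y : M, y ∈ (R : Subgroup M) → y * z = z * y := fun y hy =>
    Subgroup.mem_centralizer_singleton_iff.mp (hCR ▸ hy)
  have hfrob : IsFrobeniusComplement (R : Subgroup M) := by
    refine ⟨R.ne_bot_of_dvd_card hr, hRtop, fun g hg => ?_⟩
    by_contra hne
    set I := (R : Subgroup M) ⊓ (MulAut.conj g • (R : Subgroup M)) with hI
    haveI : Nontrivial I := (Subgroup.nontrivial_iff_ne_bot _).mpr hne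
    have hdvdI : r ∣ Nat.card I := by
      obtain ⟨n, hn⟩ := IsPGroup.iff_card.mp (R.isPGroup'.to_le (inf_le_left : I ≤ R))
      rw [hn]
      exact dvd_pow_self r fun h0 =>
        (Finite.one_lt_card (α := I)).ne' (by rw [hn, h0, pow_zero])
    obtain ⟨w', hw⟩ := exists_prime_orderOf_dvd_card' r hdvdI
    rw [← Subgroup.orderOf_coe] at hw
    obtain ⟨hwR, hwg⟩ := Subgroup.mem_inf.mp w'.2
    set w := (w' : M) with hwdef
    obtain ⟨v, hv, hvw⟩ := hwg
    have hvw' : g * v * g⁻¹ = w := hvw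
    have hv' : orderOf v = r := by rw [← hw, ← hvw']; exact (MulEquiv.orderOf_eq (MulAut.conj g) v).symm
    have hwz := huniq w z hw hz (hcomm w hwR)
    have hvz := huniq z v hz hv' (hcomm v hv).symm
    -- `g` normalises `zpowers z`
    obtain ⟨i, hi⟩ : ∃ i : ℕ, g * z * g⁻¹ = z ^ i := by
      obtain ⟨j, hj⟩ := hvz
      have hj' : v ^ j = z := hj
      have he : g * z * g⁻¹ = w ^ j := by
        rw [← hvw', conj_zpow, hj']
      have h1 : g * z * g⁻¹ ∈ Subgroup.zpowers z := by
        rw [he]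
        exact Subgroup.zpow_mem _ hwz j
      rw [← mem_powers_iff_mem_zpowers] at h1
      obtain ⟨i, hi⟩ := h1
      exact ⟨i, hi.symm⟩
    have hpow : ∀ m : ℕ, g ^ m * z * (g ^ m)⁻¹ = z ^ i ^ m := by
      intro m
      induction m with
      | zero => simp
      | succ m ih =>
        rw [pow_succ', show g * g ^ m * z * (g * g ^ m)⁻¹ = g * (g ^ m * z * (g ^ m)⁻¹) * g⁻¹ by
          group, ih, ← conj_pow, hi, ← pow_mul, ← pow_succ']
    have hz1 : z ^ i ^ orderOf g = z := by rw [← hpow, pow_orderOf_eq_one]; group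
    have hmod : (i : ZMod r) ^ orderOf g = 1 := by
      have h := (pow_eq_pow_iff_modEq (x := z)).mp (hz1.trans (pow_one z).symm)
      rw [hz, ← ZMod.natCast_eq_natCast_iff] at h
      simpa using h
    have hi0 : (i : ZMod r) ≠ 0 := fun h0 => by
      rw [h0, zero_pow (orderOf_pos g).ne'] at hmod
      exact zero_ne_one hmod
    have hcop : (orderOf g).Coprime (r - 1) := by
      by_contra hnc
      obtain ⟨t, ht, htg, htr⟩ := Nat.Prime.not_coprime_iff_dvd.mp hnc
      have h1 := hmin t ht (htg.trans (orderOf_dvd_natCard g))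
      have h2 := Nat.le_of_dvd (by have := hrp.two_le; omega) htr
      have := hrp.two_le
      omega
    have hi1 : (i : ZMod r) = 1 := by
      have := pow_gcd_eq_one.mpr ⟨hmod, ZMod.pow_card_sub_one_eq_one hi0⟩
      rwa [hcop.gcd_eq_one, pow_one] at this
    have hzi : z ^ i = z := by
      rw [← pow_one z, ← pow_mul, one_mul, pow_eq_pow_iff_modEq, hz,
        ← ZMod.natCast_eq_natCast_iff]
      simpa using hi1
    apply hg
    rw [← hCR, Subgroup.mem_centralizer_singleton_iff]
    rw [hzi, mul_inv_eq_iff_eq_mul] at hi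
    exact hi
  obtain ⟨K, -, hKn, hK⟩ := H2.exists_kernel hfrob
  haveI := hKn
  have hKtop : K ≠ ⊤ := fun h => by
    refine R.ne_bot_of_dvd_card hr ?_
    have hd := hK.disjoint
    rw [h, disjoint_iff, top_inf_eq] at hd
    exact hd
  haveI := hproper K hKtop
  haveI : Group.IsNilpotent (R : Subgroup M) := R.isPGroup'.isNilpotent
  haveI : Group.IsSolvable (M ⧸ K) := Group.isSolvable_of_surjective
    (f := (QuotientGroup.mk' K).comp (R : Subgroup M).subtype) (by
      intro y
      obtain ⟨m, rfl⟩ := QuotientGroup.mk'_surjective K y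
      have hm : m ∈ ((K : Set M) * ((R : Subgroup M) : Set M)) := by rw [hK.mul_eq]; trivial
      obtain ⟨k, hk, y, hy, rfl⟩ := hm
      refine ⟨⟨y, hy⟩, ?_⟩
      show QuotientGroup.mk' K y = QuotientGroup.mk' K (k * y)
      rw [map_mul, show QuotientGroup.mk' K k = 1 from (QuotientGroup.eq_one_iff k).mpr hk, one_mul])
  exact Group.isSolvable_of_ker_le_range K.subtype (QuotientGroup.mk' K)
    (by rw [QuotientGroup.ker_mk', Subgroup.range_subtype])

/-- Join of a normalised soluble subgroup with a soluble subgroup. -/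
theorem isSolvable_sup' {G : Type u} [Group G] {A V : Subgroup G} (hA : Group.IsSolvable A)
    (hV : Group.IsSolvable V) (hAV : A ≤ Subgroup.normalizer (V : Set G)) :
    Group.IsSolvable (A ⊔ V : Subgroup G) := by
  set H := A ⊔ V with hH
  haveI hN : (V.subgroupOf H).Normal :=
    Subgroup.normal_subgroupOf_of_le_normalizer (sup_le hAV Subgroup.le_normalizer)
  haveI := hA
  haveI := hV
  haveI : Group.IsSolvable (V.subgroupOf H) :=
    Group.isSolvable_of_surjective (f := (Subgroup.subgroupOfEquivOfLe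
      (le_sup_right : V ≤ H)).symm.toMonoidHom) (MulEquiv.surjective _)
  let f : A →* H ⧸ V.subgroupOf H :=
    (QuotientGroup.mk' _).comp (Subgroup.inclusion (le_sup_left : A ≤ H))
  have hf : Function.Surjective f := by
    intro y
    obtain ⟨⟨y, hy⟩, rfl⟩ := QuotientGroup.mk'_surjective _ y
    have hy' : y ∈ ((A ⊔ V : Subgroup G) : Set G) := hy
    rw [Subgroup.coe_mul_of_left_le_normalizer_right A V hAV] at hy'
    obtain ⟨a, ha, v, hv, rfl⟩ := hy'
    refine ⟨⟨a, ha⟩, QuotientGroup.eq.mpr ?_⟩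
    simpa [Subgroup.mem_subgroupOf] using hv
  haveI : Group.IsSolvable (H ⧸ V.subgroupOf H) := Group.isSolvable_of_surjective hf
  refine Group.isSolvable_of_ker_le_range (V.subgroupOf H).subtype
    (QuotientGroup.mk' (V.subgroupOf H)) ?_
  rw [QuotientGroup.ker_mk', Subgroup.range_subtype]

variable {G : Type u} [Group G] [Finite G]

/-- If every element outside a non-soluble normal subgroup has prime power order, the quotient is
soluble. -/
theorem isSolvable_quotient (N : Subgroup G) [N.Normal] (hns : ¬ Group.IsSolvable ↥N)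
    (h : ∀ x : G, x ∉ N → IsPrimePow (orderOf x)) : Group.IsSolvable (G ⧸ N) := by
  classical
  by_contra hQ
  set π := QuotientGroup.mk' N with hπdef
  have hπ1 : ∀ g : G, π g = 1 ↔ g ∈ N := fun g => QuotientGroup.eq_one_iff g
  -- a minimal non-soluble subgroup of the quotient
  obtain ⟨M, hM⟩ := exists_minimal_of_wellFoundedLT
    (fun M : Subgroup (G ⧸ N) => ¬ Group.IsSolvable M)
    ⟨⊤, fun h' => hQ (haveI := h'; Group.isSolvable_of_surjective
      (f := (Subgroup.topEquiv (G := G ⧸ N)).toMonoidHom) (MulEquiv.surjective _))⟩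
  have hMsol : ∀ K : Subgroup M, K ≠ ⊤ → Group.IsSolvable K := by
    intro K hK
    by_contra hKs
    have h1 : ¬ Group.IsSolvable (K.map M.subtype) := fun h' => hKs (haveI := h'
      Group.isSolvable_of_surjective
        (f := (Subgroup.equivMapOfInjective K M.subtype M.subtype_injective).symm.toMonoidHom)
        (MulEquiv.surjective _))
    have h2 := le_antisymm (Subgroup.map_subtype_le K)
      (hM.le_of_le h1 (Subgroup.map_subtype_le K))
    exact hK (Subgroup.map_injective M.subtype_injective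
      (by rw [h2, ← MonoidHom.range_eq_map, Subgroup.range_subtype]))
  -- orders of lifts
  have hlift : ∀ g : G, g ∉ N → ∀ t : ℕ, t.Prime → t ∣ orderOf (π g) →
      ∀ t' : ℕ, t'.Prime → t' ∣ orderOf g → t' = t := fun g hg t ht htd t' ht' ht'd =>
    eq_of_isPrimePow (h g hg) ht' ht ht'd (htd.trans (orderOf_map_dvd π g))
  have hMprime : ∃ r : ℕ, r.Prime ∧ r ∣ Nat.card M ∧
      ∀ t : ℕ, t.Prime → t ∣ Nat.card M → r ≤ t := by
    have hne : Nat.card M ≠ 1 := fun h1 => hM.prop (by
      haveI := (Nat.card_eq_one_iff_unique.mp h1).1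
      exact Group.isSolvable_of_comm fun a b => Subsingleton.elim _ _)
    exact ⟨_, Nat.minFac_prime hne, Nat.minFac_dvd _,
      fun t ht htd => Nat.minFac_le_of_dvd ht.two_le htd⟩
  obtain ⟨r, hr, hrM, hmin⟩ := hMprime
  haveI : Fact r.Prime := ⟨hr⟩
  obtain ⟨q, hq, hqN, hqr⟩ : ∃ q : ℕ, q.Prime ∧ q ∣ Nat.card N ∧ q ≠ r := by
    by_contra! hcon
    exact hns (H33.isSolvable_of_two_primes hr hr fun t ht htd => Or.inl (hcon t ht htd))
  haveI : Fact q.Prime := ⟨hq⟩
  obtain ⟨t, ht, htM, htr, htq⟩ :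
      ∃ t : ℕ, t.Prime ∧ t ∣ Nat.card M ∧ t ≠ r ∧ t ≠ q := by
    by_contra! hcon
    refine hM.prop (H33.isSolvable_of_two_primes hr hq fun t ht htd => ?_)
    by_cases h1 : t = r
    · exact Or.inl h1
    · exact Or.inr (hcon t ht htd h1)
  haveI : Fact t.Prime := ⟨ht⟩
  obtain ⟨S₀⟩ := (inferInstance : Nonempty (Sylow q N))
  set S := (S₀ : Subgroup N).map N.subtype with hS
  have hfrat : Subgroup.normalizer (S : Set G) ⊔ N = ⊤ := S₀.normalizer_sup_eq_top
  obtain ⟨L, hL⟩ := exists_minimal_of_wellFoundedLT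
    (fun L : Subgroup G => L ≤ Subgroup.normalizer (S : Set G) ∧ L.map π = M)
    ⟨Subgroup.normalizer (S : Set G) ⊓ M.comap π, inf_le_left, by
      refine le_antisymm (Subgroup.map_le_iff_le_comap.mpr inf_le_right) fun y hy => ?_
      obtain ⟨g, rfl⟩ := QuotientGroup.mk'_surjective N y
      have hg : g ∈ ((Subgroup.normalizer (S : Set G) ⊔ N : Subgroup G) : Set G) := by
        rw [hfrat]; trivial
      rw [Subgroup.mul_normal] at hg
      obtain ⟨a, ha, n, hn, rfl⟩ := hg
      have han : π a = π (a * n) := by rw [map_mul, (hπ1 n).mpr hn, mul_one]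
      refine ⟨a, ⟨ha, ?_⟩, han⟩
      show π a ∈ M
      rw [han]; exact hy⟩
  obtain ⟨hLS, hLM⟩ := hL.prop
  have hsurj : ∀ y ∈ M, ∃ g ∈ L, π g = y := fun y hy => by
    rw [← hLM] at hy; exact hy
  -- `D = L ⊓ N` is nilpotent
  set D := L ⊓ N with hD
  have hDnil : Group.IsNilpotent D := by
    have hfr : D.subgroupOf L ≤ frattini L := by
      refine le_iInf₂ fun K hK => ?_
      by_contra hnle
      have htop : K ⊔ D.subgroupOf L = ⊤ := hK.2 _ (lt_of_le_of_ne le_sup_left
        fun e => hnle (e ▸ le_sup_right))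
      have hmap : (K.map L.subtype).map π = M := by
        refine le_antisymm ((Subgroup.map_mono (Subgroup.map_subtype_le K)).trans hLM.le) ?_
        rw [← hLM]
        have hLeq : L = K.map L.subtype ⊔ (D.subgroupOf L).map L.subtype := by
          rw [← Subgroup.map_sup, htop, ← MonoidHom.range_eq_map, Subgroup.range_subtype]
        conv_lhs => rw [hLeq]
        rw [Subgroup.map_sup]
        refine sup_le le_rfl ?_
        rintro _ ⟨d, hd, rfl⟩
        obtain ⟨d', hd', rfl⟩ := hd
        rw [show π (L.subtype d') = 1 from (hπ1 _).mpr hd'.2]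
        exact one_mem _
      have hle := hL.le_of_le ⟨(Subgroup.map_subtype_le K).trans hLS, hmap⟩
        (Subgroup.map_subtype_le K)
      exact hK.1 (Subgroup.map_injective L.subtype_injective (by
        rw [← MonoidHom.range_eq_map, Subgroup.range_subtype]
        exact le_antisymm (Subgroup.map_subtype_le K) hle))
    haveI : Group.IsNilpotent (frattini L) := frattini_nilpotent
    have hn : Group.IsNilpotent (D.subgroupOf L) :=
      (Group.isNilpotent_congr (Subgroup.subgroupOfEquivOfLe hfr)).mp inferInstance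
    exact (Group.isNilpotent_congr (Subgroup.subgroupOfEquivOfLe inf_le_left)).mp hn
  have hLD : L ≤ Subgroup.normalizer (D : Set G) := fun g hg =>
    Subgroup.mem_normalizer_iff.mpr fun x =>
      ⟨fun hx => ⟨L.mul_mem (L.mul_mem hg hx.1) (L.inv_mem hg),
        Subgroup.Normal.conj_mem inferInstance x hx.2 g⟩,
      fun hx => ⟨by simpa [mul_assoc] using L.mul_mem (L.mul_mem (L.inv_mem hg) hx.1) hg,
        by simpa [mul_assoc] using Subgroup.Normal.conj_mem inferInstance _ hx.2 g⁻¹⟩⟩
  -- the module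
  obtain ⟨s, hs, V, hV1, hVc, hVs, hsr, hVN, hLV, hDV⟩ :
      ∃ s : ℕ, s.Prime ∧ ∃ V : Subgroup G, V ≠ ⊥ ∧ IsMulCommutative V ∧ IsPGroup s V ∧ s ≠ r ∧
        V ≤ N ∧ L ≤ Subgroup.normalizer (V : Set G) ∧ D ≤ Subgroup.centralizer (V : Set G) := by
    have hcentre : ∀ (s : ℕ) [Fact s.Prime] (P : Subgroup G), P ≠ ⊥ → IsPGroup s P → P ≤ N →
        L ≤ Subgroup.normalizer (P : Set G) →
        ∃ V : Subgroup G, V ≠ ⊥ ∧ IsMulCommutative V ∧ IsPGroup s V ∧ V ≤ N ∧
          L ≤ Subgroup.normalizer (V : Set G) ∧ V ≤ P ∧ ∀ v ∈ V, ∀ x ∈ P, x * v = v * x := by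
      intro s _ P hP hPs hPN hLP
      haveI : Nontrivial P := (Subgroup.nontrivial_iff_ne_bot _).mpr hP
      haveI : Nontrivial (Subgroup.center P) := hPs.center_nontrivial
      refine ⟨(Subgroup.center P).map P.subtype, ?_, ⟨⟨?_⟩⟩,
        (hPs.to_subgroup _).map _, (Subgroup.map_subtype_le _).trans hPN,
        le_normalizer_map_of_characteristic hLP _, Subgroup.map_subtype_le _, ?_⟩
      · rw [Ne, Subgroup.map_eq_bot_iff_of_injective _ P.subtype_injective]
        exact (Subgroup.nontrivial_iff_ne_bot _).mp inferInstance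
      · rintro ⟨_, x, hx, rfl⟩ ⟨_, y, -, rfl⟩
        exact Subtype.ext (congrArg Subtype.val (Subgroup.mem_center_iff.mp hx y)).symm
      · rintro _ ⟨v, hv, rfl⟩ x hx
        exact congrArg Subtype.val (Subgroup.mem_center_iff.mp hv ⟨x, hx⟩)
    by_cases hsD : ∃ s : ℕ, s.Prime ∧ s ∣ Nat.card D ∧ s ≠ r
    · obtain ⟨s, hs, hsd, hsr⟩ := hsD
      haveI : Fact s.Prime := ⟨hs⟩
      obtain ⟨P₀⟩ := (inferInstance : Nonempty (Sylow s D))
      haveI := hDnil
      haveI : (P₀ : Subgroup D).Normal := inferInstance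
      haveI : (P₀ : Subgroup D).Characteristic := by
        haveI : Subsingleton (Sylow s D) := (Sylow.unique_of_normal P₀ inferInstance).instSubsingleton
        exact Sylow.characteristic_of_subsingleton P₀
      set P := (P₀ : Subgroup D).map D.subtype with hP
      have hPne : P ≠ ⊥ := by
        rw [hP, Ne, Subgroup.map_eq_bot_iff_of_injective _ D.subtype_injective]
        exact P₀.ne_bot_of_dvd_card hsd
      obtain ⟨V, hV1, hVc, hVs, hVN, hLV, hVP, hVcent⟩ := hcentre s P hPne (P₀.isPGroup'.map _)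
        ((Subgroup.map_subtype_le _).trans inf_le_right) (le_normalizer_map_of_characteristic hLD _)
      refine ⟨s, hs, V, hV1, hVc, hVs, hsr, hVN, hLV, fun d hd => ?_⟩
      rw [Subgroup.mem_centralizer_iff]
      intro v hv
      have hvD : v ∈ D := Subgroup.map_subtype_le _ (hVP hv)
      suffices htop : Subgroup.centralizer ({⟨v, hvD⟩} : Set D) = ⊤ by
        have := (htop.symm ▸ Subgroup.mem_top (⟨d, hd⟩ : D) :
          (⟨d, hd⟩ : D) ∈ Subgroup.centralizer ({⟨v, hvD⟩} : Set D))
        exact (congrArg Subtype.val (Subgroup.mem_centralizer_singleton_iff.mp this)).symm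
      refine H35.eq_top_of_prime_pow_mem _ fun t' b x ht' hx => ?_
      rw [Subgroup.mem_centralizer_singleton_iff]
      by_cases hts : t' = s
      · subst hts
        have hxP : x ∈ (P₀ : Subgroup D) := by
          have hpg : IsPGroup t' (Subgroup.zpowers x) :=
            IsPGroup.iff_card.mpr ⟨b, by rw [Nat.card_zpowers, hx]⟩
          obtain ⟨P₁, hP₁⟩ := hpg.exists_le_sylow
          haveI : Subsingleton (Sylow t' D) :=
            (Sylow.unique_of_normal P₀ inferInstance).instSubsingleton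
          rw [Subsingleton.elim P₁ P₀] at hP₁
          exact hP₁ (Subgroup.mem_zpowers x)
        exact Subtype.ext (hVcent v hv x ⟨x, hxP, rfl⟩)
      · refine (H81.commute_of_coprime_orderOf hDnil ?_).eq
        obtain ⟨c, hc⟩ := hVs ⟨v, hv⟩
        have hvc : orderOf (⟨v, hvD⟩ : D) ∣ s ^ c :=
          orderOf_dvd_of_pow_eq_one (Subtype.ext (congrArg Subtype.val hc :))
        rw [hx]
        exact (Nat.Coprime.pow b c ((Nat.coprime_primes ht' hs).mpr hts)).coprime_dvd_right hvc
    · push Not at hsD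
      have hDr : IsPGroup r D := IsPGroup.iff_card.mpr
        ⟨(Nat.card D).primeFactorsList.length, Nat.eq_prime_pow_of_unique_prime_dvd Nat.card_pos.ne'
          fun {t'} ht' htd => hsD t' ht' htd⟩
      have hSne : S ≠ ⊥ := by
        rw [hS, Ne, Subgroup.map_eq_bot_iff_of_injective _ N.subtype_injective]
        exact S₀.ne_bot_of_dvd_card hqN
      obtain ⟨V, hV1, hVc, hVq, hVN, hLV, hVP, -⟩ := hcentre q S hSne (S₀.isPGroup'.map _)
        (Subgroup.map_subtype_le _) hLS
      refine ⟨q, hq, V, hV1, hVc, hVq, hqr, hVN, hLV, ?_⟩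
      obtain ⟨⟨y, hyM⟩, hy⟩ := exists_prime_orderOf_dvd_card' t htM
      rw [Subgroup.orderOf_mk] at hy
      obtain ⟨x, hxL, hxy⟩ := hsurj y hyM
      have hxN : x ∉ N := fun hx => ht.ne_one (by
        rw [← hy, ← hxy, (hπ1 x).mpr hx, orderOf_one])
      obtain ⟨p', k, hp', hk, hpk⟩ := (isPrimePow_nat_iff _).mp (h x hxN)
      have hp't : p' = t := hlift x hxN t ht (by rw [hxy, hy]) p' hp'
        (hpk ▸ dvd_pow_self p' hk.ne')
      subst hp't
      have hxo : orderOf x = p' := by
        have hxt : x ^ p' ∈ D := ⟨pow_mem hxL _, (hπ1 _).mp (by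
          rw [map_pow, hxy, ← hy, pow_orderOf_eq_one])⟩
        have hxt1 : x ^ p' = 1 := by
          obtain ⟨c, hc⟩ := hDr ⟨_, hxt⟩
          have h1 : (x ^ p') ^ r ^ c = 1 := congrArg Subtype.val hc
          have h2 : (x ^ p') ^ p' ^ k = 1 := by
            rw [← pow_mul, mul_comm, pow_mul, hpk, pow_orderOf_eq_one, one_pow]
          have := pow_gcd_eq_one.mpr ⟨h1, h2⟩
          rwa [((Nat.coprime_primes hr ht).mpr (Ne.symm htr)).pow _ _ |>.gcd_eq_one, pow_one] at this
        exact orderOf_eq_prime hxt1 fun h1 => hxN (h1 ▸ N.one_mem)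
      have hfpf : ∀ v : G, ∀ u : ℕ, u.Prime → u ≠ p' → v ∈ N → (∃ c, v ^ u ^ c = 1) →
          x * v = v * x → v = 1 := by
        intro v u hu hup hvN ⟨c, hc⟩ hxv
        by_contra hv1
        have hxvN : x * v ∉ N := fun h' => hxN (by simpa using N.mul_mem h' (N.inv_mem hvN))
        obtain ⟨c', -, hc'⟩ := (Nat.dvd_prime_pow hu).mp (orderOf_dvd_of_pow_eq_one hc)
        have hord := (show Commute x v from hxv).orderOf_mul_eq_mul_orderOf_of_coprime
          (by rw [hxo, hc']; exact ((Nat.coprime_primes ht hu).mpr (Ne.symm hup)).pow_right c')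
        refine hup (hlift _ hxvN p' ht ?_ u hu ?_)
        · rw [map_mul, (hπ1 v).mpr hvN, mul_one, hxy, hy]
        · rw [hord, hc']
          refine dvd_mul_of_dvd_right (dvd_pow_self u fun h0 => hv1 (orderOf_eq_one_iff.mp ?_)) _
          rw [hc', h0, pow_zero]
      have hVsol : Group.IsSolvable V := by haveI := hVq.isNilpotent; infer_instance
      have hDsol : Group.IsSolvable D := by haveI := hDnil; infer_instance
      refine H80.frob_fixed_pGroup (r := r) (q := q) (p := p') (Ne.symm hqr) htq htr hDr hVq hxo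
        (inf_le_left.trans hLV) (hLV hxL) (hLD hxL) ?_ ?_
        (isSolvable_sup' hDsol hVsol (inf_le_left.trans hLV))
      · refine (Subgroup.eq_bot_iff_forall _).mpr fun d hd => ?_
        obtain ⟨c, hc⟩ := hDr ⟨d, hd.1⟩
        exact hfpf d r hr (Ne.symm htr) hd.1.2 ⟨c, congrArg Subtype.val hc⟩
          (Subgroup.mem_centralizer_singleton_iff.mp hd.2).symm
      · intro v hv
        obtain ⟨c, hc⟩ := hVq ⟨v, hv.1⟩
        rw [hfpf v q hq (Ne.symm htq) (hVN hv.1) ⟨c, congrArg Subtype.val hc⟩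
          (Subgroup.mem_centralizer_singleton_iff.mp hv.2).symm]
        exact one_mem _
  haveI : Fact s.Prime := ⟨hs⟩
  -- contradiction
  refine hM.prop (isSolvable_of_isolated (r := r) hrM hmin hMsol ?_ ?_)
  · rintro ⟨z, hzM⟩ hz
    rw [Subgroup.orderOf_mk] at hz
    refine IsPGroup.iff_card.mpr
      ⟨_, Nat.eq_prime_pow_of_unique_prime_dvd Nat.card_pos.ne' fun {t'} ht' htd => ?_⟩
    by_contra hne
    haveI : Fact t'.Prime := ⟨ht'⟩
    obtain ⟨⟨⟨y, hyM⟩, hyc⟩, hy⟩ := exists_prime_orderOf_dvd_card' t' htd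
    rw [Subgroup.orderOf_mk, Subgroup.orderOf_mk] at hy
    have hyz : Commute y z :=
      congrArg Subtype.val (Subgroup.mem_centralizer_singleton_iff.mp hyc)
    have hord := hyz.orderOf_mul_eq_mul_orderOf_of_coprime
      (by rw [hy, hz]; exact (Nat.coprime_primes ht' hr).mpr hne)
    obtain ⟨g, -, hg⟩ := hsurj _ (M.mul_mem hyM hzM)
    rw [hy, hz] at hord
    have hgN : g ∉ N := fun h' => by
      rw [← hg, (hπ1 g).mpr h', orderOf_one] at hord
      exact hr.ne_one (Nat.eq_one_of_mul_eq_one_left hord.symm)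
    exact hne (eq_of_isPrimePow (h g hgN) ht' hr
      ((Dvd.intro _ (hg ▸ hord).symm : t' ∣ orderOf (π g)).trans (orderOf_map_dvd π g))
      ((Dvd.intro_left _ (hg ▸ hord).symm : r ∣ orderOf (π g)).trans (orderOf_map_dvd π g)))
  · rintro ⟨y, hyM⟩ ⟨z, hzM⟩ hy hz hyz
    rw [Subgroup.orderOf_mk] at hy hz
    have hyz' : Commute y z := congrArg Subtype.val hyz
    set E := Subgroup.closure ({y, z} : Set (G ⧸ N)) with hE
    have hEM : E ≤ M := (Subgroup.closure_le _).mpr (by
      rintro w (rfl | rfl)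
      · exact hyM
      · exact hzM)
    haveI hEc : IsMulCommutative E := Subgroup.isMulCommutative_closure (by
      rintro a (rfl | rfl) b (rfl | rfl)
      · rfl
      · exact hyz'.eq
      · exact hyz'.eq.symm
      · rfl)
    have hexp : ∀ w ∈ E, w ^ r = 1 := fun w hw => by
      refine Subgroup.closure_induction (p := fun w _ => w ^ r = 1) ?_ (one_pow _) ?_ ?_ hw
      · rintro w (rfl | rfl)
        · rw [← hy, pow_orderOf_eq_one]
        · rw [← hz, pow_orderOf_eq_one]
      · intro a b ha hb ha1 hb1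
        have hab : Commute a b := congrArg Subtype.val (hEc.is_comm.comm ⟨a, ha⟩ ⟨b, hb⟩)
        rw [hab.mul_pow, ha1, hb1, one_mul]
      · intro a _ ha1
        rw [inv_pow, ha1, inv_one]
    set U := L ⊓ E.comap π with hU
    have hUV : U ≤ Subgroup.normalizer (V : Set G) := inf_le_left.trans hLV
    let φ : U →* MulAut V := V.normalizerMonoidHom.comp (Subgroup.inclusion hUV)
    have hφ : ∀ (u : U) (v : V), ((φ u v : V) : G) = (u : G) * v * (u : G)⁻¹ := fun _ _ => rfl
    have hφ0 : ∀ u : U, φ u = 1 → (u : G) ∈ N := by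
      intro u hu
      by_contra huN
      obtain ⟨v, hv, hv1⟩ : ∃ v ∈ V, v ≠ 1 := by
        by_contra! hcon
        exact hV1 ((Subgroup.eq_bot_iff_forall _).mpr hcon)
      have hw1 : π (u : G) ≠ 1 := fun h' => huN ((hπ1 _).mp h')
      have hwo : orderOf (π (u : G)) = r := orderOf_eq_prime (hexp _ u.2.2) hw1
      have hcom : Commute (u : G) v := mul_inv_eq_iff_eq_mul.mp
        (by rw [← hφ u ⟨v, hv⟩, hu]; rfl)
      obtain ⟨c, hc⟩ := hVs ⟨v, hv⟩
      obtain ⟨c', -, hc'⟩ := (Nat.dvd_prime_pow hs).mp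
        (orderOf_dvd_of_pow_eq_one (congrArg Subtype.val hc : v ^ s ^ c = 1))
      obtain ⟨p', k, hp', hk, hpk⟩ := (isPrimePow_nat_iff _).mp (h _ huN)
      have hp'r : p' = r := hlift _ huN r hr (by rw [hwo]) p' hp'
        (hpk ▸ dvd_pow_self p' hk.ne')
      have hord := hcom.orderOf_mul_eq_mul_orderOf_of_coprime
        (by rw [← hpk, hp'r, hc']; exact ((Nat.coprime_primes hr hs).mpr (Ne.symm hsr)).pow _ _)
      have huvN : (u : G) * v ∉ N := fun h' =>
        huN (by simpa using N.mul_mem h' (N.inv_mem (hVN hv)))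
      refine hsr (hlift _ huvN r hr ?_ s hs ?_)
      · rw [map_mul, (hπ1 v).mpr (hVN hv), mul_one, hwo]
      · rw [hord, hc']
        refine dvd_mul_of_dvd_right (dvd_pow_self s fun h0 => hv1 (orderOf_eq_one_iff.mp ?_)) _
        rw [hc', h0, pow_zero]
    have hker : ∀ u : U, (u : G) ∈ N → φ u = 1 := fun u huN => MulEquiv.ext fun v => by
      refine Subtype.ext ?_
      rw [hφ]
      show (u : G) * v * (u : G)⁻¹ = v
      rw [← Subgroup.mem_centralizer_iff.mp (hDV ⟨u.2.1, huN⟩) v v.2]
      group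
    haveI : IsMulCommutative φ.range := ⟨⟨by
      rintro ⟨_, a, rfl⟩ ⟨_, b, rfl⟩
      refine Subtype.ext ?_
      show φ a * φ b = φ b * φ a
      rw [← map_mul, ← map_mul, ← inv_mul_eq_one, ← map_inv, ← map_mul]
      refine hker _ ((hπ1 _).mp ?_)
      push_cast
      have hab : π (a : G) * π (b : G) = π (b : G) * π (a : G) :=
        congrArg Subtype.val (hEc.is_comm.comm ⟨_, a.2.2⟩ ⟨_, b.2.2⟩)
      rw [map_mul, map_inv, map_mul, map_mul, hab]
      exact inv_mul_cancel _⟩⟩
    haveI := hVc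
    letI := H2.commGroupOfComm V
    have hfpf : ∀ a : φ.range, a ≠ 1 → ∀ v : V, a • v = v → v = 1 := by
      rintro ⟨_, a, rfl⟩ ha v hv
      by_contra hv1
      have hav : φ a v = v := hv
      have haN : (a : G) ∉ N := fun h' => ha (Subtype.ext (hker a h'))
      have hw1 : π (a : G) ≠ 1 := fun h' => haN ((hπ1 _).mp h')
      have hwo : orderOf (π (a : G)) = r := orderOf_eq_prime (hexp _ a.2.2) hw1
      have hcom : Commute (a : G) (v : G) := mul_inv_eq_iff_eq_mul.mp
        (by rw [← hφ a v, hav])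
      obtain ⟨c, hc⟩ := hVs v
      obtain ⟨c', -, hc'⟩ := (Nat.dvd_prime_pow hs).mp
        (orderOf_dvd_of_pow_eq_one (congrArg Subtype.val hc : (v : G) ^ s ^ c = 1))
      obtain ⟨p', k, hp', hk, hpk⟩ := (isPrimePow_nat_iff _).mp (h _ haN)
      have hp'r : p' = r := hlift _ haN r hr (by rw [hwo]) p' hp'
        (hpk ▸ dvd_pow_self p' hk.ne')
      have hord := hcom.orderOf_mul_eq_mul_orderOf_of_coprime
        (by rw [← hpk, hp'r, hc']; exact ((Nat.coprime_primes hr hs).mpr (Ne.symm hsr)).pow _ _)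
      have huvN : (a : G) * v ∉ N := fun h' =>
        haN (by simpa using N.mul_mem h' (N.inv_mem (hVN v.2)))
      refine hsr (hlift _ huvN r hr ?_ s hs ?_)
      · rw [map_mul, (hπ1 _).mpr (hVN v.2), mul_one, hwo]
      · rw [hord, hc']
        refine dvd_mul_of_dvd_right (dvd_pow_self s fun h0 => hv1 (Subtype.ext
          (orderOf_eq_one_iff.mp ?_))) _
        rw [hc', h0, pow_zero]
    haveI : Nontrivial V := V.nontrivial_iff_ne_bot.mpr hV1
    haveI := H2.isCyclic_of_fpf_comm (M := V) hfpf fun a b => IsMulCommutative.is_comm.comm a b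
    obtain ⟨⟨_, u₀, rfl⟩, hgen⟩ := IsCyclic.exists_generator (α := φ.range)
    -- `E` is generated by the image of `u₀`
    have hEz : ∀ w ∈ E, w ∈ Subgroup.zpowers (π (u₀ : G)) := by
      intro w hw
      obtain ⟨g, hgL, hg⟩ := hsurj w (hEM hw)
      have hgU : g ∈ U := ⟨hgL, by show π g ∈ E; rw [hg]; exact hw⟩
      obtain ⟨i, hi⟩ := hgen ⟨φ ⟨g, hgU⟩, _, rfl⟩
      have hi' : φ u₀ ^ i = φ ⟨g, hgU⟩ := congrArg Subtype.val hi
      refine ⟨i, ?_⟩
      have h1 : ((u₀ ^ i)⁻¹ * ⟨g, hgU⟩ : U).1 ∈ N := hφ0 _ (by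
        rw [map_mul, map_inv, map_zpow, hi', inv_mul_cancel])
      rw [← hπ1] at h1
      push_cast at h1
      rw [map_mul, map_inv, map_zpow, inv_mul_eq_one] at h1
      show π (u₀ : G) ^ i = w
      rw [h1, hg]
    set e := π (u₀ : G) with he
    have hzE : z ∈ Subgroup.zpowers e := hEz z (Subgroup.subset_closure (by simp))
    have hyE : y ∈ Subgroup.zpowers e := hEz y (Subgroup.subset_closure (by simp))
    have hzeq : Subgroup.zpowers z = Subgroup.zpowers e := by
      refine Subgroup.eq_of_le_of_card_ge (Subgroup.zpowers_le.mpr hzE) ?_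
      rw [Nat.card_zpowers, Nat.card_zpowers, hz]
      exact Nat.le_of_dvd hr.pos (orderOf_dvd_of_pow_eq_one (hexp e u₀.2.2))
    obtain ⟨i, hi⟩ : y ∈ Subgroup.zpowers z := hzeq ▸ hyE
    exact ⟨i, Subtype.ext hi⟩

end OutsideEPPO

end H83
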