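import Mathlib

/-!
# The class-algebra equations for `3³ : S₄`

The unknowns are values of seven signed irreducible characters `T X Y P L M N` at `1, u, w`,
subject to the linear relations `P = X + Y`, `L = 1 + T + X`, `M = T + X + Y`, `N = L + 2 Y`.
The bilinear forms below are the class-algebra sums for the four virtual characters
`P - X - Y`, `1 + T + X - L`, `M - T - X - Y`, `N - L - 2 Y`.  The equations force `T(1) = 2` and
`T(u) = 2`.
-/

set_option autoImplicit false

namespace H83.Ti81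

variable {k : Type*} [Field k] [CharZero k]

/-- The normalised system forces `t = 2` and `x = 1/2`. -/
theorem core {x η x' t e f : k} (ht : t ≠ 0) (he : e ≠ 0) (hf : f ≠ 0) (hq : e + f ≠ 0)
    (hB : 1 + t + e ≠ 0) (hm : t + e + f ≠ 0) (hB' : 1 + t + e + 2 * f ≠ 0)
    (hE1 : x ^ 2 + 1 / (t + e + f) = (x + 1) ^ 2 / (1 + t + e))
    (hU : (e + f) / (t * (t + e + f)) =
      4 * (x + 1) ^ 2 * f / ((1 + t + e) * (1 + t + e + 2 * f)))
    (hK : (x' + η) * f + η * (1 + t + e) = -((x + 1) * f))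
    (hη : η ^ 2 * (e + f) / (e * f) = (e + f) / (t * (t + e + f)))
    (hV : x * x' - (x + 1) * (x' + η) / (1 + t + e) = (e + f) / (t * (t + e + f)))
    (hC : x' ^ 2 + η ^ 2 / e - (x' + η) ^ 2 / (1 + t + e) = 2 * ((e + f) / (t * (t + e + f)))) :
    t = 2 ∧ x = 1 / 2 := by
  obtain ⟨m, hmdef⟩ : ∃ m, m = t + e + f := ⟨_, rfl⟩
  obtain ⟨q, hqdef⟩ : ∃ q, q = e + f := ⟨_, rfl⟩
  obtain ⟨n, hndef⟩ : ∃ n, n = t + e := ⟨_, rfl⟩
  obtain ⟨s, hsdef⟩ : ∃ s, s = m * x - 1 := ⟨_, rfl⟩
  rw [← hqdef] at hq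
  rw [← hmdef] at hm
  -- the quadratic for `s`
  have P1 : n * s ^ 2 = f * (2 * s + 1 + m) := by
    have h := hE1
    rw [← hmdef] at h
    field_simp at h
    subst hsdef hndef hmdef
    linear_combination (t + e + f) * h
  have P2 : (x + 1) ^ 2 * f * m = (1 + n) * s ^ 2 := by
    have h : m * ((x + 1) ^ 2 * f * m) = m * ((1 + n) * s ^ 2) := by
      subst hsdef hndef hmdef
      linear_combination (-(1 : k)) * P1 * (1 + t + e + f)
    exact mul_left_cancel₀ hm h
  have hqB : q * (1 + m + f) = 4 * s ^ 2 * t := by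
    have h := hU
    rw [← hmdef, ← hqdef] at h
    rw [div_eq_div_iff (mul_ne_zero ht hm) (mul_ne_zero hB hB')] at h
    apply mul_left_cancel₀ hB
    rw [hndef] at P2
    linear_combination h + 4 * t * P2 + q * (1 + t + e) * hmdef
  have hB'' : 1 + m + f ≠ 0 := by
    rw [hmdef]; intro h; exact hB' (by linear_combination h)
  have hs0 : s ≠ 0 := by
    intro h
    rw [h] at hqB
    exact mul_ne_zero hq hB'' (by linear_combination hqB)
  have hx' : x' * f = -((x + 1) * f) - η * (1 + m) := by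
    linear_combination hK + η * hmdef
  have hlin : s * η * t * m = -(f * (s * t + q)) := by
    have h := hV
    rw [← hmdef, ← hqdef] at h
    field_simp at h
    have hx'' : x' * f + η * f = -((x + 1) * f) - η * (1 + t + e) := by linear_combination hK
    have h2 : (x + 1) ^ 2 * m = (1 + t + e) * (m * x ^ 2 + 1) := by
      have h := hE1
      rw [← hmdef] at h
      field_simp at h
      linear_combination -h
    apply mul_left_cancel₀ hB
    subst hsdef
    linear_combination (-f) * h + t * m * x * (1 + t + e) * hx' - t * m * (x + 1) * hx'' +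
      t * f * h2
  have hη2 : η ^ 2 * t * m = e * f := by
    have h := hη
    rw [← hmdef, ← hqdef] at h
    field_simp at h
    apply mul_left_cancel₀ hq
    linear_combination q * h
  have hchk : f * (s * t + q) ^ 2 = e * s ^ 2 * t * m := by
    apply mul_left_cancel₀ hf
    linear_combination (-(s * η * t * m) + f * (s * t + q)) * hlin + s ^ 2 * t * m * hη2
  have hlinC : -(f * t * (1 + m)) - 2 * q * n * s + e * (m ^ 2 + 2 * m - n) + f ^ 2 = 0 := by
    have h := hC
    rw [← hmdef, ← hqdef] at h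
    have hk : x' + η = (-((x + 1) * f) - η * (1 + n)) / f := by
      rw [eq_div_iff hf]; linear_combination hK + η * hndef
    have hxd : x' = (-((x + 1) * f) - η * (1 + m)) / f := by
      rw [eq_div_iff hf]; linear_combination hx'
    rw [hk, hxd, show (1 : k) + t + e = 1 + n by rw [hndef]; ring] at h
    have hn1 : (1 : k) + n ≠ 0 := by
      rw [hndef]; intro h0; exact hB (by linear_combination h0)
    field_simp at h
    apply mul_left_cancel₀ (mul_ne_zero hf hs0)
    have key : n * s ^ 3 * t * f - 2 * f ^ 2 * (s + 1 + m) * (s * t + q) +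
        s * f * (e * ((1 + m) ^ 2 - (1 + n)) + f ^ 2) - 2 * q * s * f ^ 2 = 0 := by
      apply mul_left_cancel₀ (mul_ne_zero he hn1)
      have hmn : m = n + f := by rw [hmdef, hndef]
      subst hsdef
      subst hmn
      linear_combination ((n + f) * x - 1) * h -
        e * n * t * ((n + f) * x - 1) * f * P2 -
        2 * e * (1 + n) * (x + 1) * (n + f) * f * hlin -
        ((n + f) * x - 1) * (e * ((1 + (n + f)) ^ 2 - (1 + n)) + f ^ 2) * (1 + n) * hη2
    linear_combination key - s * t * f * P1 - 2 * q * f * P1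
  have hD : q * (1 + m + f + 4 * s ^ 2) = 4 * m * s ^ 2 := by
    linear_combination hqB - 4 * s ^ 2 * hmdef + 4 * s ^ 2 * hqdef
  set D := 1 + m + f + 4 * s ^ 2 with hDdef
  have hII : 6 * s ^ 2 = (1 + m) * (1 + m - f) := by
    apply mul_left_cancel₀ (mul_ne_zero hf hm)
    have h0 : q * (f * (1 + m) + (m ^ 2 + 2 * m - n) - 2 * n * s) = 2 * f * m * (1 + m) := by
      linear_combination hlinC + f * (1 + m) * (hqdef - hmdef) +
        (m ^ 2 + 2 * m - n) * hqdef + f * hmdef - f * hndef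
    have hmn : m = n + f := by rw [hmdef, hndef]
    subst hmn
    rw [hDdef] at hD
    linear_combination (-1 / 2 : k) * ((1 + (n + f) + f + 4 * s ^ 2) * h0 -
      (f * (1 + (n + f)) + ((n + f) ^ 2 + 2 * (n + f) - n) - 2 * n * s) * hD +
      4 * (n + f) * (2 * s - (1 + (n + f))) * P1)
  have hIII : 8 * s ^ 2 = (1 + m + f) * (1 + m - f) := by
    have hmn : m = n + f := by rw [hmdef, hndef]
    have hmt : t = m - q := by rw [hmdef, hqdef]; ring
    have hef : e = q - f := by rw [hqdef]; ring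
    apply mul_left_cancel₀ (mul_ne_zero hf (mul_ne_zero (mul_ne_zero hm hm) (pow_ne_zero 2 hs0)))
    have h1 : f * (s * t + q) ^ 2 * D ^ 2 = e * s ^ 2 * t * m * D ^ 2 := by rw [hchk]
    have a1 : (s * t + q) * D = m * s * (1 + m + f + 4 * s) := by
      rw [hmt, hDdef]; rw [hDdef] at hD; linear_combination (1 - s) * hD
    have a2 : t * D = m * (1 + m + f) := by
      rw [hmt, hDdef]; rw [hDdef] at hD; linear_combination -hD
    have a3 : e * D = 4 * m * s ^ 2 - f * D := by
      rw [hef, hDdef]; rw [hDdef] at hD; linear_combination hD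
    have h2 : f * ((s * t + q) * D) ^ 2 = (e * D) * (t * D) * (s ^ 2 * m) := by
      linear_combination h1
    rw [a1, a2, a3, hDdef] at h2
    subst hmn
    linear_combination (1 / 2 : k) * h2 +
      2 * (1 + (n + f) + f) * (n + f) ^ 2 * s ^ 2 * P1
  have h3f : 1 + m = 3 * f := by
    have h : (1 + m - f) * (4 * (1 + m) - 3 * (1 + m + f)) = 0 := by
      linear_combination (-4 : k) * hII + 3 * hIII
    rcases mul_eq_zero.1 h with h | h
    · exact absurd (show (1 : k) + t + e = 0 by linear_combination h + hmdef * (-1 : k)) hB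
    · linear_combination h
  have hs2 : s ^ 2 = f ^ 2 := by
    linear_combination (1 / 6 : k) * hII + (1 / 6 : k) * (1 + m + 2 * f) * h3f
  have hs : s = f ^ 2 - 2 * f := by
    have h : f * (2 * s - 2 * f ^ 2 + 4 * f) = 0 := by
      rw [hndef] at P1
      linear_combination (-1 : k) * P1 + (t + e) * hs2 +
        f ^ 2 * hmdef * (-1 : k) + (f ^ 2 - f) * h3f
    have := (mul_eq_zero.1 h).resolve_left hf
    linear_combination this / 2
  have hf13 : f = 1 ∨ f = 3 := by
    have h : f ^ 2 * ((f - 1) * (f - 3)) = 0 := by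
      rw [hs] at hs2; linear_combination hs2
    rcases mul_eq_zero.1 h with h | h
    · exact absurd (pow_eq_zero_iff two_ne_zero |>.1 h) hf
    rcases mul_eq_zero.1 h with h | h
    · exact Or.inl (by linear_combination h)
    · exact Or.inr (by linear_combination h)
  have hm3 : m = 3 * f - 1 := by linear_combination h3f
  rcases hf13 with rfl | rfl
  · exfalso
    norm_num at hs
    rw [hDdef, hm3, hs] at hD
    norm_num at hD
    exact he (by linear_combination hD - hqdef)
  · norm_num at hs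
    rw [hDdef, hm3, hs] at hD
    norm_num at hD
    refine ⟨by linear_combination -hmdef + hqdef + hm3 - hD / 48, ?_⟩
    rw [hs, hm3] at hsdef
    linear_combination (-1 / 8 : k) * hsdef

/-- The form of `P - X - Y` in the coordinates `(T, X, Y)`, degrees `(t, e, f)`. -/
def formK (d a b : k × k × k) : k :=
  (a.2.1 + a.2.2) * (b.2.1 + b.2.2) / (d.2.1 + d.2.2) - a.2.1 * b.2.1 / d.2.1 -
    a.2.2 * b.2.2 / d.2.2

/-- The form of `1 + T + X - L`. -/
def formA (d a b : k × k × k) : k :=
  1 + a.1 * b.1 / d.1 + a.2.1 * b.2.1 / d.2.1 -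
    (1 + a.1 + a.2.1) * (1 + b.1 + b.2.1) / (1 + d.1 + d.2.1)

/-- The form of `M - T - X - Y`. -/
def formP (d a b : k × k × k) : k :=
  (a.1 + a.2.1 + a.2.2) * (b.1 + b.2.1 + b.2.2) / (d.1 + d.2.1 + d.2.2) - a.1 * b.1 / d.1 -
    a.2.1 * b.2.1 / d.2.1 - a.2.2 * b.2.2 / d.2.2

/-- The form of `N - L - 2 Y`. -/
def formH (d a b : k × k × k) : k :=
  (1 + a.1 + a.2.1 + 2 * a.2.2) * (1 + b.1 + b.2.1 + 2 * b.2.2) /
      (1 + d.1 + d.2.1 + 2 * d.2.2) -
    (1 + a.1 + a.2.1) * (1 + b.1 + b.2.1) / (1 + d.1 + d.2.1) - 2 * (a.2.2 * b.2.2 / d.2.2)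

/-- The class-algebra equations at `u, w` force `T(1) = T(u) = 2`. -/
theorem solve {t e f gT gX gY hT hX hY : k} (ht : t ≠ 0) (he : e ≠ 0) (hf : f ≠ 0)
    (hq : e + f ≠ 0) (hB : 1 + t + e ≠ 0) (hm : t + e + f ≠ 0) (hB' : 1 + t + e + 2 * f ≠ 0)
    (uuK : formK (t, e, f) (gT, gX, gY) (gT, gX, gY) = 0)
    (uuP : formP (t, e, f) (gT, gX, gY) (gT, gX, gY) = -formA (t, e, f) (gT, gX, gY) (gT, gX, gY))
    (uuH : 2 * formH (t, e, f) (gT, gX, gY) (gT, gX, gY) =
      -formA (t, e, f) (gT, gX, gY) (gT, gX, gY))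
    (uuA : formA (t, e, f) (gT, gX, gY) (gT, gX, gY) ≠ 0)
    (uwP : formP (t, e, f) (gT, gX, gY) (hT, hX, hY) = 0)
    (uwH : 2 * formH (t, e, f) (gT, gX, gY) (hT, hX, hY) =
      formA (t, e, f) (gT, gX, gY) (hT, hX, hY))
    (wwA : formA (t, e, f) (hT, hX, hY) (hT, hX, hY) =
      -(2 * formK (t, e, f) (hT, hX, hY) (hT, hX, hY)))
    (wwH : 2 * formH (t, e, f) (hT, hX, hY) (hT, hX, hY) =
      formK (t, e, f) (hT, hX, hY) (hT, hX, hY))
    (wwK : formK (t, e, f) (hT, hX, hY) (hT, hX, hY) ≠ 0) :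
    t = 2 ∧ gT = 2 := by
  simp only [formK, formA, formP, formH] at *
  have hY0 : gX * f - gY * e = 0 := by
    have h := uuK
    field_simp at h
    apply pow_eq_zero_iff two_ne_zero |>.1
    linear_combination -h
  obtain ⟨r, rfl⟩ : ∃ r, gX = r * e := ⟨gX / e, by field_simp⟩
  obtain rfl : gY = r * f := by
    apply mul_left_cancel₀ he
    linear_combination -hY0
  obtain ⟨T, rfl⟩ : ∃ T, gT = T + r * t := ⟨gT - r * t, by ring⟩
  obtain ⟨x, rfl⟩ : ∃ x, r = 1 - x := ⟨1 - r, by ring⟩
  have eA : ∀ (a a' : k × k × k), a = (T, 0, 0) → a' = (T, 0, 0) →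
      1 + (T + (1 - x) * t) * (T + (1 - x) * t) / t + (1 - x) * e * ((1 - x) * e) / e -
        (1 + (T + (1 - x) * t) + (1 - x) * e) * (1 + (T + (1 - x) * t) + (1 - x) * e) /
          (1 + t + e) = x ^ 2 + T ^ 2 / t - (x + T) ^ 2 / (1 + t + e) := by
    intro _ _ _ _; field_simp; ring
  replace eA := eA _ _ rfl rfl
  have eP : (T + (1 - x) * t + (1 - x) * e + (1 - x) * f) *
        (T + (1 - x) * t + (1 - x) * e + (1 - x) * f) / (t + e + f) -
      (T + (1 - x) * t) * (T + (1 - x) * t) / t - (1 - x) * e * ((1 - x) * e) / e -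
      (1 - x) * f * ((1 - x) * f) / f = T ^ 2 / (t + e + f) - T ^ 2 / t := by
    field_simp; ring
  have eH : (1 + (T + (1 - x) * t) + (1 - x) * e + 2 * ((1 - x) * f)) *
        (1 + (T + (1 - x) * t) + (1 - x) * e + 2 * ((1 - x) * f)) / (1 + t + e + 2 * f) -
      (1 + (T + (1 - x) * t) + (1 - x) * e) * (1 + (T + (1 - x) * t) + (1 - x) * e) /
        (1 + t + e) - 2 * ((1 - x) * f * ((1 - x) * f) / f) =
      (x + T) ^ 2 / (1 + t + e + 2 * f) - (x + T) ^ 2 / (1 + t + e) := by
    field_simp; ring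
  rw [eP, eA] at uuP
  rw [eH, eA] at uuH
  rw [eA] at uuA
  clear eP eA eH uuK hY0
  have hT0 : T ≠ 0 := by
    rintro rfl
    apply uuA
    have := uuP
    simp only [ne_eq, OfNat.ofNat_ne_zero, not_false_eq_true, zero_pow, zero_div, sub_zero] at this
    linear_combination this
  obtain ⟨ρ, hρ⟩ : ∃ ρ, ρ = (hX + hY) / (e + f) := ⟨_, rfl⟩
  obtain ⟨η, rfl⟩ : ∃ η, hX = η + ρ * e := ⟨hX - ρ * e, by ring⟩
  obtain rfl : hY = ρ * f - η := by
    have h := hρ
    field_simp at h
    linear_combination -h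
  clear hρ
  obtain ⟨T', rfl⟩ : ∃ T', hT = T' + ρ * t := ⟨hT - ρ * t, by ring⟩
  obtain ⟨x', rfl⟩ : ∃ x', ρ = 1 - x' := ⟨1 - ρ, by ring⟩
  obtain rfl : T' = 0 := by
    have e1 : (T + (1 - x) * t + (1 - x) * e + (1 - x) * f) *
          (T' + (1 - x') * t + (η + (1 - x') * e) + ((1 - x') * f - η)) / (t + e + f) -
        (T + (1 - x) * t) * (T' + (1 - x') * t) / t - (1 - x) * e * (η + (1 - x') * e) / e -
        (1 - x) * f * ((1 - x') * f - η) / f = T * T' * (1 / (t + e + f) - 1 / t) := by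
      field_simp; ring
    rw [e1] at uwP
    rcases mul_eq_zero.1 uwP with h | h
    · exact (mul_eq_zero.1 h).resolve_left hT0
    · exfalso
      field_simp at h
      exact hq (by linear_combination -h)
  clear uwP
  have fA : 1 + (T + (1 - x) * t) * (0 + (1 - x') * t) / t +
      (1 - x) * e * (η + (1 - x') * e) / e -
      (1 + (T + (1 - x) * t) + (1 - x) * e) * (1 + (0 + (1 - x') * t) + (η + (1 - x') * e)) /
        (1 + t + e) = x * x' - (x + T) * (x' + η) / (1 + t + e) := by
    field_simp; ring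
  have fH : (1 + (T + (1 - x) * t) + (1 - x) * e + 2 * ((1 - x) * f)) *
        (1 + (0 + (1 - x') * t) + (η + (1 - x') * e) + 2 * ((1 - x') * f - η)) /
          (1 + t + e + 2 * f) -
      (1 + (T + (1 - x) * t) + (1 - x) * e) * (1 + (0 + (1 - x') * t) + (η + (1 - x') * e)) /
        (1 + t + e) - 2 * ((1 - x) * f * ((1 - x') * f - η) / f) =
      (x + T) * (x' - η) / (1 + t + e + 2 * f) - (x + T) * (x' + η) / (1 + t + e) := by
    field_simp; ring
  rw [fH, fA] at uwH
  have gK : (η + (1 - x') * e + ((1 - x') * f - η)) *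
        (η + (1 - x') * e + ((1 - x') * f - η)) / (e + f) -
      (η + (1 - x') * e) * (η + (1 - x') * e) / e -
      ((1 - x') * f - η) * ((1 - x') * f - η) / f = -(η ^ 2 * (e + f) / (e * f)) := by
    field_simp; ring
  have gA : 1 + (0 + (1 - x') * t) * (0 + (1 - x') * t) / t +
      (η + (1 - x') * e) * (η + (1 - x') * e) / e -
      (1 + (0 + (1 - x') * t) + (η + (1 - x') * e)) *
        (1 + (0 + (1 - x') * t) + (η + (1 - x') * e)) / (1 + t + e) =
      x' ^ 2 + η ^ 2 / e - (x' + η) ^ 2 / (1 + t + e) := by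
    field_simp; ring
  have gH : (1 + (0 + (1 - x') * t) + (η + (1 - x') * e) + 2 * ((1 - x') * f - η)) *
        (1 + (0 + (1 - x') * t) + (η + (1 - x') * e) + 2 * ((1 - x') * f - η)) /
          (1 + t + e + 2 * f) -
      (1 + (0 + (1 - x') * t) + (η + (1 - x') * e)) *
        (1 + (0 + (1 - x') * t) + (η + (1 - x') * e)) / (1 + t + e) -
      2 * (((1 - x') * f - η) * ((1 - x') * f - η) / f) =
      (x' - η) ^ 2 / (1 + t + e + 2 * f) - (x' + η) ^ 2 / (1 + t + e) - 2 * (η ^ 2 / f) := by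
    field_simp; ring
  rw [gA, gK] at wwA
  rw [gH, gK] at wwH
  rw [gK] at wwK
  clear fA fH gA gK gH
  -- the derived equations
  set B := 1 + t + e with hBdef
  set B' := B + 2 * f with hB'def
  have E1 : x ^ 2 + T ^ 2 / (t + e + f) = (x + T) ^ 2 / B := by linear_combination uuP
  have hU : T ^ 2 * (e + f) / (t * (t + e + f)) = 4 * (x + T) ^ 2 * f / (B * B') := by
    have h1 : T ^ 2 * (e + f) / (t * (t + e + f)) = T ^ 2 / t - T ^ 2 / (t + e + f) := by
      field_simp; ring
    have h2 : 4 * (x + T) ^ 2 * f / (B * B') = 2 * ((x + T) ^ 2 / B - (x + T) ^ 2 / B') := by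
      field_simp; simp only [hB'def]; ring
    rw [h1, h2]
    linear_combination uuH - uuP
  have hV : x * x' - (x + T) * (x' + η) / B =
      -(4 * (x + T) * ((x' + η) * f + η * B) / (B * B')) := by
    have h1 : -(4 * (x + T) * ((x' + η) * f + η * B) / (B * B')) =
        2 * ((x + T) * (x' - η) / B' - (x + T) * (x' + η) / B) := by
      field_simp; simp only [hB'def]; ring
    rw [h1]
    linear_combination -uwH
  have hC : η ^ 2 * (e + f) / (e * f) = 4 * ((x' + η) * f + η * B) ^ 2 / (f * (B * B')) := by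
    have h1 : 4 * ((x' + η) * f + η * B) ^ 2 / (f * (B * B')) =
        -(2 * ((x' - η) ^ 2 / B' - (x' + η) ^ 2 / B - 2 * (η ^ 2 / f))) := by
      field_simp; simp only [hB'def]; ring
    rw [h1]
    linear_combination wwH
  have hxT : x + T ≠ 0 := by
    intro h
    rw [h] at hU
    simp only [ne_eq, OfNat.ofNat_ne_zero, not_false_eq_true, zero_pow, mul_zero, zero_mul,
      zero_div] at hU
    exact div_ne_zero (mul_ne_zero (pow_ne_zero 2 hT0) hq) (mul_ne_zero ht hm) hU
  obtain ⟨lam, hlam⟩ : ∃ l, (x' + η) * f + η * B = -(l * ((x + T) * f)) :=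
    ⟨-(((x' + η) * f + η * B) / ((x + T) * f)), by field_simp⟩
  rw [hlam] at hV hC
  have hl0 : lam ≠ 0 := by
    rintro rfl
    apply wwK
    rw [hC]
    simp
  have hU' := hU
  have key := core (x := x / T) (η := η / (lam * T)) (x' := x' / (lam * T)) ht he hf hq hB hm hB'
    (by
      rw [← hBdef]
      calc (x / T) ^ 2 + 1 / (t + e + f) = (x ^ 2 + T ^ 2 / (t + e + f)) / T ^ 2 := by field_simp
        _ = ((x + T) ^ 2 / B) / T ^ 2 := by rw [E1]
        _ = _ := by field_simp)
    (by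
      calc (e + f) / (t * (t + e + f)) = (T ^ 2 * (e + f) / (t * (t + e + f))) / T ^ 2 := by
            field_simp
        _ = (4 * (x + T) ^ 2 * f / (B * B')) / T ^ 2 := by rw [hU]
        _ = _ := by simp only [hB'def, hBdef]; field_simp)
    (by rw [← hBdef]; field_simp; linear_combination hlam)
    (by
      calc (η / (lam * T)) ^ 2 * (e + f) / (e * f) =
            (η ^ 2 * (e + f) / (e * f)) / (lam * T) ^ 2 := by field_simp
        _ = (4 * (-(lam * ((x + T) * f))) ^ 2 / (f * (B * B'))) / (lam * T) ^ 2 := by rw [hC]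
        _ = (4 * (x + T) ^ 2 * f / (B * B')) / T ^ 2 := by field_simp
        _ = (T ^ 2 * (e + f) / (t * (t + e + f))) / T ^ 2 := by rw [hU]
        _ = _ := by field_simp)
    (by
      rw [← hBdef]
      calc x / T * (x' / (lam * T)) - (x / T + 1) * (x' / (lam * T) + η / (lam * T)) / B =
            (x * x' - (x + T) * (x' + η) / B) / (lam * T ^ 2) := by field_simp
        _ = (-(4 * (x + T) * (-(lam * ((x + T) * f))) / (B * B'))) / (lam * T ^ 2) := by rw [hV]
        _ = (4 * (x + T) ^ 2 * f / (B * B')) / T ^ 2 := by field_simp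
        _ = (T ^ 2 * (e + f) / (t * (t + e + f))) / T ^ 2 := by rw [hU]
        _ = _ := by field_simp)
    (by
      rw [← hBdef]
      calc (x' / (lam * T)) ^ 2 + (η / (lam * T)) ^ 2 / e -
            (x' / (lam * T) + η / (lam * T)) ^ 2 / B =
            (x' ^ 2 + η ^ 2 / e - (x' + η) ^ 2 / B) / (lam * T) ^ 2 := by field_simp
        _ = (2 * (η ^ 2 * (e + f) / (e * f))) / (lam * T) ^ 2 := by rw [wwA]; ring
        _ = (2 * (4 * (-(lam * ((x + T) * f))) ^ 2 / (f * (B * B')))) / (lam * T) ^ 2 := by rw [hC]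
        _ = 2 * ((4 * (x + T) ^ 2 * f / (B * B')) / T ^ 2) := by field_simp
        _ = 2 * ((T ^ 2 * (e + f) / (t * (t + e + f))) / T ^ 2) := by rw [hU]
        _ = _ := by field_simp)
  obtain ⟨rfl, hx⟩ := key
  refine ⟨rfl, ?_⟩
  field_simp at hx
  linear_combination -hx

end H83.Ti81
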