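import Mathlib

/-!
# A strongly closed abelian `3`-subgroup `J` of `H` with the centralisers of its elements in `H`
-/

set_option autoImplicit false

namespace H83.Ti81

variable {G : Type*} [Group G]

/-- The hypotheses on the pair `J ≤ H`. -/
structure Base (H J : Subgroup G) : Prop where
  le : J ≤ H
  norm : Subgroup.normalizer (J : Set G) = H
  cent : ∀ t ∈ J, t ≠ 1 → Subgroup.centralizer ({t} : Set G) ≤ H
  comm : ∀ a ∈ J, ∀ b ∈ J, a * b = b * a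
  cube : ∀ a ∈ J, a ^ 3 = 1
  selfC : ∀ y ∈ H, (∀ j ∈ J, j * y = y * j) → y ∈ J
  closed : ∀ x ∈ J, ∀ g : G, g * x * g⁻¹ ∈ H → g * x * g⁻¹ ∈ J
  nontriv : ∃ j ∈ J, j ≠ 1

variable {H J : Subgroup G}

theorem Base.mem_H_of_comm (B : Base H J) {t y : G} (ht : t ∈ J) (ht1 : t ≠ 1)
    (h : t * y = y * t) : y ∈ H :=
  B.cent t ht ht1 (Subgroup.mem_centralizer_singleton_iff.2 h.symm)

/-- An element conjugating a nontrivial element of `J` into `H` lies in `H`. -/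
theorem Base.conjT [Finite G] (B : Base H J) {t g : G} (ht : t ∈ J) (ht1 : t ≠ 1)
    (hg : g * t * g⁻¹ ∈ H) : g ∈ H := by
  have hgJ := B.closed t ht g hg
  have h1 : g * t * g⁻¹ ≠ 1 := by simpa [conj_eq_one_iff] using ht1
  have hle : J.map (MulAut.conj g).toMonoidHom ≤ J := by
    rintro _ ⟨y, hy, rfl⟩
    simp only [MulEquiv.coe_toMonoidHom, MulAut.conj_apply]
    refine B.closed y hy g (B.mem_H_of_comm hgJ h1 ?_)
    rw [show g * t * g⁻¹ * (g * y * g⁻¹) = g * (t * y) * g⁻¹ by group, B.comm t ht y hy]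
    group
  have heq : J.map (MulAut.conj g).toMonoidHom = J := by
    refine Subgroup.eq_of_le_of_card_ge hle (le_of_eq ?_)
    exact Nat.card_congr (Subgroup.equivMapOfInjective J _ (MulAut.conj g).injective).toEquiv
  rw [← B.norm]
  refine Subgroup.mem_normalizer_iff.2 fun y => ⟨fun hy => hle ⟨y, hy, rfl⟩, fun hy => ?_⟩
  rw [← heq] at hy
  obtain ⟨z, hz, hzy⟩ := hy
  simp only [MulEquiv.coe_toMonoidHom, MulAut.conj_apply] at hzy
  have : z = y := by simpa using hzy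
  exact this ▸ hz

theorem exists_center_elem [Finite G] {P : Subgroup G} (hP : IsPGroup 3 P) {s : G} (hs : s ∈ P)
    (hs1 : s ≠ 1) : ∃ w ∈ P, w ≠ 1 ∧ (∀ x ∈ P, x * w = w * x) ∧ ∃ k : ℕ, w ^ (3 ^ k) = 1 := by
  have : Fact (Nat.Prime 3) := ⟨by norm_num⟩
  have : Nontrivial P := ⟨⟨⟨s, hs⟩, 1, fun e => hs1 (congrArg Subtype.val e)⟩⟩
  have := IsPGroup.center_nontrivial hP
  obtain ⟨w, hw⟩ := exists_ne (1 : Subgroup.center P)
  obtain ⟨k, hk⟩ := hP (w : P)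
  exact ⟨((w : P) : G), (w : P).2, fun e => hw (Subtype.ext (Subtype.ext e)),
    fun x hx => congrArg Subtype.val (Subgroup.mem_center_iff.1 w.2 ⟨x, hx⟩),
    k, by simpa using congrArg Subtype.val hk⟩

/-- A `3`-subgroup of `G` containing `J` lies in `H`. -/
theorem Base.pgroup_le_H [Finite G] (B : Base H J) {P : Subgroup G} (hP : IsPGroup 3 P)
    (hJP : J ≤ P) : P ≤ H := by
  obtain ⟨a, ha, ha1⟩ := B.nontriv
  obtain ⟨w, -, hw1, hwc, -⟩ := exists_center_elem hP (hJP ha) ha1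
  have hwJ : w ∈ J := B.selfC w (B.mem_H_of_comm ha ha1 (hwc a (hJP ha)))
    fun j hj => hwc j (hJP hj)
  exact fun x hx => B.mem_H_of_comm hwJ hw1 (hwc x hx).symm

/-- For a normal subgroup `K ≥ J`, `G = K H`. -/
theorem Base.exists_mul [Finite G] (B : Base H J) {K : Subgroup G} [hK : K.Normal] (hJK : J ≤ K)
    (g : G) : ∃ k ∈ K, ∃ h ∈ H, g = k * h := by
  have : Fact (Nat.Prime 3) := ⟨by norm_num⟩
  obtain ⟨a, ha, ha1⟩ := B.nontriv
  have hJ : IsPGroup 3 (J.subgroupOf K) := fun x => ⟨1, Subtype.ext (Subtype.ext (by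
    simpa using B.cube ((x : K) : G) (Subgroup.mem_subgroupOf.1 x.2)))⟩
  obtain ⟨P, hP⟩ := hJ.exists_le_sylow
  have hPH : (P : Subgroup K).map K.subtype ≤ H := B.pgroup_le_H (P.2.map _) fun x hx =>
    ⟨⟨x, hJK hx⟩, hP (Subgroup.mem_subgroupOf.2 hx), rfl⟩
  let d : K := ⟨g * a * g⁻¹, hK.conj_mem a (hJK ha) g⟩
  have hD : IsPGroup 3 (Subgroup.zpowers d) := by
    intro x
    obtain ⟨n, hn⟩ := Subgroup.mem_zpowers_iff.1 x.2
    refine ⟨1, Subtype.ext ?_⟩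
    have : d ^ 3 = 1 := Subtype.ext (by
      show (g * a * g⁻¹) ^ 3 = 1
      rw [conj_pow, B.cube a ha]; group)
    rw [pow_one, SubmonoidClass.coe_pow, OneMemClass.coe_one, ← hn, ← zpow_natCast, ← zpow_mul,
      mul_comm, zpow_mul, zpow_natCast, this, one_zpow]
  obtain ⟨Q, hQ⟩ := hD.exists_le_sylow
  obtain ⟨c, hc⟩ := MulAction.exists_smul_eq K Q P
  have hmem : c * d * c⁻¹ ∈ (P : Subgroup K) := by
    rw [← hc, Sylow.coe_subgroup_smul]
    exact ⟨d, hQ (Subgroup.mem_zpowers _), rfl⟩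
  have hH : (c : G) * (g * a * g⁻¹) * (c : G)⁻¹ ∈ H := hPH ⟨_, hmem, rfl⟩
  refine ⟨(c : G)⁻¹, K.inv_mem c.2, (c : G) * g, B.conjT ha ha1 ?_, by group⟩
  rwa [show (c : G) * g * a * ((c : G) * g)⁻¹ = (c : G) * (g * a * g⁻¹) * (c : G)⁻¹ by group]

/-- Fusion of elements of `H` centralising nontrivial elements of `J` is controlled by `H`,
provided the 3-elements of `C_H(y)` lie in `J`. -/
theorem Base.fusion [Finite G] (B : Base H J) {y z g d s : G}
    (h3 : ∀ x ∈ H, x * y = y * x → ∀ k : ℕ, x ^ (3 ^ k) = 1 → x ∈ J)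
    (hgz : g * z * g⁻¹ = y) (hd : d ∈ J) (hd1 : d ≠ 1) (hzd : z * d = d * z) (hs : s ∈ J)
    (hs1 : s ≠ 1) (hys : y * s = s * y) : ∃ x ∈ H, x * z * x⁻¹ = y := by
  have : Fact (Nat.Prime 3) := ⟨by norm_num⟩
  set C := Subgroup.centralizer ({y} : Set G) with hCdef
  have hsC : s ∈ C := Subgroup.mem_centralizer_singleton_iff.2 hys.symm
  have hdC : g * d * g⁻¹ ∈ C := by
    rw [hCdef, Subgroup.mem_centralizer_singleton_iff, ← hgz]
    calc g * d * g⁻¹ * (g * z * g⁻¹) = g * (d * z) * g⁻¹ := by group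
      _ = g * (z * d) * g⁻¹ := by rw [hzd]
      _ = g * z * g⁻¹ * (g * d * g⁻¹) := by group
  have hmax : ∀ P : Subgroup G, IsPGroup 3 P → s ∈ P → P ≤ C → P ≤ J := by
    intro P hP hsP hPC
    obtain ⟨w, hwP, hw1, hwc, k, hk⟩ := exists_center_elem hP hsP hs1
    have hwH : w ∈ H := B.mem_H_of_comm hs hs1 (hwc s hsP)
    have hwJ : w ∈ J := h3 w hwH (Subgroup.mem_centralizer_singleton_iff.1 (hPC hwP)) k hk
    intro x hx
    obtain ⟨j, hj⟩ := hP ⟨x, hx⟩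
    exact h3 x (B.mem_H_of_comm hwJ hw1 (hwc x hx).symm)
      (Subgroup.mem_centralizer_singleton_iff.1 (hPC hx)) j
      (by simpa using congrArg Subtype.val hj)
  let S : Sylow 3 C :=
    { toSubgroup := J.subgroupOf C
      isPGroup' := fun x => ⟨1, Subtype.ext (Subtype.ext (by
        simpa using B.cube ((x : C) : G) (Subgroup.mem_subgroupOf.1 x.2)))⟩
      is_maximal' := fun {Q} hQ hle => by
        refine le_antisymm (fun x hx => ?_) hle
        refine Subgroup.mem_subgroupOf.2 (hmax (Q.map C.subtype) (hQ.map _) ?_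
          (Subgroup.map_subtype_le Q) ⟨x, hx, rfl⟩)
        exact ⟨⟨s, hsC⟩, hle (Subgroup.mem_subgroupOf.2 hs), rfl⟩ }
  have hD : IsPGroup 3 (Subgroup.zpowers (⟨g * d * g⁻¹, hdC⟩ : C)) := by
    intro x
    obtain ⟨n, hn⟩ := Subgroup.mem_zpowers_iff.1 x.2
    refine ⟨1, Subtype.ext ?_⟩
    have : (⟨g * d * g⁻¹, hdC⟩ : C) ^ 3 = 1 := Subtype.ext (by
      show (g * d * g⁻¹) ^ 3 = 1
      rw [conj_pow, B.cube d hd]; group)
    rw [pow_one, SubmonoidClass.coe_pow, OneMemClass.coe_one, ← hn, ← zpow_natCast, ← zpow_mul,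
      mul_comm, zpow_mul, zpow_natCast, this, one_zpow]
  obtain ⟨Q, hQ⟩ := hD.exists_le_sylow
  obtain ⟨c, hc⟩ := MulAction.exists_smul_eq C Q S
  have hmem : c * (⟨g * d * g⁻¹, hdC⟩ : C) * c⁻¹ ∈ (S : Subgroup C) := by
    rw [← hc, Sylow.coe_subgroup_smul]
    exact ⟨_, hQ (Subgroup.mem_zpowers _), rfl⟩
  have hJ : (c : G) * (g * d * g⁻¹) * (c : G)⁻¹ ∈ J := Subgroup.mem_subgroupOf.1 hmem
  refine ⟨(c : G) * g, B.conjT hd hd1 ?_, ?_⟩
  · rw [show (c : G) * g * d * ((c : G) * g)⁻¹ = (c : G) * (g * d * g⁻¹) * (c : G)⁻¹ by group]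
    exact B.le hJ
  · rw [show (c : G) * g * z * ((c : G) * g)⁻¹ = (c : G) * (g * z * g⁻¹) * (c : G)⁻¹ by group,
      hgz, Subgroup.mem_centralizer_singleton_iff.1 c.2]
    group

end H83.Ti81
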