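import Mathlib

/-!
# Values of the six class functions on the model of order 648

Entries are indices into `valTab`, whose entries `(a, b, c, d)` stand for `a + b ω + (c + d ω) i`.
-/

set_option autoImplicit false

namespace H83.Ti81

/-- The occurring values. -/
def valTab : List (ℤ × ℤ × ℤ × ℤ) := [(0, 0, 0, 0), (-3, 0, 0, 0), (-6, 0, 0, 0), (-9, 0, 0, 0), (3, 0, 0, 0), (0, 0, 1, 2), (0, 0, -1, -2), (6, 0, 0, 0), (9, 0, 0, 0), (-12, 0, 0, 0)]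

/-- The value indices, by function, signed permutation and translation. -/
def idxTab : List (List (List Nat)) := [
  [[0, 1, 1, 1, 2, 2, 1, 2, 2, 1, 2, 2, 2, 3, 3, 2, 3, 3, 1, 2, 2, 2, 3, 3, 2, 3, 3],
   [0, 0, 0, 0, 0, 0, 0, 0, 0, 4, 4, 4, 4, 4, 4, 4, 4, 4, 4, 4, 4, 4, 4, 4, 4, 4, 4],
   [0, 0, 0, 4, 4, 4, 4, 4, 4, 0, 0, 0, 4, 4, 4, 4, 4, 4, 0, 0, 0, 4, 4, 4, 4, 4, 4],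
   [0, 4, 4, 0, 4, 4, 0, 4, 4, 0, 4, 4, 0, 4, 4, 0, 4, 4, 0, 4, 4, 0, 4, 4, 0, 4, 4],
   [0, 0, 0, 0, 0, 0, 0, 0, 0, 5, 5, 5, 5, 5, 5, 5, 5, 5, 6, 6, 6, 6, 6, 6, 6, 6, 6],
   [0, 0, 0, 0, 0, 0, 0, 0, 0, 6, 6, 6, 6, 6, 6, 6, 6, 6, 5, 5, 5, 5, 5, 5, 5, 5, 5],
   [0, 0, 0, 0, 0, 0, 0, 0, 0, 0, 0, 0, 0, 0, 0, 0, 0, 0, 0, 0, 0, 0, 0, 0, 0, 0, 0],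
   [0, 0, 0, 0, 0, 0, 0, 0, 0, 0, 0, 0, 0, 0, 0, 0, 0, 0, 0, 0, 0, 0, 0, 0, 0, 0, 0],
   [0, 0, 0, 0, 0, 0, 0, 0, 0, 0, 0, 0, 0, 0, 0, 0, 0, 0, 0, 0, 0, 0, 0, 0, 0, 0, 0],
   [0, 5, 6, 0, 5, 6, 0, 5, 6, 0, 5, 6, 0, 5, 6, 0, 5, 6, 0, 5, 6, 0, 5, 6, 0, 5, 6],
   [0, 6, 5, 0, 6, 5, 0, 6, 5, 0, 6, 5, 0, 6, 5, 0, 6, 5, 0, 6, 5, 0, 6, 5, 0, 6, 5],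
   [0, 0, 0, 0, 0, 0, 0, 0, 0, 0, 0, 0, 0, 0, 0, 0, 0, 0, 0, 0, 0, 0, 0, 0, 0, 0, 0],
   [0, 0, 0, 0, 0, 0, 0, 0, 0, 0, 0, 0, 0, 0, 0, 0, 0, 0, 0, 0, 0, 0, 0, 0, 0, 0, 0],
   [0, 0, 0, 0, 0, 0, 0, 0, 0, 0, 0, 0, 0, 0, 0, 0, 0, 0, 0, 0, 0, 0, 0, 0, 0, 0, 0],
   [0, 0, 0, 0, 0, 0, 0, 0, 0, 0, 0, 0, 0, 0, 0, 0, 0, 0, 0, 0, 0, 0, 0, 0, 0, 0, 0],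
   [0, 0, 0, 0, 0, 0, 0, 0, 0, 0, 0, 0, 0, 0, 0, 0, 0, 0, 0, 0, 0, 0, 0, 0, 0, 0, 0],
   [0, 0, 0, 0, 0, 0, 0, 0, 0, 0, 0, 0, 0, 0, 0, 0, 0, 0, 0, 0, 0, 0, 0, 0, 0, 0, 0],
   [0, 0, 0, 0, 0, 0, 0, 0, 0, 0, 0, 0, 0, 0, 0, 0, 0, 0, 0, 0, 0, 0, 0, 0, 0, 0, 0],
   [0, 0, 0, 0, 0, 0, 0, 0, 0, 0, 0, 0, 0, 0, 0, 0, 0, 0, 0, 0, 0, 0, 0, 0, 0, 0, 0],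
   [0, 0, 0, 0, 0, 0, 0, 0, 0, 0, 0, 0, 0, 0, 0, 0, 0, 0, 0, 0, 0, 0, 0, 0, 0, 0, 0],
   [0, 0, 0, 6, 6, 6, 5, 5, 5, 0, 0, 0, 6, 6, 6, 5, 5, 5, 0, 0, 0, 6, 6, 6, 5, 5, 5],
   [0, 0, 0, 0, 0, 0, 0, 0, 0, 0, 0, 0, 0, 0, 0, 0, 0, 0, 0, 0, 0, 0, 0, 0, 0, 0, 0],
   [0, 0, 0, 5, 5, 5, 6, 6, 6, 0, 0, 0, 5, 5, 5, 6, 6, 6, 0, 0, 0, 5, 5, 5, 6, 6, 6],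
   [0, 0, 0, 0, 0, 0, 0, 0, 0, 0, 0, 0, 0, 0, 0, 0, 0, 0, 0, 0, 0, 0, 0, 0, 0, 0, 0]],
  [[0, 1, 1, 1, 2, 2, 1, 2, 2, 1, 2, 2, 2, 3, 3, 2, 3, 3, 1, 2, 2, 2, 3, 3, 2, 3, 3],
   [0, 0, 0, 0, 0, 0, 0, 0, 0, 4, 4, 4, 4, 4, 4, 4, 4, 4, 4, 4, 4, 4, 4, 4, 4, 4, 4],
   [0, 0, 0, 4, 4, 4, 4, 4, 4, 0, 0, 0, 4, 4, 4, 4, 4, 4, 0, 0, 0, 4, 4, 4, 4, 4, 4],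
   [0, 4, 4, 0, 4, 4, 0, 4, 4, 0, 4, 4, 0, 4, 4, 0, 4, 4, 0, 4, 4, 0, 4, 4, 0, 4, 4],
   [0, 0, 0, 0, 0, 0, 0, 0, 0, 6, 6, 6, 6, 6, 6, 6, 6, 6, 5, 5, 5, 5, 5, 5, 5, 5, 5],
   [0, 0, 0, 0, 0, 0, 0, 0, 0, 5, 5, 5, 5, 5, 5, 5, 5, 5, 6, 6, 6, 6, 6, 6, 6, 6, 6],
   [0, 0, 0, 0, 0, 0, 0, 0, 0, 0, 0, 0, 0, 0, 0, 0, 0, 0, 0, 0, 0, 0, 0, 0, 0, 0, 0],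
   [0, 0, 0, 0, 0, 0, 0, 0, 0, 0, 0, 0, 0, 0, 0, 0, 0, 0, 0, 0, 0, 0, 0, 0, 0, 0, 0],
   [0, 0, 0, 0, 0, 0, 0, 0, 0, 0, 0, 0, 0, 0, 0, 0, 0, 0, 0, 0, 0, 0, 0, 0, 0, 0, 0],
   [0, 6, 5, 0, 6, 5, 0, 6, 5, 0, 6, 5, 0, 6, 5, 0, 6, 5, 0, 6, 5, 0, 6, 5, 0, 6, 5],
   [0, 5, 6, 0, 5, 6, 0, 5, 6, 0, 5, 6, 0, 5, 6, 0, 5, 6, 0, 5, 6, 0, 5, 6, 0, 5, 6],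
   [0, 0, 0, 0, 0, 0, 0, 0, 0, 0, 0, 0, 0, 0, 0, 0, 0, 0, 0, 0, 0, 0, 0, 0, 0, 0, 0],
   [0, 0, 0, 0, 0, 0, 0, 0, 0, 0, 0, 0, 0, 0, 0, 0, 0, 0, 0, 0, 0, 0, 0, 0, 0, 0, 0],
   [0, 0, 0, 0, 0, 0, 0, 0, 0, 0, 0, 0, 0, 0, 0, 0, 0, 0, 0, 0, 0, 0, 0, 0, 0, 0, 0],
   [0, 0, 0, 0, 0, 0, 0, 0, 0, 0, 0, 0, 0, 0, 0, 0, 0, 0, 0, 0, 0, 0, 0, 0, 0, 0, 0],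
   [0, 0, 0, 0, 0, 0, 0, 0, 0, 0, 0, 0, 0, 0, 0, 0, 0, 0, 0, 0, 0, 0, 0, 0, 0, 0, 0],
   [0, 0, 0, 0, 0, 0, 0, 0, 0, 0, 0, 0, 0, 0, 0, 0, 0, 0, 0, 0, 0, 0, 0, 0, 0, 0, 0],
   [0, 0, 0, 0, 0, 0, 0, 0, 0, 0, 0, 0, 0, 0, 0, 0, 0, 0, 0, 0, 0, 0, 0, 0, 0, 0, 0],
   [0, 0, 0, 0, 0, 0, 0, 0, 0, 0, 0, 0, 0, 0, 0, 0, 0, 0, 0, 0, 0, 0, 0, 0, 0, 0, 0],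
   [0, 0, 0, 0, 0, 0, 0, 0, 0, 0, 0, 0, 0, 0, 0, 0, 0, 0, 0, 0, 0, 0, 0, 0, 0, 0, 0],
   [0, 0, 0, 5, 5, 5, 6, 6, 6, 0, 0, 0, 5, 5, 5, 6, 6, 6, 0, 0, 0, 5, 5, 5, 6, 6, 6],
   [0, 0, 0, 0, 0, 0, 0, 0, 0, 0, 0, 0, 0, 0, 0, 0, 0, 0, 0, 0, 0, 0, 0, 0, 0, 0, 0],
   [0, 0, 0, 6, 6, 6, 5, 5, 5, 0, 0, 0, 6, 6, 6, 5, 5, 5, 0, 0, 0, 6, 6, 6, 5, 5, 5],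
   [0, 0, 0, 0, 0, 0, 0, 0, 0, 0, 0, 0, 0, 0, 0, 0, 0, 0, 0, 0, 0, 0, 0, 0, 0, 0, 0]],
  [[0, 4, 4, 4, 7, 7, 4, 7, 7, 4, 7, 7, 7, 8, 8, 7, 8, 8, 4, 7, 7, 7, 8, 8, 7, 8, 8],
   [0, 0, 0, 0, 0, 0, 0, 0, 0, 4, 4, 4, 4, 4, 4, 4, 4, 4, 4, 4, 4, 4, 4, 4, 4, 4, 4],
   [0, 0, 0, 4, 4, 4, 4, 4, 4, 0, 0, 0, 4, 4, 4, 4, 4, 4, 0, 0, 0, 4, 4, 4, 4, 4, 4],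
   [0, 4, 4, 0, 4, 4, 0, 4, 4, 0, 4, 4, 0, 4, 4, 0, 4, 4, 0, 4, 4, 0, 4, 4, 0, 4, 4],
   [0, 0, 0, 0, 0, 0, 0, 0, 0, 4, 4, 4, 4, 4, 4, 4, 4, 4, 4, 4, 4, 4, 4, 4, 4, 4, 4],
   [0, 0, 0, 0, 0, 0, 0, 0, 0, 4, 4, 4, 4, 4, 4, 4, 4, 4, 4, 4, 4, 4, 4, 4, 4, 4, 4],
   [0, 0, 0, 0, 0, 0, 0, 0, 0, 0, 0, 0, 0, 0, 0, 0, 0, 0, 0, 0, 0, 0, 0, 0, 0, 0, 0],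
   [0, 0, 0, 0, 0, 0, 0, 0, 0, 0, 0, 0, 0, 0, 0, 0, 0, 0, 0, 0, 0, 0, 0, 0, 0, 0, 0],
   [0, 0, 0, 0, 0, 0, 0, 0, 0, 0, 0, 0, 0, 0, 0, 0, 0, 0, 0, 0, 0, 0, 0, 0, 0, 0, 0],
   [0, 4, 4, 0, 4, 4, 0, 4, 4, 0, 4, 4, 0, 4, 4, 0, 4, 4, 0, 4, 4, 0, 4, 4, 0, 4, 4],
   [0, 4, 4, 0, 4, 4, 0, 4, 4, 0, 4, 4, 0, 4, 4, 0, 4, 4, 0, 4, 4, 0, 4, 4, 0, 4, 4],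
   [0, 0, 0, 0, 0, 0, 0, 0, 0, 0, 0, 0, 0, 0, 0, 0, 0, 0, 0, 0, 0, 0, 0, 0, 0, 0, 0],
   [0, 0, 0, 0, 0, 0, 0, 0, 0, 0, 0, 0, 0, 0, 0, 0, 0, 0, 0, 0, 0, 0, 0, 0, 0, 0, 0],
   [0, 0, 0, 0, 0, 0, 0, 0, 0, 0, 0, 0, 0, 0, 0, 0, 0, 0, 0, 0, 0, 0, 0, 0, 0, 0, 0],
   [0, 0, 0, 0, 0, 0, 0, 0, 0, 0, 0, 0, 0, 0, 0, 0, 0, 0, 0, 0, 0, 0, 0, 0, 0, 0, 0],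
   [0, 0, 0, 0, 0, 0, 0, 0, 0, 0, 0, 0, 0, 0, 0, 0, 0, 0, 0, 0, 0, 0, 0, 0, 0, 0, 0],
   [0, 0, 0, 0, 0, 0, 0, 0, 0, 0, 0, 0, 0, 0, 0, 0, 0, 0, 0, 0, 0, 0, 0, 0, 0, 0, 0],
   [0, 0, 0, 0, 0, 0, 0, 0, 0, 0, 0, 0, 0, 0, 0, 0, 0, 0, 0, 0, 0, 0, 0, 0, 0, 0, 0],
   [0, 0, 0, 0, 0, 0, 0, 0, 0, 0, 0, 0, 0, 0, 0, 0, 0, 0, 0, 0, 0, 0, 0, 0, 0, 0, 0],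
   [0, 0, 0, 0, 0, 0, 0, 0, 0, 0, 0, 0, 0, 0, 0, 0, 0, 0, 0, 0, 0, 0, 0, 0, 0, 0, 0],
   [0, 0, 0, 4, 4, 4, 4, 4, 4, 0, 0, 0, 4, 4, 4, 4, 4, 4, 0, 0, 0, 4, 4, 4, 4, 4, 4],
   [0, 0, 0, 0, 0, 0, 0, 0, 0, 0, 0, 0, 0, 0, 0, 0, 0, 0, 0, 0, 0, 0, 0, 0, 0, 0, 0],
   [0, 0, 0, 4, 4, 4, 4, 4, 4, 0, 0, 0, 4, 4, 4, 4, 4, 4, 0, 0, 0, 4, 4, 4, 4, 4, 4],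
   [0, 0, 0, 0, 0, 0, 0, 0, 0, 0, 0, 0, 0, 0, 0, 0, 0, 0, 0, 0, 0, 0, 0, 0, 0, 0, 0]],
  [[0, 9, 9, 9, 2, 2, 9, 2, 2, 9, 2, 2, 2, 3, 3, 2, 3, 3, 9, 2, 2, 2, 3, 3, 2, 3, 3],
   [0, 0, 0, 0, 0, 0, 0, 0, 0, 0, 0, 0, 0, 0, 0, 0, 0, 0, 0, 0, 0, 0, 0, 0, 0, 0, 0],
   [0, 0, 0, 0, 0, 0, 0, 0, 0, 0, 0, 0, 0, 0, 0, 0, 0, 0, 0, 0, 0, 0, 0, 0, 0, 0, 0],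
   [0, 0, 0, 0, 0, 0, 0, 0, 0, 0, 0, 0, 0, 0, 0, 0, 0, 0, 0, 0, 0, 0, 0, 0, 0, 0, 0],
   [0, 0, 0, 0, 0, 0, 0, 0, 0, 0, 0, 0, 0, 0, 0, 0, 0, 0, 0, 0, 0, 0, 0, 0, 0, 0, 0],
   [0, 0, 0, 0, 0, 0, 0, 0, 0, 0, 0, 0, 0, 0, 0, 0, 0, 0, 0, 0, 0, 0, 0, 0, 0, 0, 0],
   [0, 0, 0, 0, 0, 0, 0, 0, 0, 0, 0, 0, 0, 0, 0, 0, 0, 0, 0, 0, 0, 0, 0, 0, 0, 0, 0],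
   [0, 0, 0, 0, 0, 0, 0, 0, 0, 0, 0, 0, 0, 0, 0, 0, 0, 0, 0, 0, 0, 0, 0, 0, 0, 0, 0],
   [0, 0, 0, 0, 0, 0, 0, 0, 0, 0, 0, 0, 0, 0, 0, 0, 0, 0, 0, 0, 0, 0, 0, 0, 0, 0, 0],
   [0, 0, 0, 0, 0, 0, 0, 0, 0, 0, 0, 0, 0, 0, 0, 0, 0, 0, 0, 0, 0, 0, 0, 0, 0, 0, 0],
   [0, 0, 0, 0, 0, 0, 0, 0, 0, 0, 0, 0, 0, 0, 0, 0, 0, 0, 0, 0, 0, 0, 0, 0, 0, 0, 0],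
   [0, 0, 0, 0, 0, 0, 0, 0, 0, 0, 0, 0, 0, 0, 0, 0, 0, 0, 0, 0, 0, 0, 0, 0, 0, 0, 0],
   [0, 0, 4, 0, 4, 0, 4, 0, 0, 0, 4, 0, 4, 0, 0, 0, 0, 4, 4, 0, 0, 0, 0, 4, 0, 4, 0],
   [0, 0, 4, 4, 0, 0, 0, 4, 0, 4, 0, 0, 0, 4, 0, 0, 0, 4, 0, 4, 0, 0, 0, 4, 4, 0, 0],
   [0, 4, 0, 4, 0, 0, 0, 0, 4, 0, 0, 4, 0, 4, 0, 4, 0, 0, 4, 0, 0, 0, 0, 4, 0, 4, 0],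
   [0, 4, 0, 0, 0, 4, 4, 0, 0, 4, 0, 0, 0, 4, 0, 0, 0, 4, 0, 0, 4, 4, 0, 0, 0, 4, 0],
   [0, 4, 0, 4, 0, 0, 0, 0, 4, 4, 0, 0, 0, 0, 4, 0, 4, 0, 0, 0, 4, 0, 4, 0, 4, 0, 0],
   [0, 0, 4, 4, 0, 0, 0, 4, 0, 0, 4, 0, 0, 0, 4, 4, 0, 0, 4, 0, 0, 0, 4, 0, 0, 0, 4],
   [0, 4, 0, 0, 0, 4, 4, 0, 0, 0, 0, 4, 4, 0, 0, 0, 4, 0, 4, 0, 0, 0, 4, 0, 0, 0, 4],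
   [0, 0, 4, 0, 4, 0, 4, 0, 0, 4, 0, 0, 0, 0, 4, 0, 4, 0, 0, 4, 0, 4, 0, 0, 0, 0, 4],
   [0, 0, 0, 0, 0, 0, 0, 0, 0, 0, 0, 0, 0, 0, 0, 0, 0, 0, 0, 0, 0, 0, 0, 0, 0, 0, 0],
   [0, 0, 0, 0, 0, 0, 0, 0, 0, 0, 0, 0, 0, 0, 0, 0, 0, 0, 0, 0, 0, 0, 0, 0, 0, 0, 0],
   [0, 0, 0, 0, 0, 0, 0, 0, 0, 0, 0, 0, 0, 0, 0, 0, 0, 0, 0, 0, 0, 0, 0, 0, 0, 0, 0],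
   [0, 0, 0, 0, 0, 0, 0, 0, 0, 0, 0, 0, 0, 0, 0, 0, 0, 0, 0, 0, 0, 0, 0, 0, 0, 0, 0]],
  [[0, 9, 9, 9, 2, 2, 9, 2, 2, 9, 2, 2, 2, 3, 3, 2, 3, 3, 9, 2, 2, 2, 3, 3, 2, 3, 3],
   [0, 0, 0, 0, 0, 0, 0, 0, 0, 0, 0, 0, 0, 0, 0, 0, 0, 0, 0, 0, 0, 0, 0, 0, 0, 0, 0],
   [0, 0, 0, 0, 0, 0, 0, 0, 0, 0, 0, 0, 0, 0, 0, 0, 0, 0, 0, 0, 0, 0, 0, 0, 0, 0, 0],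
   [0, 0, 0, 0, 0, 0, 0, 0, 0, 0, 0, 0, 0, 0, 0, 0, 0, 0, 0, 0, 0, 0, 0, 0, 0, 0, 0],
   [0, 0, 0, 0, 0, 0, 0, 0, 0, 0, 0, 0, 0, 0, 0, 0, 0, 0, 0, 0, 0, 0, 0, 0, 0, 0, 0],
   [0, 0, 0, 0, 0, 0, 0, 0, 0, 0, 0, 0, 0, 0, 0, 0, 0, 0, 0, 0, 0, 0, 0, 0, 0, 0, 0],
   [0, 0, 0, 0, 0, 0, 0, 0, 0, 0, 0, 0, 0, 0, 0, 0, 0, 0, 0, 0, 0, 0, 0, 0, 0, 0, 0],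
   [0, 0, 0, 0, 0, 0, 0, 0, 0, 0, 0, 0, 0, 0, 0, 0, 0, 0, 0, 0, 0, 0, 0, 0, 0, 0, 0],
   [0, 0, 0, 0, 0, 0, 0, 0, 0, 0, 0, 0, 0, 0, 0, 0, 0, 0, 0, 0, 0, 0, 0, 0, 0, 0, 0],
   [0, 0, 0, 0, 0, 0, 0, 0, 0, 0, 0, 0, 0, 0, 0, 0, 0, 0, 0, 0, 0, 0, 0, 0, 0, 0, 0],
   [0, 0, 0, 0, 0, 0, 0, 0, 0, 0, 0, 0, 0, 0, 0, 0, 0, 0, 0, 0, 0, 0, 0, 0, 0, 0, 0],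
   [0, 0, 0, 0, 0, 0, 0, 0, 0, 0, 0, 0, 0, 0, 0, 0, 0, 0, 0, 0, 0, 0, 0, 0, 0, 0, 0],
   [0, 4, 0, 4, 0, 0, 0, 0, 4, 4, 0, 0, 0, 0, 4, 0, 4, 0, 0, 0, 4, 0, 4, 0, 4, 0, 0],
   [0, 4, 0, 0, 0, 4, 4, 0, 0, 0, 0, 4, 4, 0, 0, 0, 4, 0, 4, 0, 0, 0, 4, 0, 0, 0, 4],
   [0, 0, 4, 0, 4, 0, 4, 0, 0, 4, 0, 0, 0, 0, 4, 0, 4, 0, 0, 4, 0, 4, 0, 0, 0, 0, 4],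
   [0, 0, 4, 4, 0, 0, 0, 4, 0, 0, 4, 0, 0, 0, 4, 4, 0, 0, 4, 0, 0, 0, 4, 0, 0, 0, 4],
   [0, 0, 4, 0, 4, 0, 4, 0, 0, 0, 4, 0, 4, 0, 0, 0, 0, 4, 4, 0, 0, 0, 0, 4, 0, 4, 0],
   [0, 4, 0, 0, 0, 4, 4, 0, 0, 4, 0, 0, 0, 4, 0, 0, 0, 4, 0, 0, 4, 4, 0, 0, 0, 4, 0],
   [0, 0, 4, 4, 0, 0, 0, 4, 0, 4, 0, 0, 0, 4, 0, 0, 0, 4, 0, 4, 0, 0, 0, 4, 4, 0, 0],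
   [0, 4, 0, 4, 0, 0, 0, 0, 4, 0, 0, 4, 0, 4, 0, 4, 0, 0, 4, 0, 0, 0, 0, 4, 0, 4, 0],
   [0, 0, 0, 0, 0, 0, 0, 0, 0, 0, 0, 0, 0, 0, 0, 0, 0, 0, 0, 0, 0, 0, 0, 0, 0, 0, 0],
   [0, 0, 0, 0, 0, 0, 0, 0, 0, 0, 0, 0, 0, 0, 0, 0, 0, 0, 0, 0, 0, 0, 0, 0, 0, 0, 0],
   [0, 0, 0, 0, 0, 0, 0, 0, 0, 0, 0, 0, 0, 0, 0, 0, 0, 0, 0, 0, 0, 0, 0, 0, 0, 0, 0],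
   [0, 0, 0, 0, 0, 0, 0, 0, 0, 0, 0, 0, 0, 0, 0, 0, 0, 0, 0, 0, 0, 0, 0, 0, 0, 0, 0]],
  [[0, 3, 3, 3, 3, 3, 3, 3, 3, 3, 3, 3, 3, 0, 0, 3, 0, 0, 3, 3, 3, 3, 0, 0, 3, 0, 0],
   [0, 0, 0, 0, 0, 0, 0, 0, 0, 4, 4, 4, 4, 4, 4, 4, 4, 4, 4, 4, 4, 4, 4, 4, 4, 4, 4],
   [0, 0, 0, 4, 4, 4, 4, 4, 4, 0, 0, 0, 4, 4, 4, 4, 4, 4, 0, 0, 0, 4, 4, 4, 4, 4, 4],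
   [0, 4, 4, 0, 4, 4, 0, 4, 4, 0, 4, 4, 0, 4, 4, 0, 4, 4, 0, 4, 4, 0, 4, 4, 0, 4, 4],
   [0, 0, 0, 0, 0, 0, 0, 0, 0, 4, 4, 4, 4, 4, 4, 4, 4, 4, 4, 4, 4, 4, 4, 4, 4, 4, 4],
   [0, 0, 0, 0, 0, 0, 0, 0, 0, 4, 4, 4, 4, 4, 4, 4, 4, 4, 4, 4, 4, 4, 4, 4, 4, 4, 4],
   [0, 1, 1, 1, 1, 0, 1, 0, 1, 0, 1, 1, 1, 1, 0, 1, 0, 1, 0, 1, 1, 1, 1, 0, 1, 0, 1],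
   [0, 1, 1, 1, 0, 1, 1, 1, 0, 0, 1, 1, 1, 0, 1, 1, 1, 0, 0, 1, 1, 1, 0, 1, 1, 1, 0],
   [0, 0, 0, 1, 1, 1, 1, 1, 1, 1, 1, 1, 1, 1, 1, 0, 0, 0, 1, 1, 1, 0, 0, 0, 1, 1, 1],
   [0, 4, 4, 0, 4, 4, 0, 4, 4, 0, 4, 4, 0, 4, 4, 0, 4, 4, 0, 4, 4, 0, 4, 4, 0, 4, 4],
   [0, 4, 4, 0, 4, 4, 0, 4, 4, 0, 4, 4, 0, 4, 4, 0, 4, 4, 0, 4, 4, 0, 4, 4, 0, 4, 4],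
   [0, 0, 0, 1, 1, 1, 1, 1, 1, 1, 1, 1, 0, 0, 0, 1, 1, 1, 1, 1, 1, 1, 1, 1, 0, 0, 0],
   [0, 0, 0, 0, 0, 0, 0, 0, 0, 0, 0, 0, 0, 0, 0, 0, 0, 0, 0, 0, 0, 0, 0, 0, 0, 0, 0],
   [0, 0, 0, 0, 0, 0, 0, 0, 0, 0, 0, 0, 0, 0, 0, 0, 0, 0, 0, 0, 0, 0, 0, 0, 0, 0, 0],
   [0, 0, 0, 0, 0, 0, 0, 0, 0, 0, 0, 0, 0, 0, 0, 0, 0, 0, 0, 0, 0, 0, 0, 0, 0, 0, 0],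
   [0, 0, 0, 0, 0, 0, 0, 0, 0, 0, 0, 0, 0, 0, 0, 0, 0, 0, 0, 0, 0, 0, 0, 0, 0, 0, 0],
   [0, 0, 0, 0, 0, 0, 0, 0, 0, 0, 0, 0, 0, 0, 0, 0, 0, 0, 0, 0, 0, 0, 0, 0, 0, 0, 0],
   [0, 0, 0, 0, 0, 0, 0, 0, 0, 0, 0, 0, 0, 0, 0, 0, 0, 0, 0, 0, 0, 0, 0, 0, 0, 0, 0],
   [0, 0, 0, 0, 0, 0, 0, 0, 0, 0, 0, 0, 0, 0, 0, 0, 0, 0, 0, 0, 0, 0, 0, 0, 0, 0, 0],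
   [0, 0, 0, 0, 0, 0, 0, 0, 0, 0, 0, 0, 0, 0, 0, 0, 0, 0, 0, 0, 0, 0, 0, 0, 0, 0, 0],
   [0, 0, 0, 4, 4, 4, 4, 4, 4, 0, 0, 0, 4, 4, 4, 4, 4, 4, 0, 0, 0, 4, 4, 4, 4, 4, 4],
   [0, 1, 1, 0, 1, 1, 0, 1, 1, 1, 1, 0, 1, 1, 0, 1, 1, 0, 1, 0, 1, 1, 0, 1, 1, 0, 1],
   [0, 0, 0, 4, 4, 4, 4, 4, 4, 0, 0, 0, 4, 4, 4, 4, 4, 4, 0, 0, 0, 4, 4, 4, 4, 4, 4],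
   [0, 1, 1, 0, 1, 1, 0, 1, 1, 1, 0, 1, 1, 0, 1, 1, 0, 1, 1, 1, 0, 1, 1, 0, 1, 1, 0]]]

end H83.Ti81
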