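import Cfsg.Agent.H83.Ti81Model
import Cfsg.Agent.H83.Ti81Table

/-!
# Exact computations in the model of order 648
-/

set_option autoImplicit false

namespace H83.Ti81

/-! ### `ℤ[ω, i]` -/

/-- Elements `(a, b, c, d)`, standing for `a + b ω + (c + d ω) i`. -/
abbrev Z12 : Type := ℤ × ℤ × ℤ × ℤ

/-- Product in `ℤ[ω]`. -/
def eMul (a b : ℤ × ℤ) : ℤ × ℤ := (a.1 * b.1 - a.2 * b.2, a.1 * b.2 + a.2 * b.1 - a.2 * b.2)

/-- Product in `ℤ[ω, i]`. -/
def zMul (x y : Z12) : Z12 :=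
  let p := eMul (x.1, x.2.1) (y.1, y.2.1)
  let q := eMul (x.2.2.1, x.2.2.2) (y.2.2.1, y.2.2.2)
  let r := eMul (x.1, x.2.1) (y.2.2.1, y.2.2.2)
  let s := eMul (x.2.2.1, x.2.2.2) (y.1, y.2.1)
  (p.1 - q.1, p.2 - q.2, r.1 + s.1, r.2 + s.2)

/-- Complex conjugation. -/
def zStar (x : Z12) : Z12 := (x.1 - x.2.1, -x.2.1, -(x.2.2.1 - x.2.2.2), x.2.2.2)

/-- Multiplication by `i`. -/
def mulI (x : Z12) : Z12 := (-x.2.2.1, -x.2.2.2, x.1, x.2.1)

/-- `ω ^ a`. -/
def omPow : ZMod 3 → Z12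
  | 0 => (1, 0, 0, 0)
  | 1 => (0, 1, 0, 0)
  | 2 => (-1, -1, 0, 0)

/-- A twelfth root of unity: `ω ^ n * i ^ (3 n)`. -/
def zeta (n : ZMod 12) : Z12 :=
  match (3 * n.val) % 4 with
  | 0 => omPow (n.val : ZMod 3)
  | 1 => mulI (omPow (n.val : ZMod 3))
  | 2 => mulI (mulI (omPow (n.val : ZMod 3)))
  | _ => mulI (mulI (mulI (omPow (n.val : ZMod 3))))

theorem zeta_add : ∀ m n : ZMod 12, zeta (m + n) = zMul (zeta m) (zeta n) := by decide +kernel

theorem zeta_zero : zeta 0 = (1, 0, 0, 0) := by decide +kernel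

/-! ### The subgroups with their characters -/

/-- Index of the subgroup: `C_H(a)`, the Sylow subgroup, the subgroup of order 54. -/
abbrev Sub3 : Type := Fin 3

/-- The signed permutations of each subgroup, in the order of powers of a generator. -/
def cyc : Sub3 → List Sgn
  | 0 => [0, 4, 1, 5]
  | 1 => [0, 12, 16]
  | 2 => [0, 6]

/-- The translation functional of each subgroup. -/
def theta : Sub3 → V3 → ZMod 3
  | 0, t => t.1
  | 1, t => t.1 + t.2.1 + t.2.2
  | 2, t => t.2.1 + t.2.2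

/-- Coset representatives. -/
def reps : Sub3 → List Sgn
  | 0 => [0, 2, 8, 10, 16, 18]
  | 1 => [0, 1, 2, 3, 4, 5, 6, 7]
  | 2 => [0, 1, 2, 3, 8, 9, 10, 11, 16, 17, 18, 19]

/-- The index of the function: subgroup and exponent of its character of the signed part. -/
def funSub : Fin 6 → Sub3
  | 0 => 0
  | 1 => 0
  | 2 => 0
  | 3 => 1
  | 4 => 1
  | 5 => 2

/-- The character of the signed part. -/
def delta : Fin 6 → ZMod 12
  | 0 => 3
  | 1 => 9
  | 2 => 0
  | 3 => 4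
  | 4 => 8
  | 5 => 0

/-- The exponent `θ` of an element. -/
def expT (k : Sub3) (g : M81) : ZMod 12 := 4 * ((theta k g.t).val : ZMod 12)

/-- The exponent of the signed part. -/
def expS (j : Fin 6) (g : M81) : ZMod 12 := delta j * (((cyc (funSub j)).idxOf g.s : ℕ) : ZMod 12)

theorem cyc_mul : ∀ j : Fin 6, ∀ a ∈ cyc (funSub j), ∀ b ∈ cyc (funSub j),
    smul' a b ∈ cyc (funSub j) ∧
      delta j * (((cyc (funSub j)).idxOf (smul' a b) : ℕ) : ZMod 12) =
        delta j * (((cyc (funSub j)).idxOf a : ℕ) : ZMod 12) +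
          delta j * (((cyc (funSub j)).idxOf b : ℕ) : ZMod 12) := by decide +kernel

theorem cyc_inv : ∀ k : Sub3, ∀ a ∈ cyc k, sinv a ∈ cyc k := by decide +kernel

theorem cyc_zero : ∀ k : Sub3, (0 : Sgn) ∈ cyc k := by decide +kernel

theorem theta_act : ∀ k : Sub3, ∀ a ∈ cyc k, ∀ t : V3, theta k (sact a t) = theta k t := by
  decide +kernel

theorem theta_add : ∀ k : Sub3, ∀ t t' : V3, theta k (t + t') = theta k t + theta k t' := by
  decide +kernel

theorem four_val_add : ∀ a b : ZMod 3,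
    4 * (((a + b).val : ℕ) : ZMod 12) = 4 * ((a.val : ℕ) : ZMod 12) + 4 * ((b.val : ℕ) : ZMod 12) := by
  decide +kernel

/-- The subgroups. -/
def subK (k : Sub3) : Subgroup M81 where
  carrier := {g | g.s ∈ cyc k}
  one_mem' := cyc_zero k
  mul_mem' {a b} ha hb := by
    have : ∀ k : Sub3, ∀ a ∈ cyc k, ∀ b ∈ cyc k, smul' a b ∈ cyc k := by decide +kernel
    exact this k a.s ha b.s hb
  inv_mem' {a} ha := cyc_inv k a.s ha

instance decSubK (k : Sub3) (g : M81) : Decidable (g ∈ subK k) :=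
  decidable_of_iff (g.s ∈ cyc k) Iff.rfl

theorem expT_mul (k : Sub3) {a b : M81} (ha : a ∈ subK k) :
    expT k (a * b) = expT k a + expT k b := by
  simp only [expT, m81_mul_def, theta_add, theta_act k a.s ha, four_val_add]

theorem expS_mul (j : Fin 6) {a b : M81} (ha : a ∈ subK (funSub j)) (hb : b ∈ subK (funSub j)) :
    expS j (a * b) = expS j a + expS j b :=
  (cyc_mul j a.s ha b.s hb).2

/-! ### The functions -/

/-- One coset term `(θ - 1) δ`. -/
def term (j : Fin 6) (g : M81) : Z12 :=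
  if g.s ∈ cyc (funSub j) then zeta (expT (funSub j) g + expS j g) - zeta (expS j g) else 0

/-- The induced function of `(θ - 1) δ`. -/
def indVal (j : Fin 6) (g : M81) : Z12 :=
  ((reps (funSub j)).map fun r => term j ((⟨0, r⟩ : M81)⁻¹ * g * ⟨0, r⟩)).sum

/-- The six functions. -/
def fVal (j : Fin 6) (g : M81) : Z12 :=
  if j = 2 then -indVal 2 g else if j = 5 then indVal 5 g - indVal 2 g else indVal j g

/-- The tabulated values. -/
def tab (j : Fin 6) (g : M81) : Z12 :=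
  valTab.getD (((idxTab.getD j.val []).getD g.s.val []).getD
    (9 * g.t.1.val + 3 * g.t.2.1.val + g.t.2.2.val) 0) 0

theorem fVal_eq : ∀ j : Fin 6, ∀ g : M81, fVal j g = tab j g := by decide +kernel

theorem reps_inj : ∀ k : Sub3, ∀ a ∈ reps k, ∀ b ∈ reps k, smul' (sinv a) b ∈ cyc k → a = b := by
  decide +kernel

theorem reps_nodup : ∀ k : Sub3, (reps k).Nodup ∧
    (reps k).length * (27 * (cyc k).length) = 648 := by decide +kernel

theorem card_subK (k : Sub3) : Nat.card (subK k) = 27 * (cyc k).length := by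
  rw [Nat.card_eq_fintype_card]; revert k; decide +kernel

theorem card_M81 : Nat.card M81 = 648 := by
  rw [Nat.card_eq_fintype_card]; decide +kernel

/-- The elementary abelian subgroup of order 27. -/
def J0 : Subgroup M81 where
  carrier := {g | g.s = 0}
  one_mem' := rfl
  mul_mem' {a b} ha hb := by
    show smul' a.s b.s = 0
    rw [show a.s = 0 from ha, show b.s = 0 from hb]; rfl
  inv_mem' {a} ha := by
    show sinv a.s = 0
    rw [show a.s = 0 from ha]; rfl

instance decJ0 (g : M81) : Decidable (g ∈ J0) := decidable_of_iff (g.s = 0) Iff.rfl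

theorem card_J0 : Nat.card J0 = 27 := by
  rw [Nat.card_eq_fintype_card]; decide +kernel

theorem J0_comm : ∀ a : M81, a.s = 0 → ∀ b : M81, b.s = 0 → a * b = b * a := by decide +kernel

theorem J0_cube : ∀ a : M81, a.s = 0 → a ^ 3 = 1 := by decide +kernel

/-- The exceptional set. -/
def InA (g : M81) : Prop :=
  ((g ^ 4).s = 0 ∧ g ^ 4 ≠ 1) ∨ ((g ^ 3).s = 0 ∧ g ^ 3 ≠ 1)

instance decInA (g : M81) : Decidable (InA g) := inferInstanceAs (Decidable (_ ∨ _))

theorem tab_supp : ∀ j : Fin 6, ∀ g : M81, ¬ InA g → tab j g = 0 := by decide +kernel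

theorem tab_star : ∀ j : Fin 6, ∀ g : M81, zStar (tab j g) = tab j g := by decide +kernel

/-- The Gram matrix. -/
def gram : Fin 6 → Fin 6 → ℤ :=
  ![![3, 2, -1, 2, 2, 2], ![2, 3, -1, 2, 2, 2], ![-1, -1, 4, -2, -2, 1],
    ![2, 2, -2, 4, 3, 2], ![2, 2, -2, 3, 4, 2], ![2, 2, 1, 2, 2, 6]]

theorem gram_eq : ∀ i j : Fin 6,
    (∑ g : M81, zMul (tab i g) (tab j g)) = (648 * gram i j, 0, 0, 0) := by decide +kernel

/-- The inner products with the trivial character. -/
def coefOne : Fin 6 → ℤ := ![0, 0, 1, 0, 0, 0]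

theorem coefOne_eq : ∀ i : Fin 6, (∑ g : M81, tab i g) = (648 * coefOne i, 0, 0, 0) := by
  decide +kernel

/-- An involution of `V₄`. -/
def u0 : M81 := ⟨0, 1⟩

/-- An involution above a transposition. -/
def w0 : M81 := ⟨0, 6⟩

/-- Membership in the two classes of involutions. -/
def invClass (b : Bool) (y : M81) : Prop := y * y = 1 ∧ y ≠ 1 ∧ (y.s.val < 4 ↔ b = true)

instance decInvClass (b : Bool) (y : M81) : Decidable (invClass b y) :=
  inferInstanceAs (Decidable (_ ∧ _ ∧ _))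

/-- The class representatives. -/
def invRep : Bool → M81
  | true => u0
  | false => w0

theorem invClass_conj : ∀ b : Bool, ∀ x : M81, invClass b (x * invRep b * x⁻¹) := by decide +kernel

theorem invClass_exists : ∀ b : Bool, ∀ y : M81, invClass b y →
    ∃ x : M81, x * invRep b * x⁻¹ = y := by decide +kernel

theorem invClass_card : ∀ b : Bool,
    (Finset.univ.filter (invClass b)).card = if b then 27 else 54 := by decide +kernel

/-- The pair sums through a representative. -/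
def pairVal : Bool → Bool → Fin 6 → ℤ
  | true, true => ![0, 0, 72, -72, -72, -36]
  | true, false => ![0, 0, 72, 0, 0, 36]
  | false, true => ![0, 0, 0, 0, 0, 0]
  | false, false => ![-36, -36, 72, -36, -36, -18]

theorem pair_eq : ∀ b c : Bool, (b = true ∨ c = false) → ∀ j : Fin 6,
    (∑ y ∈ Finset.univ.filter (invClass c), tab j (invRep b * y)) = (pairVal b c j, 0, 0, 0) := by
  decide +kernel

/-! ### Group facts -/

theorem J0_self_centralizing : ∀ y : M81,
    (∀ i : Fin 3, (⟨![(1, 0, 0), (0, 1, 0), (0, 0, 1)] i, 0⟩ : M81) * y =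
      y * ⟨![(1, 0, 0), (0, 1, 0), (0, 0, 1)] i, 0⟩) → y.s = 0 := by decide +kernel

theorem inv_cent81 : ∀ y : M81, y * y = 1 → y ≠ 1 →
    ∃ t : V3, t ≠ 0 ∧ y * ⟨t, 0⟩ = ⟨t, 0⟩ * y := by decide +kernel

theorem inv_three : ∀ y : M81, y * y = 1 → y ≠ 1 → ∀ x : M81, x * y = y * x → x.s ≠ 0 →
    x ^ 9 ≠ 1 := by decide +kernel

theorem pow_nine : ∀ x : M81, x.s ≠ 0 → x ^ 81 = 1 → x ^ 9 = 1 := by decide +kernel

theorem cent_card : ∀ t : V3,
    (Finset.univ.filter fun x : M81 => x * ⟨t, 0⟩ = ⟨t, 0⟩ * x).card = 108 →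
    ∃ x : M81, x * ⟨(1, 0, 0), 0⟩ * x⁻¹ = ⟨t, 0⟩ := by decide +kernel

theorem cent_card_a :
    (Finset.univ.filter fun x : M81 => x * ⟨(1, 0, 0), 0⟩ = ⟨(1, 0, 0), 0⟩ * x).card = 108 := by
  decide +kernel

theorem core_witness : ∀ x : M81, x.s ≠ 0 → x ^ 9 = 1 →
    ∃ s : Fin 3, ((⟨0, s.succ.castLE (by norm_num)⟩ : M81) * x *
      (⟨0, s.succ.castLE (by norm_num)⟩ : M81)⁻¹ * x⁻¹) ^ 9 ≠ 1 := by decide +kernel

theorem u_gen : invClass true (⟨0, 1⟩ : M81) ∧ invClass true (⟨0, 2⟩ : M81) ∧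
    invClass true (⟨0, 3⟩ : M81) ∧ ∀ a : ZMod 3,
      invClass true ((⟨0, 2⟩ : M81) * ⟨(a, 0, 0), 0⟩) ∧
      invClass true ((⟨0, 1⟩ : M81) * ⟨(0, a, 0), 0⟩) ∧
      invClass true ((⟨0, 1⟩ : M81) * ⟨(0, 0, a), 0⟩) := by decide +kernel

theorem decomp81 : ∀ g : M81, g =
    (⟨(g.t.1, 0, 0), 0⟩ : M81) * ⟨(0, g.t.2.1, 0), 0⟩ * ⟨(0, 0, g.t.2.2), 0⟩ * ⟨0, g.s⟩ := by
  decide +kernel

theorem sgn_cases : ∀ s : Sgn, s.val < 4 → s = 0 ∨ s = 1 ∨ s = 2 ∨ s = 3 := by decide +kernel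

theorem four_closed : ∀ a b : Sgn, a.val < 4 → b.val < 4 → (smul' a b).val < 4 := by
  decide +kernel

theorem four_inv : ∀ a : Sgn, a.val < 4 → (sinv a).val < 4 := by decide +kernel

theorem conj_zero : ∀ a b : Sgn, b = 0 → smul' (smul' a b) (sinv a) = 0 := by decide +kernel

end H83.Ti81
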