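import Cfsg.Agent.H83.Ti81Alg

/-!
# The virtual characters for `3³ : S₄`

Six integer vectors with the Gram matrix of the virtual characters and the class-algebra
equations: some coordinate has degree `±2` and the same value at `u`.
-/

set_option autoImplicit false

namespace H83.Ti81

variable {ι : Type*} [Fintype ι]

/-- The integer inner product. -/
def ip (a b : ι → ℤ) : ℤ := ∑ i, a i * b i

/-- The pairing of an integer vector with a function. -/
noncomputable def lin (v : ι → ℤ) (F : ι → ℂ) : ℂ := ∑ i, (v i : ℂ) * F i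

/-- The class-algebra form. -/
noncomputable def form (d : ι → ℤ) (v : ι → ℤ) (a b : ι → ℂ) : ℂ :=
  lin v fun i => a i * b i / (d i : ℂ)

/-- The data. -/
structure Sys (ι : Type*) [Fintype ι] where
  o : ι
  d : ι → ℤ
  u : ι → ℂ
  w : ι → ℂ
  k1 : ι → ℤ
  k3 : ι → ℤ
  al : ι → ℤ
  p1 : ι → ℤ
  p2 : ι → ℤ
  h : ι → ℤ
  d_ne : ∀ i, d i ≠ 0
  d_o : d o = 1
  u_o : u o = 1
  w_o : w o = 1
  o1 : k1 o = 0
  o3 : k3 o = 0
  oA : al o = 1
  oP : p1 o = 0
  oQ : p2 o = 0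
  oH : h o = 0
  g11 : ip k1 k1 = 3
  g33 : ip k3 k3 = 3
  g13 : ip k1 k3 = 2
  g1A : ip k1 al = -1
  g3A : ip k3 al = -1
  g1P : ip k1 p1 = 2
  g3P : ip k3 p1 = 2
  g1Q : ip k1 p2 = 2
  g3Q : ip k3 p2 = 2
  g1H : ip k1 h = 2
  g3H : ip k3 h = 2
  gAA : ip al al = 4
  gPP : ip p1 p1 = 4
  gQQ : ip p2 p2 = 4
  gAP : ip al p1 = -2
  gAQ : ip al p2 = -2
  gPQ : ip p1 p2 = 3
  gAH : ip al h = 1
  gPH : ip p1 h = 2
  gQH : ip p2 h = 2
  gHH : ip h h = 6
  zd : ∀ v, v = k1 ∨ v = k3 ∨ v = al ∨ v = p1 ∨ v = p2 ∨ v = h →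
    lin v (fun i => (d i : ℂ)) = 0 ∧ lin v u = 0 ∧ lin v w = 0
  uu1 : form d k1 u u = 0
  uu3 : form d k3 u u = 0
  uuP : form d p1 u u = -form d al u u
  uuQ : form d p2 u u = -form d al u u
  uuH : 2 * form d h u u = -form d al u u
  uuA : form d al u u ≠ 0
  uwP : form d p1 u w = 0
  uwH : 2 * form d h u w = form d al u w
  wwA : form d al w w = -(2 * form d k1 w w)
  wwH : 2 * form d h w w = form d k1 w w
  ww1 : form d k1 w w ≠ 0

theorem ip_comm (a b : ι → ℤ) : ip a b = ip b a := by simp [ip, mul_comm]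

/-- Change of signs of coordinates. -/
noncomputable def Sys.flip (S : Sys ι) (s : ι → ℤ) (hs : ∀ i, s i = 1 ∨ s i = -1)
    (ho : s S.o = 1) : Sys ι :=
  have hne : ∀ i, s i ≠ 0 := fun i => by rcases hs i with e | e <;> omega
  have hsq : ∀ i, s i * s i = 1 := fun i => by rcases hs i with e | e <;> rw [e] <;> norm_num
  have hip : ∀ a b : ι → ℤ, ip (fun i => s i * a i) (fun i => s i * b i) = ip a b := fun a b =>
    Finset.sum_congr rfl fun i _ => by linear_combination (a i * b i) * hsq i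
  have hlin : ∀ (v : ι → ℤ) (F : ι → ℂ),
      lin (fun i => s i * v i) (fun i => (s i : ℂ) * F i) = lin v F := fun v F =>
    Finset.sum_congr rfl fun i _ => by
      have : (s i : ℂ) * (s i : ℂ) = 1 := by exact_mod_cast hsq i
      push_cast
      linear_combination ((v i : ℂ) * F i) * this
  have hform : ∀ (v : ι → ℤ) (a b : ι → ℂ),
      form (fun i => s i * S.d i) (fun i => s i * v i) (fun i => (s i : ℂ) * a i)
        (fun i => (s i : ℂ) * b i) = form S.d v a b := fun v a b => by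
    refine Finset.sum_congr rfl fun i _ => ?_
    rcases hs i with e | e <;> simp [e, neg_mul, mul_neg, div_neg, neg_neg]
  have hd : ∀ v : ι → ℤ, lin (fun i => s i * v i) (fun i => ((s i * S.d i : ℤ) : ℂ)) =
      lin v (fun i => (S.d i : ℂ)) := fun v => by
    rw [← hlin v]; simp
  { o := S.o
    d := fun i => s i * S.d i
    u := fun i => (s i : ℂ) * S.u i
    w := fun i => (s i : ℂ) * S.w i
    k1 := fun i => s i * S.k1 i
    k3 := fun i => s i * S.k3 i
    al := fun i => s i * S.al i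
    p1 := fun i => s i * S.p1 i
    p2 := fun i => s i * S.p2 i
    h := fun i => s i * S.h i
    d_ne := fun i => mul_ne_zero (hne i) (S.d_ne i)
    d_o := by simp [ho, S.d_o]
    u_o := by simp [ho, S.u_o]
    w_o := by simp [ho, S.w_o]
    o1 := by simp [S.o1]
    o3 := by simp [S.o3]
    oA := by simp [ho, S.oA]
    oP := by simp [S.oP]
    oQ := by simp [S.oQ]
    oH := by simp [S.oH]
    g11 := (hip _ _).trans S.g11
    g33 := (hip _ _).trans S.g33
    g13 := (hip _ _).trans S.g13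
    g1A := (hip _ _).trans S.g1A
    g3A := (hip _ _).trans S.g3A
    g1P := (hip _ _).trans S.g1P
    g3P := (hip _ _).trans S.g3P
    g1Q := (hip _ _).trans S.g1Q
    g3Q := (hip _ _).trans S.g3Q
    g1H := (hip _ _).trans S.g1H
    g3H := (hip _ _).trans S.g3H
    gAA := (hip _ _).trans S.gAA
    gPP := (hip _ _).trans S.gPP
    gQQ := (hip _ _).trans S.gQQ
    gAP := (hip _ _).trans S.gAP
    gAQ := (hip _ _).trans S.gAQ
    gPQ := (hip _ _).trans S.gPQ
    gAH := (hip _ _).trans S.gAH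
    gPH := (hip _ _).trans S.gPH
    gQH := (hip _ _).trans S.gQH
    gHH := (hip _ _).trans S.gHH
    zd := by
      intro v hv
      rcases hv with rfl | rfl | rfl | rfl | rfl | rfl <;> simp only [hd, hlin]
      exacts [S.zd _ (Or.inl rfl), S.zd _ (Or.inr (Or.inl rfl)),
        S.zd _ (Or.inr (Or.inr (Or.inl rfl))), S.zd _ (Or.inr (Or.inr (Or.inr (Or.inl rfl)))),
        S.zd _ (Or.inr (Or.inr (Or.inr (Or.inr (Or.inl rfl))))),
        S.zd _ (Or.inr (Or.inr (Or.inr (Or.inr (Or.inr rfl)))))]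
    uu1 := by rw [hform]; exact S.uu1
    uu3 := by rw [hform]; exact S.uu3
    uuP := by rw [hform, hform]; exact S.uuP
    uuQ := by rw [hform, hform]; exact S.uuQ
    uuH := by rw [hform, hform]; exact S.uuH
    uuA := by rw [hform]; exact S.uuA
    uwP := by rw [hform]; exact S.uwP
    uwH := by rw [hform, hform]; exact S.uwH
    wwA := by rw [hform, hform]; exact S.wwA
    wwH := by rw [hform, hform]; exact S.wwH
    ww1 := by rw [hform]; exact S.ww1 }

/-- A vector is determined on a set carrying its whole norm. -/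
theorem eq_zero_outside {v : ι → ℤ} {s : Finset ι} (h : ∑ i ∈ s, v i * v i = ip v v) {i : ι}
    (hi : i ∉ s) : v i = 0 := by
  classical
  have h1 : ∑ j ∈ Finset.univ \ s, v j * v j = 0 := by
    have := Finset.sum_sdiff (f := fun j => v j * v j) (Finset.subset_univ s)
    simp only [ip] at h
    omega
  exact mul_self_eq_zero.1 ((Finset.sum_eq_zero_iff_of_nonneg fun j _ => mul_self_nonneg _).1 h1 i
    (by simp [hi]))

theorem lin_eq_sum {v : ι → ℤ} {s : Finset ι} (h : ∀ i ∉ s, v i = 0) (F : ι → ℂ) :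
    lin v F = ∑ i ∈ s, (v i : ℂ) * F i :=
  (Finset.sum_subset (Finset.subset_univ s) fun i _ hi => by simp [h i hi]).symm

theorem ip_eq_sum {v : ι → ℤ} {s : Finset ι} (h : ∀ i ∉ s, v i = 0) (a : ι → ℤ) :
    ip v a = ∑ i ∈ s, v i * a i :=
  (Finset.sum_subset (Finset.subset_univ s) fun i _ hi => by simp [h i hi]).symm

open scoped Classical in
theorem exists_one {v : ι → ℤ} {s : Finset ι} (h : ∑ i ∈ s, v i * v i + 1 = ip v v) :
    ∃ i ∉ s, (v i = 1 ∨ v i = -1) ∧ ∀ j ∉ insert i s, v j = 0 := by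
  have h1 : ∑ j ∈ Finset.univ \ s, v j * v j = 1 := by
    have := Finset.sum_sdiff (f := fun j => v j * v j) (Finset.subset_univ s)
    simp only [ip] at h
    omega
  obtain ⟨i, hi, hne⟩ := Finset.exists_ne_zero_of_sum_ne_zero (by omega : ∑ j ∈ Finset.univ \ s,
    v j * v j ≠ 0)
  have hle : v i * v i ≤ 1 := h1 ▸ Finset.single_le_sum (f := fun j => v j * v j)
    (fun j _ => mul_self_nonneg _) hi
  have hpos : 0 < v i * v i := lt_of_le_of_ne (mul_self_nonneg _) (Ne.symm hne)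
  have his : i ∉ s := (Finset.mem_sdiff.1 hi).2
  refine ⟨i, his, ?_, fun j hj => eq_zero_outside ?_ hj⟩
  · have : v i * v i = 1 := by omega
    rcases mul_self_eq_one_iff.1 this with e | e <;> simp [e]
  · rw [Finset.sum_insert his]; omega

open scoped Classical in
theorem exists_two {v : ι → ℤ} {s : Finset ι} (h : ∑ i ∈ s, v i * v i + 2 = ip v v) :
    ∃ i ∉ s, ∃ j ∉ insert i s, (v i = 1 ∨ v i = -1) ∧ (v j = 1 ∨ v j = -1) ∧
      ∀ l ∉ insert j (insert i s), v l = 0 := by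
  have h1 : ∑ j ∈ Finset.univ \ s, v j * v j = 2 := by
    have := Finset.sum_sdiff (f := fun j => v j * v j) (Finset.subset_univ s)
    simp only [ip] at h
    omega
  obtain ⟨i, hi, hne⟩ := Finset.exists_ne_zero_of_sum_ne_zero (by omega : ∑ j ∈ Finset.univ \ s,
    v j * v j ≠ 0)
  have hle : v i * v i ≤ 2 := h1 ▸ Finset.single_le_sum (f := fun j => v j * v j)
    (fun j _ => mul_self_nonneg _) hi
  have hv0 : v i ≠ 0 := fun e => hne (by simp [e])
  have hb : -1 ≤ v i ∧ v i ≤ 1 := ⟨by nlinarith, by nlinarith⟩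
  have hv : v i = 1 ∨ v i = -1 := by omega
  have his : i ∉ s := (Finset.mem_sdiff.1 hi).2
  obtain ⟨j, hj, hj', hr⟩ := exists_one (v := v) (s := insert i s) (by
    rw [Finset.sum_insert his]
    rcases hv with e | e <;> rw [e] <;> omega)
  exact ⟨i, his, j, hj, hv, hj', hr⟩

theorem psi_cases : ∀ a ∈ Finset.Icc (-2 : ℤ) 2, ∀ b ∈ Finset.Icc (-2 : ℤ) 2,
    ∀ c ∈ Finset.Icc (-2 : ℤ) 2, ∀ d ∈ Finset.Icc (-2 : ℤ) 2,
    a + b + c = 2 → b + c + d = 2 → a * a + b * b + c * c + d * d ≤ 4 →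
    (a, b, c, d) ∈ [((0 : ℤ), (0 : ℤ), (2 : ℤ), (0 : ℤ)), (0, 1, 1, 0), (0, 2, 0, 0),
      (1, 0, 1, 1), (1, 1, 0, 1)] := by decide +kernel

theorem al_cases : ∀ a ∈ Finset.Icc (-2 : ℤ) 2, ∀ b ∈ Finset.Icc (-2 : ℤ) 2,
    ∀ c ∈ Finset.Icc (-2 : ℤ) 2, ∀ d ∈ Finset.Icc (-2 : ℤ) 2,
    a + b + c = -1 → b + c + d = -1 → a * a + b * b + c * c + d * d ≤ 3 →
    (a, b, c, d) ∈ [((-1 : ℤ), (0 : ℤ), (0 : ℤ), (-1 : ℤ)), (0, -1, 0, 0), (0, 0, -1, 0)] := by
  decide +kernel

theorem h_cases : ∀ a ∈ Finset.Icc (-2 : ℤ) 2, ∀ b ∈ Finset.Icc (-2 : ℤ) 2,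
    ∀ c ∈ Finset.Icc (-2 : ℤ) 2, ∀ t ∈ Finset.Icc (-2 : ℤ) 2, ∀ l ∈ Finset.Icc (-2 : ℤ) 2,
    ∀ m ∈ Finset.Icc (-2 : ℤ) 2,
    a + b + c = 2 → -b + t + l = 1 → b + c - t + m = 2 →
    2 * (a * a) + b * b + c * c + t * t + l * l + 2 * (m * m) ≤ 6 →
    (a, b, c, t, l, m) ∈ [((0 : ℤ), (0 : ℤ), (2 : ℤ), (0 : ℤ), (1 : ℤ), (0 : ℤ)),
      (0, 1, 1, 0, 2, 0), (0, 1, 1, 1, 1, 1), (1, 0, 1, 0, 1, 1)] := by decide +kernel

theorem mem_Icc_of_sq {a n : ℤ} (h : a * a ≤ n) (hn : n ≤ 8) : a ∈ Finset.Icc (-2 : ℤ) 2 := by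
  rw [Finset.mem_Icc]; constructor <;> nlinarith

section Main

variable (S : Sys ι)

/-- The frame: the four coordinates carrying `k1` and `k3`. -/
structure Frame (c1 c2 c3 c4 : ι) : Prop where
  d12 : c1 ≠ c2
  d13 : c1 ≠ c3
  d14 : c1 ≠ c4
  d23 : c2 ≠ c3
  d24 : c2 ≠ c4
  d34 : c3 ≠ c4
  o1 : c1 ≠ S.o
  o2 : c2 ≠ S.o
  o3 : c3 ≠ S.o
  o4 : c4 ≠ S.o
  k11 : S.k1 c1 = 1
  k12 : S.k1 c2 = 1
  k13 : S.k1 c3 = 1
  k14 : S.k1 c4 = 0
  k31 : S.k3 c1 = 0
  k32 : S.k3 c2 = 1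
  k33 : S.k3 c3 = 1
  k34 : S.k3 c4 = 1
  k1z : ∀ i, i ≠ c1 → i ≠ c2 → i ≠ c3 → S.k1 i = 0
  k3z : ∀ i, i ≠ c2 → i ≠ c3 → i ≠ c4 → S.k3 i = 0

variable {S} {c1 c2 c3 c4 : ι}

theorem Frame.swap (F : Frame S c1 c2 c3 c4) : Frame S c1 c3 c2 c4 :=
  ⟨F.d13, F.d12, F.d14, F.d23.symm, F.d34, F.d24, F.o1, F.o3, F.o2, F.o4, F.k11, F.k13, F.k12,
    F.k14, F.k31, F.k33, F.k32, F.k34, fun i a b c => F.k1z i a c b,
    fun i a b c => F.k3z i b a c⟩

theorem Frame.ip1 (F : Frame S c1 c2 c3 c4) (v : ι → ℤ) :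
    ip S.k1 v = v c1 + v c2 + v c3 := by
  classical
  rw [ip_eq_sum (s := {c1, c2, c3}) (fun i hi => by
    simp only [Finset.mem_insert, Finset.mem_singleton, not_or] at hi
    exact F.k1z i hi.1 hi.2.1 hi.2.2)]
  simp [F.d12, F.d13, F.d23, F.k11, F.k12, F.k13, add_assoc]

theorem Frame.ip3 (F : Frame S c1 c2 c3 c4) (v : ι → ℤ) :
    ip S.k3 v = v c2 + v c3 + v c4 := by
  classical
  rw [ip_eq_sum (s := {c2, c3, c4}) (fun i hi => by
    simp only [Finset.mem_insert, Finset.mem_singleton, not_or] at hi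
    exact F.k3z i hi.1 hi.2.1 hi.2.2)]
  simp [F.d23, F.d24, F.d34, F.k32, F.k33, F.k34, add_assoc]

theorem Frame.lin1 (F : Frame S c1 c2 c3 c4) (f : ι → ℂ) :
    lin S.k1 f = f c1 + f c2 + f c3 := by
  classical
  rw [lin_eq_sum (s := {c1, c2, c3}) (fun i hi => by
    simp only [Finset.mem_insert, Finset.mem_singleton, not_or] at hi
    exact F.k1z i hi.1 hi.2.1 hi.2.2)]
  simp [F.d12, F.d13, F.d23, F.k11, F.k12, F.k13, add_assoc]

theorem Frame.lin3 (F : Frame S c1 c2 c3 c4) (f : ι → ℂ) :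
    lin S.k3 f = f c2 + f c3 + f c4 := by
  classical
  rw [lin_eq_sum (s := {c2, c3, c4}) (fun i hi => by
    simp only [Finset.mem_insert, Finset.mem_singleton, not_or] at hi
    exact F.k3z i hi.1 hi.2.1 hi.2.2)]
  simp [F.d23, F.d24, F.d34, F.k32, F.k33, F.k34, add_assoc]

/-- The values at `u` on the frame are proportional to the degrees. -/
theorem Frame.prop_u (F : Frame S c1 c2 c3 c4) :
    ∃ r : ℂ, S.u c1 = r * S.d c1 ∧ S.u c2 = r * S.d c2 ∧ S.u c3 = r * S.d c3 ∧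
      S.u c4 = r * S.d c4 := by
  obtain ⟨z1, y1, -⟩ := S.zd S.k1 (Or.inl rfl)
  obtain ⟨z3, y3, -⟩ := S.zd S.k3 (Or.inr (Or.inl rfl))
  have e1 := S.uu1
  have e3 := S.uu3
  rw [F.lin1] at z1 y1
  rw [F.lin3] at z3 y3
  rw [form, F.lin1] at e1
  rw [form, F.lin3] at e3
  have n : ∀ i, (S.d i : ℂ) ≠ 0 := fun i => Int.cast_ne_zero.2 (S.d_ne i)
  refine ⟨S.u c2 / S.d c2, ?_, by field_simp [n c2], ?_, ?_⟩
  · have := n c1; have := n c2; have := n c3
    field_simp at e1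
    have hc3 : (S.d c3 : ℂ) = -(S.d c1 + S.d c2) := by linear_combination z1
    have uc3 : S.u c3 = -(S.u c1 + S.u c2) := by linear_combination y1
    rw [hc3, uc3] at e1
    have : (S.u c1 * S.d c2 - S.u c2 * S.d c1) ^ 2 = 0 := by linear_combination -e1
    have h := sub_eq_zero.1 (pow_eq_zero_iff two_ne_zero |>.1 this)
    field_simp
    linear_combination h
  · have := n c1; have := n c2; have := n c3
    field_simp at e1
    have hc3 : (S.d c1 : ℂ) = -(S.d c3 + S.d c2) := by linear_combination z1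
    have uc3 : S.u c1 = -(S.u c3 + S.u c2) := by linear_combination y1
    rw [hc3, uc3] at e1
    have : (S.u c3 * S.d c2 - S.u c2 * S.d c3) ^ 2 = 0 := by linear_combination -e1
    have h := sub_eq_zero.1 (pow_eq_zero_iff two_ne_zero |>.1 this)
    field_simp
    linear_combination h
  · have := n c2; have := n c3; have := n c4
    field_simp at e3
    have hc3 : (S.d c3 : ℂ) = -(S.d c4 + S.d c2) := by linear_combination z3
    have uc3 : S.u c3 = -(S.u c4 + S.u c2) := by linear_combination y3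
    rw [hc3, uc3] at e3
    have : (S.u c4 * S.d c2 - S.u c2 * S.d c4) ^ 2 = 0 := by linear_combination -e3
    have h := sub_eq_zero.1 (pow_eq_zero_iff two_ne_zero |>.1 this)
    field_simp
    linear_combination h

open scoped Classical in
/-- A vector with at most one coordinate off the frame has zero form at `u, u`. -/
theorem Frame.form_zero (F : Frame S c1 c2 c3 c4) {v : ι → ℤ} (i : ι)
    (hz : ∀ j ∉ insert i ({c1, c2, c3, c4} : Finset ι), v j = 0)
    (z : lin v (fun j => (S.d j : ℂ)) = 0) (y : lin v S.u = 0) : form S.d v S.u S.u = 0 := by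
  obtain ⟨r, r1, r2, r3, r4⟩ := F.prop_u
  have n : (S.d i : ℂ) ≠ 0 := Int.cast_ne_zero.2 (S.d_ne i)
  have key : ∀ j, j ≠ i → (v j : ℂ) * (S.u j - r * S.d j) = 0 := by
    intro j hj
    by_cases hm : j ∈ ({c1, c2, c3, c4} : Finset ι)
    · simp only [Finset.mem_insert, Finset.mem_singleton] at hm
      rcases hm with rfl | rfl | rfl | rfl <;> simp [r1, r2, r3, r4]
    · simp [hz j (by simp [hj, hm])]
  have hi : (v i : ℂ) * (S.u i - r * S.d i) = 0 := by
    have : ∑ j, (v j : ℂ) * (S.u j - r * S.d j) = 0 := by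
      simp only [mul_sub, Finset.sum_sub_distrib]
      simp only [lin] at z y
      rw [y, zero_sub, neg_eq_zero]
      rw [show ∑ j, (v j : ℂ) * (r * (S.d j : ℂ)) = r * ∑ j, (v j : ℂ) * (S.d j : ℂ) by
        rw [Finset.mul_sum]; exact Finset.sum_congr rfl fun j _ => by ring, z, mul_zero]
    rwa [Finset.sum_eq_single i (fun j _ hj => key j hj) (by simp)] at this
  have all : ∀ j, (v j : ℂ) * (S.u j - r * S.d j) = 0 := fun j => by
    by_cases hj : j = i
    · exact hj ▸ hi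
    · exact key j hj
  calc form S.d v S.u S.u = ∑ j, r ^ 2 * ((v j : ℂ) * (S.d j : ℂ)) := by
        refine Finset.sum_congr rfl fun j _ => ?_
        have := (Int.cast_ne_zero (α := ℂ)).2 (S.d_ne j)
        show (v j : ℂ) * (S.u j * S.u j / (S.d j : ℂ)) = _
        rcases mul_eq_zero.1 (all j) with e | e
        · simp [e]
        · rw [sub_eq_zero.1 e]; field_simp
    _ = 0 := by rw [← Finset.mul_sum]; simp only [lin] at z; rw [z, mul_zero]

theorem Frame.sum_sq (F : Frame S c1 c2 c3 c4) (v : ι → ℤ) :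
    v c1 * v c1 + v c2 * v c2 + v c3 * v c3 + v c4 * v c4 + v S.o * v S.o ≤ ip v v := by
  classical
  calc _ = ∑ i ∈ ({c1, c2, c3, c4, S.o} : Finset ι), v i * v i := by
        simp [F.d12, F.d13, F.d14, F.d23, F.d24, F.d34, F.o1, F.o2, F.o3, F.o4, add_assoc]
    _ ≤ _ := Finset.sum_le_sum_of_subset_of_nonneg (Finset.subset_univ _)
        fun i _ _ => mul_self_nonneg _

/-- One of the two vectors `p1, p2`. -/
structure Psi (S : Sys ι) (p q : ι → ℤ) : Prop where
  o : p S.o = 0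
  g1 : ip S.k1 p = 2
  g3 : ip S.k3 p = 2
  gA : ip S.al p = -2
  gg : ip p p = 4
  gq : ip p q = 3
  z : lin p (fun i => (S.d i : ℂ)) = 0
  y : lin p S.u = 0
  ne : form S.d p S.u S.u ≠ 0

open scoped Classical in
/-- The shape of `p` and the choice between the two middle coordinates. -/
theorem Frame.psi_shape (F : Frame S c1 c2 c3 c4) {p q : ι → ℤ} (P : Psi S p q) :
    p c1 = 0 ∧ p c2 = 1 ∧ p c3 = 1 ∧ p c4 = 0 ∧
      S.al c1 = 0 ∧ S.al c4 = 0 ∧ (S.al c2 = -1 ∧ S.al c3 = 0 ∨ S.al c2 = 0 ∧ S.al c3 = -1) := by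
  have hp := F.sum_sq p
  rw [P.o, P.gg] at hp
  have ha := F.sum_sq S.al
  rw [S.oA, S.gAA] at ha
  have p1 := F.ip1 p; rw [P.g1] at p1
  have p3 := F.ip3 p; rw [P.g3] at p3
  have a1 := F.ip1 S.al; rw [S.g1A] at a1
  have a3 := F.ip3 S.al; rw [S.g3A] at a3
  have m0 := mul_self_nonneg (p c1); have m1 := mul_self_nonneg (p c2)
  have m2 := mul_self_nonneg (p c3); have m3 := mul_self_nonneg (p c4)
  have n0 := mul_self_nonneg (S.al c1); have n1 := mul_self_nonneg (S.al c2)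
  have n2 := mul_self_nonneg (S.al c3); have n3 := mul_self_nonneg (S.al c4)
  have hpc := psi_cases (p c1) (mem_Icc_of_sq (n := 4) (by omega) (by norm_num))
    (p c2) (mem_Icc_of_sq (n := 4) (by omega) (by norm_num))
    (p c3) (mem_Icc_of_sq (n := 4) (by omega) (by norm_num))
    (p c4) (mem_Icc_of_sq (n := 4) (by omega) (by norm_num)) p1.symm p3.symm (by omega)
  have hac := al_cases (S.al c1) (mem_Icc_of_sq (n := 4) (by omega) (by norm_num))
    (S.al c2) (mem_Icc_of_sq (n := 4) (by omega) (by norm_num))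
    (S.al c3) (mem_Icc_of_sq (n := 4) (by omega) (by norm_num))
    (S.al c4) (mem_Icc_of_sq (n := 4) (by omega) (by norm_num)) a1.symm a3.symm (by omega)
  have hs : ∑ i ∈ ({c1, c2, c3, c4} : Finset ι), p i * p i =
      p c1 * p c1 + p c2 * p c2 + p c3 * p c3 + p c4 * p c4 := by
    simp [F.d12, F.d13, F.d14, F.d23, F.d24, F.d34, add_assoc]
  simp only [List.mem_cons, Prod.mk.injEq, List.not_mem_nil, or_false] at hpc hac
  -- two on one coordinate
  have two : ∀ i, p i = 2 → False := by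
    intro i hi
    have hz : ∀ j ∉ ({i} : Finset ι), p j = 0 := fun j hj =>
      eq_zero_outside (by simp [hi, P.gg]) hj
    have e := P.gq
    rw [ip_eq_sum hz, Finset.sum_singleton, hi] at e
    omega
  -- one coordinate off the frame
  have one : (p c1 * p c1 + p c2 * p c2 + p c3 * p c3 + p c4 * p c4 + 1 = 4) → False := by
    intro e
    obtain ⟨i, -, -, hz⟩ := exists_one (v := p) (s := {c1, c2, c3, c4}) (by rw [hs, P.gg]; omega)
    exact P.ne (F.form_zero i hz P.z P.y)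
  rcases hpc with ⟨a, b, c, d⟩ | ⟨a, b, c, d⟩ | ⟨a, b, c, d⟩ | ⟨a, b, c, d⟩ | ⟨a, b, c, d⟩
  · exact (two c3 c).elim
  · refine ⟨a, b, c, d, ?_⟩
    rcases hac with ⟨a', b', c', d'⟩ | ⟨a', b', c', d'⟩ | ⟨a', b', c', d'⟩
    · exfalso
      obtain ⟨i, hi, hv, hz⟩ := exists_one (v := S.al) (s := {c1, c2, c3, c4, S.o}) (by
        simp [F.d12, F.d13, F.d14, F.d23, F.d24, F.d34, F.o1, F.o2, F.o3, F.o4, a', b', c', d',
          S.oA, S.gAA])
      have e := P.gA
      rw [ip_eq_sum hz, Finset.sum_insert hi] at e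
      simp [F.d12, F.d13, F.d14, F.d23, F.d24, F.d34, F.o1, F.o2, F.o3, F.o4, a', b', c', d',
        S.oA, P.o, a, b, c, d] at e
      have hb : p i * p i ≤ 2 := by
        have hsub := Finset.sum_le_sum_of_subset_of_nonneg
          (f := fun j => p j * p j) (Finset.subset_univ (insert i ({c2, c3} : Finset ι)))
          (fun j _ _ => mul_self_nonneg _)
        rw [Finset.sum_insert (by
          simp only [Finset.mem_insert, Finset.mem_singleton] at hi ⊢; tauto)] at hsub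
        have := P.gg
        simp only [ip] at this
        simp [F.d23, b, c, this] at hsub
        omega
      rcases hv with hv | hv <;> rw [hv] at e <;> nlinarith
    · exact ⟨a', d', Or.inl ⟨b', c'⟩⟩
    · exact ⟨a', d', Or.inr ⟨b', c'⟩⟩
  · exact (two c2 b).elim
  · exact (one (by rw [a, b, c, d]; norm_num)).elim
  · exact (one (by rw [a, b, c, d]; norm_num)).elim

open scoped Classical in
theorem assemble {a p : ι → ℤ} {s : Finset ι} {t l i' j' : ι} (ht : t ∉ s)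
    (hl : l ∉ insert t s) (hi' : i' ∉ s) (hj' : j' ∉ insert i' s)
    (vt : a t = 1 ∨ a t = -1) (vl : a l = 1 ∨ a l = -1) (hwi : p i' = 1 ∨ p i' = -1)
    (hwj : p j' = 1 ∨ p j' = -1) (hz : ∀ x ∉ insert l (insert t s), a x = 0)
    (hy : ∀ x ∉ insert j' (insert i' s), p x = 0) (et : p t = -a t) (el : p l = 0) :
    ∃ t l m, t ∉ s ∧ l ∉ insert t s ∧ m ∉ insert l (insert t s) ∧
      (a t = 1 ∨ a t = -1) ∧ p t = -a t ∧ (a l = 1 ∨ a l = -1) ∧ p l = 0 ∧
      a m = 0 ∧ (p m = 1 ∨ p m = -1) ∧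
      (∀ j ∉ insert l (insert t s), a j = 0) ∧ ∀ j ∉ insert m (insert t s), p j = 0 := by
  rw [Finset.mem_insert, not_or] at hj'
  have hmem : t = i' ∨ t = j' := by
    by_contra h
    rw [not_or] at h
    have := hy t (by simp [h.1, h.2, ht])
    omega
  obtain ⟨m, hm, hmv, hmt, hr⟩ : ∃ m, m ∉ s ∧ (p m = 1 ∨ p m = -1) ∧ m ≠ t ∧
      ∀ x ∉ insert m (insert t s), p x = 0 := by
    rcases hmem with rfl | rfl
    · exact ⟨j', hj'.2, hwj, hj'.1, hy⟩
    · exact ⟨i', hi', hwi, fun e => hj'.1 e.symm, fun x hx => hy x (by rwa [Finset.insert_comm])⟩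
  have hml : m ≠ l := fun h => by rw [h, el] at hmv; omega
  have hm' : m ∉ insert l (insert t s) := by simp [hml, hmt, hm]
  exact ⟨t, l, m, ht, hl, hm', vt, et, vl, el, hz m hm', hmv, hz, hr⟩

open scoped Classical in
/-- The coordinates of `al` and `p` off the frame. -/
theorem Frame.off_shape (F : Frame S c1 c2 c3 c4) {p q : ι → ℤ} (P : Psi S p q)
    (a2 : S.al c2 = -1) (a3 : S.al c3 = 0) :
    ∃ t l m, t ∉ ({c1, c2, c3, c4, S.o} : Finset ι) ∧
      l ∉ insert t ({c1, c2, c3, c4, S.o} : Finset ι) ∧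
      m ∉ insert l (insert t ({c1, c2, c3, c4, S.o} : Finset ι)) ∧
      (S.al t = 1 ∨ S.al t = -1) ∧ p t = -S.al t ∧ (S.al l = 1 ∨ S.al l = -1) ∧ p l = 0 ∧
      S.al m = 0 ∧ (p m = 1 ∨ p m = -1) ∧
      (∀ j ∉ insert l (insert t ({c1, c2, c3, c4, S.o} : Finset ι)), S.al j = 0) ∧
      ∀ j ∉ insert m (insert t ({c1, c2, c3, c4, S.o} : Finset ι)), p j = 0 := by
  obtain ⟨p1, p2, p3, p4, a1, a4, -⟩ := F.psi_shape P
  obtain ⟨i, hi, j, hj, hvi, hvj, hz⟩ := exists_two (v := S.al) (s := {c1, c2, c3, c4, S.o}) (by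
    simp [F.d12, F.d13, F.d14, F.d23, F.d24, F.d34, F.o1, F.o2, F.o3, F.o4, a1, a2, a3, a4,
      S.oA, S.gAA])
  obtain ⟨i', hi', j', hj', hwi, hwj, hy⟩ := exists_two (v := p) (s := {c1, c2, c3, c4, S.o}) (by
    simp [F.d12, F.d13, F.d14, F.d23, F.d24, F.d34, F.o1, F.o2, F.o3, F.o4, p1, p2, p3, p4,
      P.o, P.gg])
  have e := P.gA
  rw [ip_eq_sum hz, Finset.sum_insert hj, Finset.sum_insert hi] at e
  simp [F.d12, F.d13, F.d14, F.d23, F.d24, F.d34, F.o1, F.o2, F.o3, F.o4, a1, a2, a3, a4,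
    S.oA, P.o, p1, p2, p3, p4] at e
  have hij : i ≠ j := fun h => hj (by simp [h])
  have hij' : i' ≠ j' := fun h => hj' (by simp [h])
  have hjs : j ∉ ({c1, c2, c3, c4, S.o} : Finset ι) := fun h => hj (Finset.mem_insert_of_mem h)
  have hj's : j' ∉ ({c1, c2, c3, c4, S.o} : Finset ι) := fun h => hj' (Finset.mem_insert_of_mem h)
  have val : ∀ x ∉ ({c1, c2, c3, c4, S.o} : Finset ι), x ≠ i' → x ≠ j' → p x = 0 :=
    fun x hx h1 h2 => hy x (by rw [Finset.mem_insert, Finset.mem_insert]; push Not; exact ⟨h2, h1, hx⟩)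
  -- the coordinate shared by `al` and `p`
  have shared : (p i = -S.al i ∧ p j = 0) ∨ (p j = -S.al j ∧ p i = 0) := by
    have pi : p i = 1 ∨ p i = -1 ∨ p i = 0 := by
      by_cases h1 : i = i'
      · subst h1; exact hwi.elim Or.inl fun h => Or.inr (Or.inl h)
      · by_cases h2 : i = j'
        · subst h2; exact hwj.elim Or.inl fun h => Or.inr (Or.inl h)
        · exact Or.inr (Or.inr (val i hi h1 h2))
    have pj : p j = 1 ∨ p j = -1 ∨ p j = 0 := by
      by_cases h1 : j = i'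
      · subst h1; exact hwi.elim Or.inl fun h => Or.inr (Or.inl h)
      · by_cases h2 : j = j'
        · subst h2; exact hwj.elim Or.inl fun h => Or.inr (Or.inl h)
        · exact Or.inr (Or.inr (val j hjs h1 h2))
    rcases hvi with a | a <;> rcases hvj with b | b <;> rw [a, b] at e ⊢ <;> omega
  rcases shared with ⟨e1, e2⟩ | ⟨e1, e2⟩
  · exact assemble hi hj hi' hj' hvi hvj hwi hwj hz hy e1 e2
  · refine assemble hjs ?_ hi' hj' hvj hvi hwi hwj ?_ hy e1 e2
    · rw [Finset.mem_insert, not_or]; exact ⟨hij, hi⟩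
    · intro x hx; refine hz x ?_; rwa [Finset.insert_comm]

end Main

theorem int_swapped {a b : ℤ} (ha : a ≠ 0) (h : 4 * a * b + a + b = 0) : False := by
  have h1 : (4 * a + 1) * (4 * b + 1) = 1 := by linear_combination 4 * h
  rcases Int.eq_one_or_neg_one_of_mul_eq_one h1 with e | e <;> omega

theorem int_iv {t l m : ℤ} (ht : t ≠ 0) (hm : m ≠ 0) (h1 : 4 * m * l + l + 9 * m = 0)
    (h2 : 2 * t + l + m = 0) (h3 : l * m + 6 * t * m + t * l = 0) : False := by
  have h : (4 * m + 1) * (4 * l + 9) = 9 := by linear_combination 4 * h1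
  have hd : (4 * m + 1) ∣ (9 : ℤ) := ⟨_, h.symm⟩
  have hu : 4 * m + 1 ≤ 9 := Int.le_of_dvd (by norm_num) hd
  have hl : -(4 * m + 1) ≤ 9 := Int.le_of_dvd (by norm_num) (neg_dvd.2 hd)
  have hlow : -2 ≤ m := by omega
  have hupp : m ≤ 2 := by omega
  interval_cases m <;> first | omega | (simp_all; done) | nlinarith

theorem int_v {t l m : ℤ} (ht : t ≠ 0) (hm : m ≠ 0) (hl0 : l ≠ 0) (hd2 : 1 + t + l ≠ 0)
    (h1 : m * l + 4 * m + l = 0) (h2 : 3 * m = 2 * t + 1)
    (h3 : 8 * m * t + 3 * l * t + l * m = 0) : False := by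
  have h : (m + 1) * (l + 4) = 4 := by linear_combination h1
  have hd : (m + 1) ∣ (4 : ℤ) := ⟨_, h.symm⟩
  have hu : m + 1 ≤ 4 := Int.le_of_dvd (by norm_num) hd
  have hl : -(m + 1) ≤ 4 := Int.le_of_dvd (by norm_num) (neg_dvd.2 hd)
  have hlow : -5 ≤ m := by omega
  have hupp : m ≤ 3 := by omega
  interval_cases m <;> first | omega | (simp_all; done) | nlinarith

section Final

variable {S : Sys ι} {c1 c2 c3 c4 : ι}

theorem Psi.first (S : Sys ι) : Psi S S.p1 S.p2 :=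
  ⟨S.oP, S.g1P, S.g3P, S.gAP, S.gPP, S.gPQ,
    (S.zd _ (Or.inr (Or.inr (Or.inr (Or.inl rfl))))).1,
    (S.zd _ (Or.inr (Or.inr (Or.inr (Or.inl rfl))))).2.1,
    by rw [S.uuP]; exact neg_ne_zero.2 S.uuA⟩

theorem Psi.second (S : Sys ι) : Psi S S.p2 S.p1 :=
  ⟨S.oQ, S.g1Q, S.g3Q, S.gAQ, S.gQQ, (ip_comm _ _).trans S.gPQ,
    (S.zd _ (Or.inr (Or.inr (Or.inr (Or.inr (Or.inl rfl)))))).1,
    (S.zd _ (Or.inr (Or.inr (Or.inr (Or.inr (Or.inl rfl)))))).2.1,
    by rw [S.uuQ]; exact neg_ne_zero.2 S.uuA⟩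

/-- The swapped configuration is impossible. -/
theorem Frame.not_swapped (F : Frame S c1 c2 c3 c4) {t l m : ι}
    (lt : ∀ f : ι → ℂ, lin S.al f = f S.o - f c2 + f t + f l)
    (lp : ∀ f : ι → ℂ, lin S.p1 f = f c2 + f c3 - f t + f m)
    (lq : ∀ f : ι → ℂ, lin S.p2 f = f c2 + f c3 - f l + f m) : False := by
  obtain ⟨r, -, r2, r3, -⟩ := F.prop_u
  obtain ⟨zA, yA, -⟩ := S.zd S.al (Or.inr (Or.inr (Or.inl rfl)))
  obtain ⟨zP, yP, -⟩ := S.zd S.p1 (Or.inr (Or.inr (Or.inr (Or.inl rfl))))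
  obtain ⟨zQ, yQ, -⟩ := S.zd S.p2 (Or.inr (Or.inr (Or.inr (Or.inr (Or.inl rfl)))))
  have hP := S.uuP
  have hA := S.uuA
  simp only [form, lt, lp] at hP hA
  rw [lt, S.u_o, r2] at yA
  rw [lp, r2, r3] at yP
  rw [lq, r2, r3] at yQ
  rw [lt, S.d_o, Int.cast_one] at zA
  rw [lp] at zP
  rw [lq] at zQ
  rw [r2, r3, S.u_o, S.d_o, Int.cast_one] at hP
  rw [r2, S.u_o, S.d_o, Int.cast_one] at hA
  have n : ∀ i, (S.d i : ℂ) ≠ 0 := fun i => Int.cast_ne_zero.2 (S.d_ne i)
  have := n c2; have := n c3; have := n t; have := n l; have := n m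
  obtain ⟨T, hT⟩ : ∃ T, S.u t = T + r * S.d t := ⟨S.u t - r * S.d t, by ring⟩
  obtain ⟨L, hL⟩ : ∃ L, S.u l = L + r * S.d l := ⟨S.u l - r * S.d l, by ring⟩
  obtain ⟨M, hM⟩ : ∃ M, S.u m = M + r * S.d m := ⟨S.u m - r * S.d m, by ring⟩
  rw [hT] at yA yP hP hA
  rw [hL] at yA yQ hP hA
  rw [hM] at yP yQ hP
  obtain rfl : T = M := by linear_combination r * zP - yP
  obtain rfl : T = L := by linear_combination yQ - yP - r * zQ + r * zP
  obtain rfl : r = 1 + 2 * T := by linear_combination -yA + r * zA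
  have hld : S.d l = S.d t := by
    have : (S.d l : ℂ) = S.d t := by linear_combination zP - zQ
    exact_mod_cast this
  have e : T ^ 2 * (4 + 1 / (S.d l : ℂ) + 1 / (S.d m : ℂ)) = 0 := by
    have htl : (S.d t : ℂ) = S.d l := by exact_mod_cast hld.symm
    rw [htl] at hP zA zP
    field_simp at hP ⊢
    linear_combination hP - (1 + 2 * T) ^ 2 * (S.d l : ℂ) * (S.d m : ℂ) * (zP + zA)
  rcases mul_eq_zero.1 e with h | h
  · refine hA ?_
    rw [pow_eq_zero_iff two_ne_zero] at h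
    rw [h]
    field_simp
    linear_combination (S.d t : ℂ) * (S.d l : ℂ) * zA
  · field_simp at h
    refine int_swapped (S.d_ne l) (b := S.d m) ?_
    exact_mod_cast (show (4 * (S.d l : ℂ) * S.d m + S.d l + S.d m) = 0 by linear_combination h)

/-- The explicit configuration. -/
theorem Frame.finish (F : Frame S c1 c2 c3 c4) {t l m m' : ι}
    (lt : ∀ f : ι → ℂ, lin S.al f = f S.o - f c2 + f t + f l)
    (lp : ∀ f : ι → ℂ, lin S.p1 f = f c2 + f c3 - f t + f m)
    (lq : ∀ f : ι → ℂ, lin S.p2 f = f c2 + f c3 - f t + f m')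
    (lh : (∃ n : ι, ∃ σ : ℤ, (σ = 1 ∨ σ = -1) ∧
        ∀ f : ι → ℂ, lin S.h f = 2 * f c3 + f l + (σ : ℂ) * f n) ∨
      (∀ f : ι → ℂ, lin S.h f = f c2 + f c3 + 2 * f l) ∨
      (∀ f : ι → ℂ, lin S.h f = f c2 + f c3 + f t + f l + f m + f m') ∨
      (∀ f : ι → ℂ, lin S.h f = f c1 + f c3 + f c4 + f l + f m + f m')) :
    ∃ i, (S.d i = 2 ∨ S.d i = -2) ∧ S.u i = S.d i := by
  obtain ⟨r, r1, r2, r3, r4⟩ := F.prop_u
  obtain ⟨z1, y1, w1⟩ := S.zd S.k1 (Or.inl rfl)
  obtain ⟨z3, -, -⟩ := S.zd S.k3 (Or.inr (Or.inl rfl))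
  obtain ⟨zA, yA, wA⟩ := S.zd S.al (Or.inr (Or.inr (Or.inl rfl)))
  obtain ⟨zP, yP, wP⟩ := S.zd S.p1 (Or.inr (Or.inr (Or.inr (Or.inl rfl))))
  obtain ⟨zQ, yQ, -⟩ := S.zd S.p2 (Or.inr (Or.inr (Or.inr (Or.inr (Or.inl rfl)))))
  obtain ⟨zH, yH, wH⟩ := S.zd S.h (Or.inr (Or.inr (Or.inr (Or.inr (Or.inr rfl)))))
  rw [F.lin1] at z1 y1 w1
  rw [F.lin3] at z3
  rw [lt, S.u_o] at yA
  rw [lt, S.w_o] at wA
  rw [lt, S.d_o, Int.cast_one] at zA
  rw [lp] at zP yP wP
  rw [lq] at zQ yQ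
  have n : ∀ i, (S.d i : ℂ) ≠ 0 := fun i => Int.cast_ne_zero.2 (S.d_ne i)
  rcases lh with ⟨k, σ, hσ, lh⟩ | lh | lh | lh <;> rw [lh] at zH yH wH
  · -- the true configuration
    have hσ0 : (σ : ℂ) ≠ 0 := by rcases hσ with rfl | rfl <;> norm_num
    have hσ2 : (σ : ℂ) * σ = 1 := by rcases hσ with rfl | rfl <;> norm_num
    have hσk : ∀ a b : ℂ, (σ : ℂ) * (a * b / S.d k) =
        ((σ : ℂ) * a) * ((σ : ℂ) * b) / ((σ : ℂ) * S.d k) := fun a b => by
      have := n k
      field_simp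
    have d1 : (S.d c1 : ℂ) = -(S.d c2 : ℂ) + -(S.d c3 : ℂ) := by linear_combination z1
    have dl : (S.d l : ℂ) = -(1 + S.d t + -(S.d c2 : ℂ)) := by linear_combination zA
    have dm : (S.d m : ℂ) = S.d t + -(S.d c2 : ℂ) + -(S.d c3 : ℂ) := by linear_combination zP
    have dk : (σ : ℂ) * S.d k = 1 + S.d t + -(S.d c2 : ℂ) + 2 * -(S.d c3 : ℂ) := by
      linear_combination zH - dl
    have g1 : S.u c1 = -S.u c2 + -S.u c3 := by linear_combination y1
    have gl : S.u l = -(1 + S.u t + -S.u c2) := by linear_combination yA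
    have gm : S.u m = S.u t + -S.u c2 + -S.u c3 := by linear_combination yP
    have gk : (σ : ℂ) * S.u k = 1 + S.u t + -S.u c2 + 2 * -S.u c3 := by linear_combination yH - gl
    have h1 : S.w c1 = -S.w c2 + -S.w c3 := by linear_combination w1
    have hl : S.w l = -(1 + S.w t + -S.w c2) := by linear_combination wA
    have hm : S.w m = S.w t + -S.w c2 + -S.w c3 := by linear_combination wP
    have hk : (σ : ℂ) * S.w k = 1 + S.w t + -S.w c2 + 2 * -S.w c3 := by linear_combination wH - hl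
    have key : ∀ a b : ι → ℂ, a S.o = 1 → b S.o = 1 →
        a c1 = -a c2 + -a c3 → b c1 = -b c2 + -b c3 →
        a l = -(1 + a t + -a c2) → b l = -(1 + b t + -b c2) →
        a m = a t + -a c2 + -a c3 → b m = b t + -b c2 + -b c3 →
        (σ : ℂ) * a k = 1 + a t + -a c2 + 2 * -a c3 → (σ : ℂ) * b k = 1 + b t + -b c2 + 2 * -b c3 →
        form S.d S.k1 a b = formK ((S.d t : ℂ), -(S.d c2 : ℂ), -(S.d c3 : ℂ))
          (a t, -a c2, -a c3) (b t, -b c2, -b c3) ∧
        form S.d S.al a b = formA ((S.d t : ℂ), -(S.d c2 : ℂ), -(S.d c3 : ℂ))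
          (a t, -a c2, -a c3) (b t, -b c2, -b c3) ∧
        form S.d S.p1 a b = formP ((S.d t : ℂ), -(S.d c2 : ℂ), -(S.d c3 : ℂ))
          (a t, -a c2, -a c3) (b t, -b c2, -b c3) ∧
        form S.d S.h a b = formH ((S.d t : ℂ), -(S.d c2 : ℂ), -(S.d c3 : ℂ))
          (a t, -a c2, -a c3) (b t, -b c2, -b c3) := by
      intro a b ao bo a1 b1 al' bl am bm ak bk
      refine ⟨?_, ?_, ?_, ?_⟩
      · rw [form, F.lin1, formK, a1, b1, d1]; ring
      · rw [form, lt, formA, ao, bo, al', bl, dl, S.d_o, Int.cast_one]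
        simp only [div_neg, neg_mul, mul_neg, neg_neg, neg_div]
        ring
      · rw [form, lp, formP, am, bm, dm]; ring
      · rw [form, lh, formH, hσk, ak, bk, dk, al', bl, dl]
        simp only [div_neg, neg_mul, mul_neg, neg_neg, neg_div]
        ring
    obtain ⟨uK, uA, uP, uH⟩ := key S.u S.u S.u_o S.u_o g1 g1 gl gl gm gm gk gk
    obtain ⟨-, xA, xP, xH⟩ := key S.u S.w S.u_o S.w_o g1 h1 gl hl gm hm gk hk
    obtain ⟨vK, vA, -, vH⟩ := key S.w S.w S.w_o S.w_o h1 h1 hl hl hm hm hk hk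
    have res := solve (k := ℂ) (n t) (neg_ne_zero.2 (n c2)) (neg_ne_zero.2 (n c3))
      (by rw [← d1]; exact n c1) (neg_ne_zero.1 (by rw [← dl]; exact n l))
      (by rw [← dm]; exact n m) (by rw [← dk]; exact mul_ne_zero hσ0 (n k))
      (uK ▸ S.uu1) (uP ▸ uA ▸ S.uuP) (uH ▸ uA ▸ S.uuH) (uA ▸ S.uuA) (xP ▸ S.uwP)
      (xH ▸ xA ▸ S.uwH) (vA ▸ vK ▸ S.wwA) (vH ▸ vK ▸ S.wwH) (vK ▸ S.ww1)
    refine ⟨t, Or.inl (by exact_mod_cast res.1), ?_⟩
    rw [res.1, res.2]
  · -- two on `l`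
    exfalso
    refine S.uuA (neg_eq_zero.1 ?_)
    rw [← S.uuH, form, lh]
    have : (2 : ℂ) * (S.u l - r * S.d l) = 0 := by
      rw [r2, r3] at yH; linear_combination yH - r * zH
    rw [r2, r3, sub_eq_zero.1 ((mul_eq_zero.1 this).resolve_left two_ne_zero)]
    have := n c2; have := n c3; have := n l
    field_simp
    linear_combination 2 * r ^ 2 * zH
  · exfalso
    have hP := S.uuP
    have hH := S.uuH
    have hA := S.uuA
    simp only [form, lt, lp, lh] at hP hH hA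
    rw [r2] at yA
    rw [r2, r3] at yP yQ yH
    simp only [r2, r3, S.u_o, S.d_o, Int.cast_one] at hP hH hA
    obtain ⟨T, hT⟩ : ∃ T, S.u t = T + r * S.d t := ⟨S.u t - r * S.d t, by ring⟩
    obtain ⟨L, hL⟩ : ∃ L, S.u l = L + r * S.d l := ⟨S.u l - r * S.d l, by ring⟩
    obtain ⟨M, hM⟩ : ∃ M, S.u m = M + r * S.d m := ⟨S.u m - r * S.d m, by ring⟩
    obtain ⟨M', hM'⟩ : ∃ M, S.u m' = M + r * S.d m' := ⟨S.u m' - r * S.d m', by ring⟩
    rw [hT] at yA yP yQ yH hP hH hA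
    rw [hL] at yA yH hP hH hA
    rw [hM] at yP yH hP hH
    rw [hM'] at yQ yH hH
    obtain rfl : T = M := by linear_combination r * zP - yP
    obtain rfl : T = M' := by linear_combination r * zQ - yQ
    obtain rfl : L = -(3 * T) := by linear_combination yH - r * zH
    obtain rfl : r = 1 - 2 * T := by linear_combination -yA + r * zA
    have hmm : (S.d m' : ℂ) = S.d m := by linear_combination zQ - zP
    rw [hmm] at zH hH
    have := n c2; have := n c3; have := n t; have := n l; have := n m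
    have hT0 : T ≠ 0 := by
      rintro rfl
      refine hA ?_
      field_simp
      linear_combination (S.d t : ℂ) * (S.d l : ℂ) * zA
    have e1 : 4 * (S.d m : ℂ) * S.d l + S.d l + 9 * S.d m = 0 := by
      apply mul_left_cancel₀ (mul_ne_zero (pow_ne_zero 2 hT0) (n t))
      field_simp at hP
      linear_combination hP -
        (1 - 2 * T) ^ 2 * ((S.d t : ℂ) * (S.d l : ℂ) * (S.d m : ℂ)) * (zP + zA)
    have e3 : (S.d l : ℂ) * S.d m + 6 * S.d t * S.d m + S.d t * S.d l = 0 := by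
      apply mul_left_cancel₀ (pow_ne_zero 2 hT0)
      field_simp at hP hH
      linear_combination (hH - hP -
        (1 - 2 * T) ^ 2 * ((S.d t : ℂ) * (S.d l : ℂ) * (S.d m : ℂ)) * (2 * zH - zP)) / 3
    have e2 : 2 * (S.d t : ℂ) + S.d l + S.d m = 0 := by linear_combination zH - zP
    exact int_iv (S.d_ne t) (S.d_ne m) (by exact_mod_cast e1) (by exact_mod_cast e2)
      (by exact_mod_cast e3)
  · exfalso
    have hP := S.uuP
    have hH := S.uuH
    have hA := S.uuA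
    simp only [form, lt, lp, lh] at hP hH hA
    rw [r2] at yA
    rw [r2, r3] at yP yQ
    rw [r1, r3, r4] at yH
    simp only [r1, r2, r3, r4, S.u_o, S.d_o, Int.cast_one] at hP hH hA
    obtain ⟨T, hT⟩ : ∃ T, S.u t = T + r * S.d t := ⟨S.u t - r * S.d t, by ring⟩
    obtain ⟨L, hL⟩ : ∃ L, S.u l = L + r * S.d l := ⟨S.u l - r * S.d l, by ring⟩
    obtain ⟨M, hM⟩ : ∃ M, S.u m = M + r * S.d m := ⟨S.u m - r * S.d m, by ring⟩
    obtain ⟨M', hM'⟩ : ∃ M, S.u m' = M + r * S.d m' := ⟨S.u m' - r * S.d m', by ring⟩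
    rw [hT] at yA yP yQ hP hH hA
    rw [hL] at yA yH hP hH hA
    rw [hM] at yP yH hP hH
    rw [hM'] at yQ yH hH
    obtain rfl : T = M := by linear_combination r * zP - yP
    obtain rfl : T = M' := by linear_combination r * zQ - yQ
    obtain rfl : L = -(2 * T) := by linear_combination yH - r * zH
    obtain rfl : r = 1 - T := by linear_combination -yA + r * zA
    have hmm : (S.d m' : ℂ) = S.d m := by linear_combination zQ - zP
    rw [hmm] at zH hH
    have := n c1; have := n c2; have := n c3; have := n c4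
    have := n t; have := n l; have := n m
    have hT0 : T ≠ 0 := by
      rintro rfl
      refine hA ?_
      field_simp
      linear_combination (S.d t : ℂ) * (S.d l : ℂ) * zA
    have e1 : (S.d m : ℂ) * S.d l + 4 * S.d m + S.d l = 0 := by
      apply mul_left_cancel₀ (mul_ne_zero (pow_ne_zero 2 hT0) (n t))
      field_simp at hP
      linear_combination hP -
        (1 - T) ^ 2 * ((S.d t : ℂ) * (S.d l : ℂ) * (S.d m : ℂ)) * (zP + zA)
    have e3 : 8 * (S.d m : ℂ) * S.d t + 3 * S.d l * S.d t + S.d l * S.d m = 0 := by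
      apply mul_left_cancel₀ (pow_ne_zero 2 hT0)
      field_simp at hP hH
      linear_combination hH - hP -
        (1 - T) ^ 2 * ((S.d t : ℂ) * (S.d l : ℂ) * (S.d m : ℂ)) * (2 * zH - zP)
    have e2 : 3 * (S.d m : ℂ) = 2 * S.d t + 1 := by
      linear_combination zH + zP - zA - z1 - z3
    have e4 : 1 + (S.d t : ℂ) + S.d l = S.d c2 := by linear_combination zA
    refine int_v (S.d_ne t) (S.d_ne m) (S.d_ne l) ?_ (by exact_mod_cast e1) (by exact_mod_cast e2)
      (by exact_mod_cast e3)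
    intro h
    exact n c2 (by rw [← e4]; exact_mod_cast h)

open scoped Classical in
/-- The frame gives the conclusion. -/
theorem Frame.main (F : Frame S c1 c2 c3 c4) (a2 : S.al c2 = -1) (a3 : S.al c3 = 0) :
    ∃ i, (S.d i = 2 ∨ S.d i = -2) ∧ S.u i = S.d i := by
  obtain ⟨t, l, m, ht, hl, hm, vt, pt, vl, pl, am, pm, az, pz⟩ :=
    F.off_shape (Psi.first S) a2 a3
  obtain ⟨t', l', m', ht', hl', hm', vt', qt, vl', ql, am', qm, -, qz⟩ :=
    F.off_shape (Psi.second S) a2 a3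
  obtain ⟨p1c, p2c, p3c, p4c, a1, a4, -⟩ := F.psi_shape (Psi.first S)
  obtain ⟨q1c, q2c, q3c, q4c, -, -, -⟩ := F.psi_shape (Psi.second S)
  simp only [Finset.mem_insert, Finset.mem_singleton, not_or] at ht hl hm ht' hl' hm'
  obtain ⟨tn1, tn2, tn3, tn4, tno⟩ := ht
  obtain ⟨lnt, ln1, ln2, ln3, ln4, lno⟩ := hl
  obtain ⟨mnl, mnt, mn1, mn2, mn3, mn4, mno⟩ := hm
  obtain ⟨un1, un2, un3, un4, uno⟩ := ht'
  obtain ⟨-, -, -, -, -, -⟩ := hl'
  obtain ⟨mnl', mnt', ma1, ma2, ma3, ma4, mao⟩ := hm'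
  have tt : t' = t ∨ t' = l := by
    by_contra h
    rw [not_or] at h
    have := az t' (by simp [h.1, h.2, un1, un2, un3, un4, uno])
    omega
  have mt : m' ≠ t := fun h => by rw [h] at am'; omega
  have ml : m' ≠ l := fun h => by rw [h] at am'; omega
  -- the new signs
  rcases tt with rfl | rfl
  · -- same shared coordinate
    have hmm : m' ≠ m := by
      intro h
      subst h
      have e := S.gPQ
      rw [ip_eq_sum pz] at e
      simp [mnt, mn1, mn2, mn3, mn4, mno, tn1, tn2, tn3, tn4, tno, F.d12, F.d13, F.d14, F.d23,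
        F.d24, F.d34, F.o1, F.o2, F.o3, F.o4, p1c, p2c, p3c, p4c, q1c, q2c, q3c, q4c, S.oP,
        pt, qt] at e
      rcases vt with a | a <;> rcases pm with b | b <;> rcases qm with c | c <;> rw [a, b, c] at e <;>
        omega
    let s : ι → ℤ := fun i => if i = t' then S.al t' else if i = l then S.al l else
      if i = m then S.p1 m else if i = m' then S.p2 m' else 1
    have st : s t' = S.al t' := by simp [s]
    have sl : s l = S.al l := by simp [s, lnt]
    have sm : s m = S.p1 m := by simp [s, mnt, mnl]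
    have sm' : s m' = S.p2 m' := by simp [s, mt, ml, hmm]
    have s1 : ∀ i, i ≠ t' → i ≠ l → i ≠ m → i ≠ m' → s i = 1 := fun i a b c d => by
      simp [s, a, b, c, d]
    have hs : ∀ i, s i = 1 ∨ s i = -1 := by
      intro i
      simp only [s]
      split_ifs
      exacts [vt, vl, pm, qm, Or.inl rfl]
    have fc1 := s1 c1 (Ne.symm tn1) (Ne.symm ln1) (Ne.symm mn1) (Ne.symm ma1)
    have fc2 := s1 c2 (Ne.symm tn2) (Ne.symm ln2) (Ne.symm mn2) (Ne.symm ma2)
    have fc3 := s1 c3 (Ne.symm tn3) (Ne.symm ln3) (Ne.symm mn3) (Ne.symm ma3)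
    have fc4 := s1 c4 (Ne.symm tn4) (Ne.symm ln4) (Ne.symm mn4) (Ne.symm ma4)
    have fo := s1 S.o (Ne.symm tno) (Ne.symm lno) (Ne.symm mno) (Ne.symm mao)
    let S' := S.flip s hs fo
    have F' : Frame S' c1 c2 c3 c4 :=
      ⟨F.d12, F.d13, F.d14, F.d23, F.d24, F.d34, F.o1, F.o2, F.o3, F.o4,
        by simp [S', Sys.flip, fc1, F.k11], by simp [S', Sys.flip, fc2, F.k12],
        by simp [S', Sys.flip, fc3, F.k13], by simp [S', Sys.flip, fc4, F.k14],
        by simp [S', Sys.flip, fc1, F.k31], by simp [S', Sys.flip, fc2, F.k32],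
        by simp [S', Sys.flip, fc3, F.k33], by simp [S', Sys.flip, fc4, F.k34],
        fun i a b c => by simp [S', Sys.flip, F.k1z i a b c],
        fun i a b c => by simp [S', Sys.flip, F.k3z i a b c]⟩
    have sq : ∀ {a : ℤ}, (a = 1 ∨ a = -1) → a * a = 1 := fun h => by
      rcases h with e | e <;> rw [e] <;> norm_num
    have Et : S'.al t' = 1 := by show s t' * S.al t' = 1; rw [st]; exact sq vt
    have El : S'.al l = 1 := by show s l * S.al l = 1; rw [sl]; exact sq vl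
    have Pt : S'.p1 t' = -1 := by show s t' * S.p1 t' = -1; rw [st, pt, mul_neg, sq vt]
    have Pm : S'.p1 m = 1 := by show s m * S.p1 m = 1; rw [sm]; exact sq pm
    have Qt : S'.p2 t' = -1 := by show s t' * S.p2 t' = -1; rw [st, qt, mul_neg, sq vt]
    have Qm : S'.p2 m' = 1 := by show s m' * S.p2 m' = 1; rw [sm']; exact sq qm
    have A2 : S'.al c2 = -1 := by show s c2 * S.al c2 = -1; rw [fc2, a2]; norm_num
    have Az : ∀ i ∉ ({S.o, c2, t', l} : Finset ι), S'.al i = 0 := by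
      intro i hi
      simp only [Finset.mem_insert, Finset.mem_singleton, not_or] at hi
      show s i * S.al i = 0
      rcases eq_or_ne i c1 with rfl | e1
      · simp [a1]
      rcases eq_or_ne i c3 with rfl | e3
      · simp [a3]
      rcases eq_or_ne i c4 with rfl | e4
      · simp [a4]
      rw [az i (by simp [hi.1, hi.2.1, hi.2.2.1, hi.2.2.2, e1, e3, e4]), mul_zero]
    have Pz : ∀ i ∉ ({c2, c3, t', m} : Finset ι), S'.p1 i = 0 := by
      intro i hi
      simp only [Finset.mem_insert, Finset.mem_singleton, not_or] at hi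
      show s i * S.p1 i = 0
      rcases eq_or_ne i c1 with rfl | e1
      · simp [p1c]
      rcases eq_or_ne i S.o with rfl | e3
      · simp [S.oP]
      rcases eq_or_ne i c4 with rfl | e4
      · simp [p4c]
      rw [pz i (by simp [hi.1, hi.2.1, hi.2.2.1, hi.2.2.2, e1, e3, e4]), mul_zero]
    have Qz : ∀ i ∉ ({c2, c3, t', m'} : Finset ι), S'.p2 i = 0 := by
      intro i hi
      simp only [Finset.mem_insert, Finset.mem_singleton, not_or] at hi
      show s i * S.p2 i = 0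
      rcases eq_or_ne i c1 with rfl | e1
      · simp [q1c]
      rcases eq_or_ne i S.o with rfl | e3
      · simp [S.oQ]
      rcases eq_or_ne i c4 with rfl | e4
      · simp [q4c]
      rw [qz i (by simp [hi.1, hi.2.1, hi.2.2.1, hi.2.2.2, e1, e3, e4]), mul_zero]
    have P2 : S'.p1 c2 = 1 := by show s c2 * S.p1 c2 = 1; rw [fc2, p2c]; norm_num
    have P3 : S'.p1 c3 = 1 := by show s c3 * S.p1 c3 = 1; rw [fc3, p3c]; norm_num
    have Q2 : S'.p2 c2 = 1 := by show s c2 * S.p2 c2 = 1; rw [fc2, q2c]; norm_num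
    have Q3 : S'.p2 c3 = 1 := by show s c3 * S.p2 c3 = 1; rw [fc3, q3c]; norm_num
    have Ao : S'.al S.o = 1 := S'.oA
    have lt : ∀ f : ι → ℂ, lin S'.al f = f S.o - f c2 + f t' + f l := fun f => by
      rw [lin_eq_sum Az]
      simp [F.o2.symm, Ne.symm tno, Ne.symm lno, Ne.symm tn2, Ne.symm ln2, Ne.symm lnt,
        Et, El, A2, Ao]
      ring
    have lp : ∀ f : ι → ℂ, lin S'.p1 f = f c2 + f c3 - f t' + f m := fun f => by
      rw [lin_eq_sum Pz]
      simp [F.d23, Ne.symm tn2, Ne.symm mn2, Ne.symm tn3, Ne.symm mn3, Ne.symm mnt, Pt, Pm, P2, P3]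
      ring
    have lq : ∀ f : ι → ℂ, lin S'.p2 f = f c2 + f c3 - f t' + f m' := fun f => by
      rw [lin_eq_sum Qz]
      simp [F.d23, Ne.symm tn2, Ne.symm ma2, Ne.symm tn3, Ne.symm ma3, Ne.symm mt, Qt, Qm, Q2, Q3]
      ring
    -- the shape of `h`
    have hb := Finset.sum_le_sum_of_subset_of_nonneg (f := fun i => S'.h i * S'.h i)
      (Finset.subset_univ ({c1, c2, c3, c4, t', l, m, m'} : Finset ι))
      fun i _ _ => mul_self_nonneg _
    have hsum : ∑ i ∈ ({c1, c2, c3, c4, t', l, m, m'} : Finset ι), S'.h i * S'.h i =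
        S'.h c1 * S'.h c1 + S'.h c2 * S'.h c2 + S'.h c3 * S'.h c3 + S'.h c4 * S'.h c4 +
        S'.h t' * S'.h t' + S'.h l * S'.h l + S'.h m * S'.h m + S'.h m' * S'.h m' := by
      simp [F.d12, F.d13, F.d14, F.d23, F.d24, F.d34, Ne.symm tn1, Ne.symm ln1, Ne.symm mn1,
        Ne.symm ma1, Ne.symm tn2, Ne.symm ln2, Ne.symm mn2, Ne.symm ma2, Ne.symm tn3, Ne.symm ln3,
        Ne.symm mn3, Ne.symm ma3, Ne.symm tn4, Ne.symm ln4, Ne.symm mn4, Ne.symm ma4,
        Ne.symm lnt, Ne.symm mnt, Ne.symm mnl, Ne.symm mt, Ne.symm ml, Ne.symm hmm, add_assoc]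
    have h6 : ∑ i, S'.h i * S'.h i = 6 := S'.gHH
    rw [hsum, h6] at hb
    have e1 := F'.ip1 S'.h
    rw [S'.g1H] at e1
    have e3 := F'.ip3 S'.h
    rw [S'.g3H] at e3
    have eA := S'.gAH
    rw [ip_eq_sum Az] at eA
    simp [F.o2.symm, Ne.symm tno, Ne.symm lno, Ne.symm tn2, Ne.symm ln2, Ne.symm lnt,
      Et, El, A2, Ao, show S'.h S.o = 0 from S'.oH] at eA
    have eP := S'.gPH
    rw [ip_eq_sum Pz] at eP
    simp [F.d23, Ne.symm tn2, Ne.symm mn2, Ne.symm tn3, Ne.symm mn3, Ne.symm mnt, Pt, Pm, P2,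
      P3] at eP
    have eQ := S'.gQH
    rw [ip_eq_sum Qz] at eQ
    simp [F.d23, Ne.symm tn2, Ne.symm ma2, Ne.symm tn3, Ne.symm ma3, Ne.symm mt, Qt, Qm, Q2,
      Q3] at eQ
    have h14 : S'.h c4 = S'.h c1 := by omega
    have hmm2 : S'.h m' = S'.h m := by omega
    rw [h14, hmm2] at hb hsum
    have g0 := mul_self_nonneg (S'.h c1); have g1 := mul_self_nonneg (S'.h c2)
    have g2 := mul_self_nonneg (S'.h c3); have g4 := mul_self_nonneg (S'.h t')
    have g5 := mul_self_nonneg (S'.h l); have g6 := mul_self_nonneg (S'.h m)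
    have hc := h_cases (S'.h c1) (mem_Icc_of_sq (n := 6) (by omega) (by norm_num))
      (S'.h c2) (mem_Icc_of_sq (n := 6) (by omega) (by norm_num))
      (S'.h c3) (mem_Icc_of_sq (n := 6) (by omega) (by norm_num))
      (S'.h t') (mem_Icc_of_sq (n := 6) (by omega) (by norm_num))
      (S'.h l) (mem_Icc_of_sq (n := 6) (by omega) (by norm_num))
      (S'.h m) (mem_Icc_of_sq (n := 6) (by omega) (by norm_num))
      (by omega) (by omega) (by omega) (by omega)
    simp only [List.mem_cons, Prod.mk.injEq, List.not_mem_nil, or_false] at hc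
    have res : ∃ i, (S'.d i = 2 ∨ S'.d i = -2) ∧ S'.u i = S'.d i := by
      refine F'.finish lt lp lq ?_
      rcases hc with ⟨b1, b2, b3, b5, b6, b7⟩ | ⟨b1, b2, b3, b5, b6, b7⟩ |
        ⟨b1, b2, b3, b5, b6, b7⟩ | ⟨b1, b2, b3, b5, b6, b7⟩
      · left
        obtain ⟨k, hk, hkv, hz⟩ := exists_one (v := S'.h)
          (s := {c1, c2, c3, c4, t', l, m, m'}) (by rw [hsum, S'.gHH, b1, b2, b3, b5, b6, b7]; norm_num)
        refine ⟨k, S'.h k, hkv, fun f => ?_⟩
        rw [lin_eq_sum hz, Finset.sum_insert hk]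
        simp [F.d12, F.d13, F.d14, F.d23, F.d24, F.d34, Ne.symm tn1, Ne.symm ln1, Ne.symm mn1,
          Ne.symm ma1, Ne.symm tn2, Ne.symm ln2, Ne.symm mn2, Ne.symm ma2, Ne.symm tn3,
          Ne.symm ln3, Ne.symm mn3, Ne.symm ma3, Ne.symm tn4, Ne.symm ln4, Ne.symm mn4,
          Ne.symm ma4, Ne.symm lnt, Ne.symm mnt, Ne.symm mnl, Ne.symm mt, Ne.symm ml, Ne.symm hmm,
          h14, hmm2, b1, b2, b3, b5, b6, b7]
        ring
      all_goals
        right
        have hz : ∀ i ∉ ({c1, c2, c3, c4, t', l, m, m'} : Finset ι), S'.h i = 0 := fun i hi =>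
          eq_zero_outside (by rw [hsum, S'.gHH, b1, b2, b3, b5, b6, b7]; norm_num) hi
      · left; intro f
        rw [lin_eq_sum hz]
        simp [F.d12, F.d13, F.d14, F.d23, F.d24, F.d34, Ne.symm tn1, Ne.symm ln1, Ne.symm mn1,
          Ne.symm ma1, Ne.symm tn2, Ne.symm ln2, Ne.symm mn2, Ne.symm ma2, Ne.symm tn3,
          Ne.symm ln3, Ne.symm mn3, Ne.symm ma3, Ne.symm tn4, Ne.symm ln4, Ne.symm mn4,
          Ne.symm ma4, Ne.symm lnt, Ne.symm mnt, Ne.symm mnl, Ne.symm mt, Ne.symm ml, Ne.symm hmm,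
          h14, hmm2, b1, b2, b3, b5, b6, b7]
        ring
      · right; left; intro f
        rw [lin_eq_sum hz]
        simp [F.d12, F.d13, F.d14, F.d23, F.d24, F.d34, Ne.symm tn1, Ne.symm ln1, Ne.symm mn1,
          Ne.symm ma1, Ne.symm tn2, Ne.symm ln2, Ne.symm mn2, Ne.symm ma2, Ne.symm tn3,
          Ne.symm ln3, Ne.symm mn3, Ne.symm ma3, Ne.symm tn4, Ne.symm ln4, Ne.symm mn4,
          Ne.symm ma4, Ne.symm lnt, Ne.symm mnt, Ne.symm mnl, Ne.symm mt, Ne.symm ml, Ne.symm hmm,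
          h14, hmm2, b1, b2, b3, b5, b6, b7]
        ring
      · right; right; intro f
        rw [lin_eq_sum hz]
        simp [F.d12, F.d13, F.d14, F.d23, F.d24, F.d34, Ne.symm tn1, Ne.symm ln1, Ne.symm mn1,
          Ne.symm ma1, Ne.symm tn2, Ne.symm ln2, Ne.symm mn2, Ne.symm ma2, Ne.symm tn3,
          Ne.symm ln3, Ne.symm mn3, Ne.symm ma3, Ne.symm tn4, Ne.symm ln4, Ne.symm mn4,
          Ne.symm ma4, Ne.symm lnt, Ne.symm mnt, Ne.symm mnl, Ne.symm mt, Ne.symm ml, Ne.symm hmm,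
          h14, hmm2, b1, b2, b3, b5, b6, b7]
        ring
    obtain ⟨i, hi, hu⟩ := res
    have hu' : (s i : ℂ) * S.u i = ((s i * S.d i : ℤ) : ℂ) := hu
    have hi' : s i * S.d i = 2 ∨ s i * S.d i = -2 := hi
    refine ⟨i, ?_, ?_⟩
    · rcases hs i with e | e <;> rw [e] at hi' <;> omega
    · push_cast at hu'
      exact mul_left_cancel₀ (Int.cast_ne_zero.2 (by rcases hs i with e | e <;> omega)) hu'
  · -- the swapped configuration
    exfalso
    have lnm : m' = m ∧ S.p2 m' = S.p1 m := by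
      have e := S.gPQ
      rw [ip_eq_sum pz] at e
      by_cases hmm : m' = m
      · subst hmm
        simp [mnt, mn1, mn2, mn3, mn4, mno, tn1, tn2, tn3, tn4, tno, F.d12, F.d13, F.d14, F.d23,
          F.d24, F.d34, F.o1, F.o2, F.o3, F.o4, p1c, p2c, p3c, p4c, q1c, q2c, q3c, q4c, S.oP,
          pt] at e
        rw [qz t (by simp [Ne.symm mnt, Ne.symm lnt, tn1, tn2, tn3, tn4, tno]), mul_zero] at e
        refine ⟨rfl, ?_⟩
        rcases pm with b | b <;> rw [b] at e ⊢ <;> omega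
      · exfalso
        have q0 : S.p2 t = 0 :=
          qz t (by simp [Ne.symm mt, Ne.symm lnt, tn1, tn2, tn3, tn4, tno])
        have q1 : S.p2 m = 0 :=
          qz m (by simp [Ne.symm hmm, mnl, mn1, mn2, mn3, mn4, mno])
        simp [mnt, mn1, mn2, mn3, mn4, mno, tn1, tn2, tn3, tn4, tno, F.d12, F.d13, F.d14, F.d23,
          F.d24, F.d34, F.o1, F.o2, F.o3, F.o4, p1c, p2c, p3c, p4c, q1c, q2c, q3c, q4c, S.oP,
          q0, q1] at e
    obtain ⟨rfl, qeq⟩ := lnm
    let s : ι → ℤ := fun i => if i = t then S.al t else if i = t' then S.al t' else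
      if i = m' then S.p1 m' else 1
    have st : s t = S.al t := by simp [s]
    have sl : s t' = S.al t' := by simp [s, lnt]
    have sm : s m' = S.p1 m' := by simp [s, mt, ml]
    have s1 : ∀ i, i ≠ t → i ≠ t' → i ≠ m' → s i = 1 := fun i a b c => by simp [s, a, b, c]
    have hs : ∀ i, s i = 1 ∨ s i = -1 := by
      intro i
      simp only [s]
      split_ifs
      exacts [vt, vl, pm, Or.inl rfl]
    have fc1 := s1 c1 (Ne.symm tn1) (Ne.symm ln1) (Ne.symm mn1)
    have fc2 := s1 c2 (Ne.symm tn2) (Ne.symm ln2) (Ne.symm mn2)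
    have fc3 := s1 c3 (Ne.symm tn3) (Ne.symm ln3) (Ne.symm mn3)
    have fc4 := s1 c4 (Ne.symm tn4) (Ne.symm ln4) (Ne.symm mn4)
    have fo := s1 S.o (Ne.symm tno) (Ne.symm lno) (Ne.symm mno)
    let S' := S.flip s hs fo
    have F' : Frame S' c1 c2 c3 c4 :=
      ⟨F.d12, F.d13, F.d14, F.d23, F.d24, F.d34, F.o1, F.o2, F.o3, F.o4,
        by simp [S', Sys.flip, fc1, F.k11], by simp [S', Sys.flip, fc2, F.k12],
        by simp [S', Sys.flip, fc3, F.k13], by simp [S', Sys.flip, fc4, F.k14],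
        by simp [S', Sys.flip, fc1, F.k31], by simp [S', Sys.flip, fc2, F.k32],
        by simp [S', Sys.flip, fc3, F.k33], by simp [S', Sys.flip, fc4, F.k34],
        fun i a b c => by simp [S', Sys.flip, F.k1z i a b c],
        fun i a b c => by simp [S', Sys.flip, F.k3z i a b c]⟩
    have sq : ∀ {a : ℤ}, (a = 1 ∨ a = -1) → (a : ℂ) * a = 1 := fun h => by
      rcases h with e | e <;> rw [e] <;> norm_num
    refine F'.not_swapped (t := t) (l := t') (m := m') (fun f => ?_) (fun f => ?_) (fun f => ?_)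
    · show lin (fun i => s i * S.al i) f = f S.o - f c2 + f t + f t'
      rw [lin_eq_sum (s := insert t' (insert t ({c1, c2, c3, c4, S.o} : Finset ι)))
        (fun i hi => by rw [az i hi, mul_zero])]
      simp [lnt, ln1, ln2, ln3, ln4, lno, tn1, tn2, tn3, tn4, tno, F.d12, F.d13, F.d14, F.d23,
        F.d24, F.d34, F.o1, F.o2, F.o3, F.o4, fc2, fo, st, sl, a1, a2, a3, a4, S.oA]
      linear_combination f t * sq vt + f t' * sq vl
    · show lin (fun i => s i * S.p1 i) f = f c2 + f c3 - f t + f m'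
      rw [lin_eq_sum (s := insert m' (insert t ({c1, c2, c3, c4, S.o} : Finset ι)))
        (fun i hi => by rw [pz i hi, mul_zero])]
      simp [mnt, mn1, mn2, mn3, mn4, mno, tn1, tn2, tn3, tn4, tno, F.d12, F.d13, F.d14, F.d23,
        F.d24, F.d34, F.o1, F.o2, F.o3, F.o4, fc2, fc3, st, sm, p1c, p2c, p3c, p4c, S.oP, pt]
      linear_combination -(f t) * sq vt + f m' * sq pm
    · show lin (fun i => s i * S.p2 i) f = f c2 + f c3 - f t' + f m'
      rw [lin_eq_sum (s := insert m' (insert t' ({c1, c2, c3, c4, S.o} : Finset ι)))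
        (fun i hi => by rw [qz i hi, mul_zero])]
      simp [mnl, mn1, mn2, mn3, mn4, mno, ln1, ln2, ln3, ln4, lno, F.d12, F.d13, F.d14, F.d23,
        F.d24, F.d34, F.o1, F.o2, F.o3, F.o4, fc2, fc3, sl, sm, q1c, q2c, q3c, q4c, S.oQ, qt, qeq]
      linear_combination -(f t') * sq vl + f m' * sq pm

open scoped Classical in
/-- Some coordinate has degree `±2` and the same value at `u`. -/
theorem Sys.exists_two_coord (S : Sys ι) :
    ∃ i, (S.d i = 2 ∨ S.d i = -2) ∧ S.u i = S.d i := by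
  have hD : ip (fun i => S.k1 i - S.k3 i) (fun i => S.k1 i - S.k3 i) = 2 := by
    have e : ip (fun i => S.k1 i - S.k3 i) (fun i => S.k1 i - S.k3 i) =
        ip S.k1 S.k1 + ip S.k3 S.k3 - 2 * ip S.k1 S.k3 := by
      simp only [ip, ← Finset.sum_add_distrib, Finset.mul_sum, ← Finset.sum_sub_distrib]
      exact Finset.sum_congr rfl fun i _ => by ring
    rw [e, S.g11, S.g33, S.g13]; norm_num
  obtain ⟨i, -, j, hj, vi, vj, hz⟩ := exists_two (v := fun i => S.k1 i - S.k3 i) (s := ∅) (by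
    simpa using hD.symm)
  have hij : i ≠ j := fun h => hj (by simp [h])
  have same : ∀ x, x ≠ i → x ≠ j → S.k1 x = S.k3 x := fun x a b =>
    sub_eq_zero.1 (hz x (by simp [a, b]))
  have hz' : ∀ x ∉ ({i, j} : Finset ι), S.k1 x - S.k3 x = 0 := fun x hx => by
    simp only [Finset.mem_insert, Finset.mem_singleton, not_or] at hx
    rw [same x hx.1 hx.2, sub_self]
  have hk : S.k1 i * (S.k1 i - S.k3 i) + S.k1 j * (S.k1 j - S.k3 j) = 1 := by
    have e : ip (fun x => S.k1 x - S.k3 x) S.k1 = ip S.k1 S.k1 - ip S.k1 S.k3 := by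
      simp only [ip, ← Finset.sum_sub_distrib]
      exact Finset.sum_congr rfl fun x _ => by ring
    rw [ip_eq_sum hz', Finset.sum_pair hij, S.g11, S.g13] at e
    linear_combination e
  have b1 : ∀ x, -1 ≤ S.k1 x ∧ S.k1 x ≤ 1 := fun x => by
    have h := Finset.single_le_sum (f := fun y => S.k1 y * S.k1 y) (fun y _ => mul_self_nonneg _)
      (Finset.mem_univ x)
    have h2 := S.g11
    simp only [ip] at h2
    rw [h2] at h
    constructor <;> nlinarith
  have b3 : ∀ x, -1 ≤ S.k3 x ∧ S.k3 x ≤ 1 := fun x => by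
    have h := Finset.single_le_sum (f := fun y => S.k3 y * S.k3 y) (fun y _ => mul_self_nonneg _)
      (Finset.mem_univ x)
    have h2 := S.g33
    simp only [ip] at h2
    rw [h2] at h
    constructor <;> nlinarith
  -- orientation
  obtain ⟨c1, c4, h14, v1, z4, z1, v4, hsame⟩ : ∃ c1 c4, c1 ≠ c4 ∧
      (S.k1 c1 = 1 ∨ S.k1 c1 = -1) ∧ S.k1 c4 = 0 ∧ S.k3 c1 = 0 ∧
      (S.k3 c4 = 1 ∨ S.k3 c4 = -1) ∧ ∀ x, x ≠ c1 → x ≠ c4 → S.k1 x = S.k3 x := by
    have := b1 i; have := b1 j; have := b3 i; have := b3 j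
    have cases_i : (S.k1 i = 0 ∧ (S.k3 i = 1 ∨ S.k3 i = -1)) ∨
        (S.k3 i = 0 ∧ (S.k1 i = 1 ∨ S.k1 i = -1)) := by omega
    have cases_j : (S.k1 j = 0 ∧ (S.k3 j = 1 ∨ S.k3 j = -1)) ∨
        (S.k3 j = 0 ∧ (S.k1 j = 1 ∨ S.k1 j = -1)) := by omega
    rcases cases_i with ⟨a, a'⟩ | ⟨a, a'⟩ <;> rcases cases_j with ⟨b, b'⟩ | ⟨b, b'⟩
    · rw [a, b] at hk; omega
    · exact ⟨j, i, hij.symm, b', a, b, a', fun x p q => same x q p⟩
    · exact ⟨i, j, hij, a', b, a, b', same⟩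
    · rcases a' with p | p <;> rcases b' with q | q <;> rw [a, b, p, q] at hk <;> omega
  have hs14 : ∑ x ∈ ({c1, c4} : Finset ι), S.k1 x * S.k1 x = 1 := by
    rw [Finset.sum_pair h14, z4]
    rcases v1 with e | e <;> rw [e] <;> norm_num
  obtain ⟨c2, hc2, c3, hc3, v2, v3, hz1⟩ := exists_two (v := S.k1) (s := {c1, c4}) (by
    rw [hs14, S.g11]; norm_num)
  simp only [Finset.mem_insert, Finset.mem_singleton, not_or] at hc2 hc3
  obtain ⟨n21, n24⟩ := hc2
  obtain ⟨n32, n31, n34⟩ := hc3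
  have e2 : S.k3 c2 = S.k1 c2 := (hsame c2 n21 n24).symm
  have e3 : S.k3 c3 = S.k1 c3 := (hsame c3 n31 n34).symm
  have no : ∀ x, S.k1 x ≠ 0 ∨ S.k3 x ≠ 0 → x ≠ S.o := fun x hx e => by
    subst e; exact hx.elim (fun h => h S.o1) (fun h => h S.o3)
  have o1 := no c1 (Or.inl (by omega))
  have o2 := no c2 (Or.inl (by omega))
  have o3 := no c3 (Or.inl (by omega))
  have o4 := no c4 (Or.inr (by omega))
  let s : ι → ℤ := fun x => if x = c1 then S.k1 c1 else if x = c2 then S.k1 c2 else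
    if x = c3 then S.k1 c3 else if x = c4 then S.k3 c4 else 1
  have hs : ∀ x, s x = 1 ∨ s x = -1 := by
    intro x
    simp only [s]
    split_ifs
    exacts [v1, v2, v3, v4, Or.inl rfl]
  have fo : s S.o = 1 := by simp [s, Ne.symm o1, Ne.symm o2, Ne.symm o3, Ne.symm o4]
  let S' := S.flip s hs fo
  have sq : ∀ {a : ℤ}, (a = 1 ∨ a = -1) → a * a = 1 := fun h => by
    rcases h with e | e <;> rw [e] <;> norm_num
  have F : Frame S' c1 c2 c3 c4 :=
    ⟨Ne.symm n21, Ne.symm n31, h14, Ne.symm n32, n24, n34, o1, o2, o3, o4,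
      by show s c1 * S.k1 c1 = 1; simp [s, sq v1],
      by show s c2 * S.k1 c2 = 1; simp [s, n21, sq v2],
      by show s c3 * S.k1 c3 = 1; simp [s, n31, n32, sq v3],
      by show s c4 * S.k1 c4 = 0; simp [z4],
      by show s c1 * S.k3 c1 = 0; simp [z1],
      by show s c2 * S.k3 c2 = 1; simp [s, n21, e2, sq v2],
      by show s c3 * S.k3 c3 = 1; simp [s, n31, n32, e3, sq v3],
      by show s c4 * S.k3 c4 = 1; simp [s, Ne.symm h14, Ne.symm n24, Ne.symm n34, sq v4],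
      fun x a b c => by
        show s x * S.k1 x = 0
        rcases eq_or_ne x c4 with rfl | e
        · simp [z4]
        · rw [hz1 x (by simp [a, b, c, e]), mul_zero],
      fun x a b c => by
        show s x * S.k3 x = 0
        rcases eq_or_ne x c1 with rfl | e
        · simp [z1]
        · rw [← hsame x e c, hz1 x (by simp [a, b, c, e]), mul_zero]⟩
  have res : ∃ i, (S'.d i = 2 ∨ S'.d i = -2) ∧ S'.u i = S'.d i := by
    obtain ⟨-, -, -, -, -, -, hor⟩ := F.psi_shape (Psi.first S')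
    rcases hor with ⟨a, b⟩ | ⟨a, b⟩
    · exact F.main a b
    · exact F.swap.main b a
  obtain ⟨i, hi, hu⟩ := res
  have hu' : (s i : ℂ) * S.u i = ((s i * S.d i : ℤ) : ℂ) := hu
  have hi' : s i * S.d i = 2 ∨ s i * S.d i = -2 := hi
  refine ⟨i, ?_, ?_⟩
  · rcases hs i with e | e <;> rw [e] at hi' <;> omega
  · push_cast at hu'
    exact mul_left_cancel₀ (Int.cast_ne_zero.2 (by rcases hs i with e | e <;> omega)) hu'

end Final

end H83.Ti81
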