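import Cfsg.Agent.H12.Induction
import Cfsg.Agent.H12.Products
import Cfsg.Agent.H12.Transport
import Cfsg.Agent.H83.Ti81Base

/-!
# Class functions of `H` on the exceptional set and the class-algebra identity
-/

set_option autoImplicit false

open Cfsg
open scoped ComplexConjugate

namespace H83.Ti81

universe u

variable {G : Type u} [Group G]

/-- The exceptional set: elements whose fourth or third power is a nontrivial element of `J`. -/
def IsA (J : Subgroup G) (h : G) : Prop :=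
  (h ^ 4 ∈ J ∧ h ^ 4 ≠ 1) ∨ (h ^ 3 ∈ J ∧ h ^ 3 ≠ 1)

/-- The additional conditions on the involutions of `H`. -/
structure Ctx (H J : Subgroup G) : Prop extends Base H J where
  inv : ∀ y ∈ H, y * y = 1 → y ≠ 1 → (∃ s ∈ J, s ≠ 1 ∧ y * s = s * y) ∧
    ∀ x ∈ H, x * y = y * x → ∀ k : ℕ, x ^ (3 ^ k) = 1 → x ∈ J

/-- A generalized character of `H` supported on the exceptional set. -/
structure Virt (H J : Subgroup G) (f : H → ℂ) : Prop where
  gen : IsGeneralizedCharacter H f
  supp : ∀ h : H, ¬ IsA J (h : G) → f h = 0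

variable {H J : Subgroup G}

theorem Base.isA_conj [Finite G] (B : Base H J) {h x : G} (hA : IsA J h) (hx : x * h * x⁻¹ ∈ H) :
    x ∈ H := by
  rcases hA with ⟨hm, hne⟩ | ⟨hm, hne⟩
  · exact B.conjT hm hne (by rw [← conj_pow]; exact H.pow_mem hx 4)
  · exact B.conjT hm hne (by rw [← conj_pow]; exact H.pow_mem hx 3)

theorem Base.not_isA_of_sq (B : Base H J) {h : G} (hh : h * h = 1) : ¬ IsA J h := by
  rintro (⟨-, hne⟩ | ⟨hm, hne⟩)
  · exact hne (by rw [show h ^ 4 = (h * h) * (h * h) by simp [pow_succ, mul_assoc], hh, one_mul])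
  · have e : h ^ 3 = h := by rw [show h ^ 3 = (h * h) * h by simp [pow_succ, mul_assoc], hh, one_mul]
    rw [e] at hm hne
    exact hne (by
      calc h = h ^ 3 := e.symm
        _ = 1 := B.cube h hm)

section

variable [Fintype G]

theorem Virt.classFun {f : H → ℂ} (V : Virt H J f) : IsClassFunction H f := by
  classical
  exact (H12.isGeneralizedCharacter_iff.1 V.gen).1

theorem Virt.ind_eq (B : Base H J) {f : H → ℂ} (V : Virt H J f) {h : H} (hh : IsA J (h : G)) :
    indFun H f (h : G) = f h := by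
  classical
  have key : ∀ x : G, extendByZero H f (x⁻¹ * h * x) = if x ∈ H then f h else 0 := by
    intro x
    split_ifs with hx
    · have hm : x⁻¹ * (h : G) * x ∈ H := H.mul_mem (H.mul_mem (H.inv_mem hx) h.2) hx
      rw [H12.extendByZero_mk H f hm]
      exact (congrArg f (Subtype.ext (by simp) :
        (⟨_, hm⟩ : H) = (⟨x, hx⟩ : H)⁻¹ * h * ((⟨x, hx⟩ : H)⁻¹)⁻¹)).trans (V.classFun _ _)
    · refine H12.extendByZero_of_notMem H f fun hm => hx ?_
      have := B.isA_conj (x := x⁻¹) hh (by rwa [inv_inv])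
      simpa using H.inv_mem this
  rw [H12.indFun_apply, Finset.sum_congr rfl (fun x _ => key x), ← Finset.sum_filter,
    Finset.sum_const, nsmul_eq_mul, ← Fintype.card_subtype, ← Nat.card_eq_fintype_card]
  have : (Nat.card H : ℂ) ≠ 0 := H12.card_ne_zero'
  show (Nat.card H : ℂ)⁻¹ * ((Nat.card H : ℂ) * f h) = f h
  field_simp

theorem Virt.ind_eq_zero (B : Base H J) {f : H → ℂ} (V : Virt H J f) {y : G} (hy : y * y = 1) :
    indFun H f y = 0 := by
  rw [H12.indFun_apply, Finset.sum_eq_zero, mul_zero]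
  intro x _
  by_cases hm : x⁻¹ * y * x ∈ H
  · rw [H12.extendByZero_mk H f hm]
    refine V.supp _ (B.not_isA_of_sq ?_)
    show x⁻¹ * y * x * (x⁻¹ * y * x) = 1
    rw [show x⁻¹ * y * x * (x⁻¹ * y * x) = x⁻¹ * (y * y) * x by group, hy]; group
  · exact H12.extendByZero_of_notMem H f hm

/-- Induction is an isometry on functions supported on the exceptional set. -/
theorem Virt.classInner_ind [Fintype H] (B : Base H J) {f g : H → ℂ} (V : Virt H J f)
    (W : Virt H J g) : classInner (indFun H f) (indFun H g) = classInner f g := by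
  classical
  rw [H12.classInner_indFun H f (H12.indFun_isClassFunction H g), H12.classInner_def,
    H12.classInner_def]
  congr 1
  refine Finset.sum_congr rfl fun h _ => ?_
  by_cases hh : IsA J (h : G)
  · rw [W.ind_eq B hh]
  · rw [V.supp h hh, zero_mul, zero_mul]

theorem Virt.coef_int {f : H → ℂ} (V : Virt H J f) (X : IrrCharacter G) :
    ∃ m : ℤ, classInner (indFun H f) (X : G → ℂ) = m :=
  (H12.isGeneralizedCharacter_iff.1 (H12.IsGeneralizedCharacter.indFun V.gen)).2 X

open scoped Classical in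
/-- The `H`-class of `z`. -/
noncomputable def hClass (H : Subgroup G) (z : G) : Finset G :=
  Finset.univ.filter fun x => ∃ h ∈ H, h * z * h⁻¹ = x

/-- The number of products landing in the support, weighted by `f`. -/
noncomputable def pairSum (H : Subgroup G) (f : H → ℂ) (z z' : G) : ℂ :=
  ∑ x ∈ hClass H z, ∑ y ∈ hClass H z', extendByZero H f (x * y)

theorem sum_conj_eq {z : G} (φ : G → ℂ) (s : Finset G) (hs : ∀ x ∈ s, ∃ a : G, a * z * a⁻¹ = x)
    (h0 : ∀ a : G, φ (a * z * a⁻¹) ≠ 0 → a * z * a⁻¹ ∈ s) :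
    ∑ a : G, φ (a * z * a⁻¹) =
      (Nat.card (Subgroup.centralizer ({z} : Set G)) : ℂ) * ∑ x ∈ s, φ x := by
  classical
  have h1 : ∑ a : G, φ (a * z * a⁻¹) =
      ∑ a ∈ Finset.univ.filter (fun a : G => a * z * a⁻¹ ∈ s), φ (a * z * a⁻¹) := by
    symm
    exact Finset.sum_filter_of_ne fun a _ ha => h0 a ha
  rw [h1, Finset.mul_sum, ← Finset.sum_fiberwise_of_maps_to (g := fun a => a * z * a⁻¹) (t := s)
    (fun a ha => (Finset.mem_filter.1 ha).2)]
  refine Finset.sum_congr rfl fun x hx => ?_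
  obtain ⟨a₀, ha₀⟩ := hs x hx
  rw [Finset.sum_congr rfl (fun a ha => by rw [(Finset.mem_filter.1 ha).2]), Finset.sum_const,
    nsmul_eq_mul]
  congr 2
  rw [Finset.filter_filter, ← Fintype.card_subtype, ← Nat.card_eq_fintype_card]
  refine Nat.card_congr
    { toFun := fun a => ⟨a₀⁻¹ * a.1, ?_⟩
      invFun := fun c => ⟨a₀ * c.1, ?_, ?_⟩
      left_inv := fun a => Subtype.ext (by simp)
      right_inv := fun c => Subtype.ext (by simp) }
  · rw [Subgroup.mem_centralizer_singleton_iff]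
    calc a₀⁻¹ * a.1 * z = a₀⁻¹ * (a.1 * z * a.1⁻¹) * a.1 := by group
      _ = a₀⁻¹ * (a₀ * z * a₀⁻¹) * a.1 := by rw [a.2.2, ha₀]
      _ = z * (a₀⁻¹ * a.1) := by group
  · rw [show a₀ * c.1 * z * (a₀ * c.1)⁻¹ = a₀ * (c.1 * z * c.1⁻¹) * a₀⁻¹ by group,
      Subgroup.mem_centralizer_singleton_iff.1 c.2, show z * c.1 * c.1⁻¹ = z by group, ha₀]
    exact hx
  · rw [show a₀ * c.1 * z * (a₀ * c.1)⁻¹ = a₀ * (c.1 * z * c.1⁻¹) * a₀⁻¹ by group,
      Subgroup.mem_centralizer_singleton_iff.1 c.2, show z * c.1 * c.1⁻¹ = z by group, ha₀]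

/-- The class-algebra identity. -/
theorem Virt.class_identity (C : Ctx H J) {f : H → ℂ} (V : Virt H J f) {z z' : G} (hz : z ∈ H)
    (hzz : z * z = 1) (hz1 : z ≠ 1) (hz' : z' ∈ H) (hzz' : z' * z' = 1) (hz1' : z' ≠ 1) :
    ∑ X : IrrCharacter G, classInner (indFun H f) (X : G → ℂ) *
        ((X : G → ℂ) z * (X : G → ℂ) z' / (X : G → ℂ) 1) =
      (Nat.card (Subgroup.centralizer ({z} : Set G)) : ℂ) *
        (Nat.card (Subgroup.centralizer ({z'} : Set G)) : ℂ) /
        ((Nat.card H : ℂ) * (Nat.card G : ℂ)) * pairSum H f z z' := by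
  classical
  have hG : (Nat.card G : ℂ) ≠ 0 := H12.card_ne_zero'
  have hH : (Nat.card H : ℂ) ≠ 0 := H12.card_ne_zero'
  have sq : ∀ {z : G}, z * z = 1 → ∀ a : G, a * z * a⁻¹ * (a * z * a⁻¹) = 1 := fun {z} e a => by
    rw [show a * z * a⁻¹ * (a * z * a⁻¹) = a * (z * z) * a⁻¹ by group, e]; group
  -- contributing pairs lie in the `H`-classes
  have supp : ∀ a b : G, extendByZero H f (a * z * a⁻¹ * (b * z' * b⁻¹)) ≠ 0 →
      a * z * a⁻¹ ∈ hClass H z ∧ b * z' * b⁻¹ ∈ hClass H z' := by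
    intro a b hab
    set p := a * z * a⁻¹ with hp
    set q := b * z' * b⁻¹ with hq
    have hm : p * q ∈ H := by
      by_contra hm
      exact hab (H12.extendByZero_of_notMem H f hm)
    have hA : IsA J (p * q) := by
      by_contra hA
      exact hab (by rw [H12.extendByZero_mk H f hm]; exact V.supp _ hA)
    have hpp : p * p = 1 := sq hzz a
    have hqq : q * q = 1 := sq hzz' b
    have hpH : p ∈ H := C.toBase.isA_conj hA (by
      rw [show p * (p * q) * p⁻¹ = (p * p) * q * p⁻¹ by group, hpp, one_mul,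
        inv_eq_of_mul_eq_one_right hpp]
      have e : q * p = (p * q)⁻¹ := by
        rw [mul_inv_rev, inv_eq_of_mul_eq_one_right hpp, inv_eq_of_mul_eq_one_right hqq]
      rw [e]; exact H.inv_mem hm)
    have hqH : q ∈ H := by
      have := H.mul_mem hpH hm
      rwa [← mul_assoc, hpp, one_mul] at this
    have mk : ∀ {w : G}, w ∈ H → w * w = 1 → w ≠ 1 → ∀ c : G, c * w * c⁻¹ ∈ H →
        c * w * c⁻¹ ∈ hClass H w := by
      intro w hw hww hw1 c hc
      obtain ⟨⟨d, hd, hd1, hwd⟩, -⟩ := C.inv w hw hww hw1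
      obtain ⟨⟨s, hs, hs1, hcs⟩, h3⟩ := C.inv _ hc (sq hww c)
        (by simpa [conj_eq_one_iff] using hw1)
      obtain ⟨x, hx, e⟩ := C.toBase.fusion h3 rfl hd hd1 hwd hs hs1 hcs
      exact Finset.mem_filter.2 ⟨Finset.mem_univ _, x, hx, e⟩
    exact ⟨mk hz hzz hz1 a hpH, mk hz' hzz' hz1' b hqH⟩
  have conjOf : ∀ {w : G}, ∀ x ∈ hClass H w, ∃ a : G, a * w * a⁻¹ = x := fun x hx => by
    obtain ⟨a, -, e⟩ := (Finset.mem_filter.1 hx).2
    exact ⟨a, e⟩
  have hpair : ∑ a : G, ∑ b : G, extendByZero H f (a * z * a⁻¹ * (b * z' * b⁻¹)) =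
      (Nat.card (Subgroup.centralizer ({z} : Set G)) : ℂ) *
        (Nat.card (Subgroup.centralizer ({z'} : Set G)) : ℂ) * pairSum H f z z' := by
    rw [sum_conj_eq (fun x => ∑ b : G, extendByZero H f (x * (b * z' * b⁻¹))) (hClass H z) conjOf
      (fun a ha => by
        obtain ⟨b, -, hb⟩ := Finset.exists_ne_zero_of_sum_ne_zero ha
        exact (supp a b hb).1), pairSum, mul_assoc, Finset.mul_sum (hClass H z)
          (fun x => ∑ y ∈ hClass H z', extendByZero H f (x * y))
          (Nat.card (Subgroup.centralizer ({z'} : Set G)) : ℂ)]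
    congr 1
    refine Finset.sum_congr rfl fun x hx => ?_
    obtain ⟨a, rfl⟩ := conjOf x hx
    exact sum_conj_eq (fun y => extendByZero H f (a * z * a⁻¹ * y)) _ conjOf
      (fun b hb => (supp a b hb).2)
  -- the induced function
  have hF : ∑ a : G, ∑ b : G, indFun H f (a * z * a⁻¹ * (b * z' * b⁻¹)) =
      (Nat.card H : ℂ)⁻¹ * ((Nat.card G : ℂ) *
        ∑ a : G, ∑ b : G, extendByZero H f (a * z * a⁻¹ * (b * z' * b⁻¹))) := by
    simp only [H12.indFun_apply, ← Finset.mul_sum]
    congr 1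
    rw [Finset.sum_congr rfl (fun a _ => Finset.sum_comm), Finset.sum_comm]
    have : ∀ x : G, ∑ a : G, ∑ b : G,
        extendByZero H f (x⁻¹ * (a * z * a⁻¹ * (b * z' * b⁻¹)) * x) =
        ∑ a : G, ∑ b : G, extendByZero H f (a * z * a⁻¹ * (b * z' * b⁻¹)) := by
      intro x
      refine Fintype.sum_equiv (Equiv.mulLeft x⁻¹) _ _ fun a => ?_
      refine Fintype.sum_equiv (Equiv.mulLeft x⁻¹) _ _ fun b => ?_
      congr 1
      simp only [Equiv.coe_mulLeft]
      group
    rw [Finset.sum_congr rfl (fun x _ => this x), Finset.sum_const, Finset.card_univ, nsmul_eq_mul,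
      Nat.card_eq_fintype_card]
  have hexp : ∑ a : G, ∑ b : G, indFun H f (a * z * a⁻¹ * (b * z' * b⁻¹)) =
      (Nat.card G : ℂ) ^ 2 * ∑ X : IrrCharacter G, classInner (indFun H f) (X : G → ℂ) *
        ((X : G → ℂ) z * (X : G → ℂ) z' / (X : G → ℂ) 1) := by
    simp only [H12.classFunction_apply_eq_sum (H12.indFun_isClassFunction H f)]
    rw [Finset.sum_congr rfl (fun a _ => Finset.sum_comm), Finset.sum_comm, Finset.mul_sum]
    refine Finset.sum_congr rfl fun X _ => ?_
    rw [Finset.sum_congr rfl (fun a _ => (Finset.mul_sum _ _ _).symm), ← Finset.mul_sum,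
      Finset.sum_congr rfl (fun a _ => H12.irr_class_product X (a * z * a⁻¹) z'),
      Finset.sum_congr rfl (fun a _ => by rw [H12.irr_isClassFunction X z a]), Finset.sum_const,
      Finset.card_univ, nsmul_eq_mul, Nat.card_eq_fintype_card]
    ring
  rw [hF, hpair] at hexp
  field_simp at hexp ⊢
  linear_combination -hexp

end

end H83.Ti81
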