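import Cfsg.Agent.H83.Ti81Funs
import Cfsg.Agent.H83.Ti81Lattice
import Cfsg.Agent.H83.Ti81Virt
import Cfsg.Agent.H83.Ti27Final
import Cfsg.Prelude.Def_Solvable
import Cfsg.Prelude.Def_TwoFusion

/-!
# Recognition of `3³ : S₄`
-/

set_option autoImplicit false

open Cfsg
open scoped ComplexConjugate

namespace H83.Ti81

universe u

variable {G : Type u} [Group G] {H J : Subgroup G}

/-- The model inside `G`. -/
def emb (ψ : M81 ≃* H) : M81 →* G := H.subtype.comp ψ.toMonoidHom

theorem emb_apply (ψ : M81 ≃* H) (m : M81) : emb ψ m = (ψ m : G) := rfl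

theorem emb_injective (ψ : M81 ≃* H) : Function.Injective (emb ψ) :=
  H.subtype_injective.comp ψ.injective

theorem emb_mem (ψ : M81 ≃* H) (m : M81) : emb ψ m ∈ H := (ψ m).2

theorem exists_emb (ψ : M81 ≃* H) {x : G} (hx : x ∈ H) : ∃ m, emb ψ m = x :=
  ⟨ψ.symm ⟨x, hx⟩, by rw [emb_apply, MulEquiv.apply_symm_apply]⟩

/-- A 3-element of the model has ninth power one. -/
theorem nine_of_three (x : M81) (k : ℕ) (h : x ^ (3 ^ k) = 1) : x ^ 9 = 1 := by
  have h81 : x ^ 81 = 1 := by
    apply orderOf_dvd_iff_pow_eq_one.1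
    have h648 : orderOf x ∣ 648 := card_M81 ▸ orderOf_dvd_natCard x
    obtain ⟨j, -, hj⟩ := (Nat.dvd_prime_pow (by norm_num)).1 (orderOf_dvd_of_pow_eq_one h)
    rw [hj] at h648 ⊢
    have hcop : Nat.Coprime (3 ^ j) 8 := (show Nat.Coprime 3 8 by decide).pow_left j
    exact hcop.dvd_of_dvd_mul_left (show 3 ^ j ∣ 8 * 81 from h648)
  by_cases hs : x.s = 0
  · rw [show x ^ 9 = (x ^ 3) ^ 3 by rw [← pow_mul], J0_cube x hs, one_pow]
  · exact pow_nine x hs h81

theorem mem_J0 {x : M81} : x ∈ J0 ↔ x.s = 0 := Iff.rfl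

instance normal_J0 : J0.Normal :=
  ⟨fun n hn g => conj_zero g.s n.s hn⟩

theorem pCore_eq (ψ : M81 ≃* H) : pCore 3 H = J0.map ψ.toMonoidHom := by
  apply le_antisymm
  · refine sSup_le ?_
    rintro N ⟨hN, hP⟩ x hx
    refine ⟨ψ.symm x, mem_J0.2 ?_, by simp⟩
    by_contra hs
    have h9 : ∀ y ∈ N, (ψ.symm y) ^ 9 = 1 := by
      intro y hy
      obtain ⟨k, hk⟩ := hP ⟨y, hy⟩
      refine nine_of_three _ k ?_
      rw [← map_pow, show y ^ 3 ^ k = 1 by simpa using congrArg Subtype.val hk, map_one]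
    obtain ⟨s, hne⟩ := core_witness _ hs (h9 x hx)
    set a : M81 := (⟨0, s.succ.castLE (by norm_num)⟩ : M81)
    have hm : ψ a * x * (ψ a)⁻¹ * x⁻¹ ∈ N := N.mul_mem (hN.conj_mem x hx _) (N.inv_mem hx)
    apply hne
    have := h9 _ hm
    simpa using this
  · refine le_sSup ⟨Subgroup.Normal.map normal_J0 _ ψ.surjective, IsPGroup.map ?_ _⟩
    exact fun x => ⟨1, Subtype.ext (by simpa using J0_cube x.1 x.2)⟩

theorem map_pCore_eq (ψ : M81 ≃* H) : (pCore 3 H).map H.subtype = J0.map (emb ψ) := by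
  rw [pCore_eq ψ, Subgroup.map_map]; rfl

theorem emb_mem_J (ψ : M81 ≃* H) (m : M81) : emb ψ m ∈ J0.map (emb ψ) ↔ m.s = 0 := by
  rw [Subgroup.mem_map_iff_mem (emb_injective ψ)]; rfl

theorem card_cent (ψ : M81 ≃* H) (m : M81)
    (hC : Subgroup.centralizer ({emb ψ m} : Set G) ≤ H) :
    Nat.card (Subgroup.centralizer ({emb ψ m} : Set G)) =
      (Finset.univ.filter fun x : M81 => x * m = m * x).card := by
  rw [← Fintype.card_subtype, ← Nat.card_eq_fintype_card]
  refine (Nat.card_eq_of_bijective (fun x : {x : M81 // x * m = m * x} =>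
    (⟨emb ψ x.1, Subgroup.mem_centralizer_singleton_iff.2 (by
      rw [← map_mul, ← map_mul, x.2])⟩ : Subgroup.centralizer ({emb ψ m} : Set G))) ⟨?_, ?_⟩).symm
  · intro a b e
    have e' := congrArg Subtype.val e
    exact Subtype.ext (emb_injective ψ e')
  · rintro ⟨y, hy⟩
    obtain ⟨x, rfl⟩ := exists_emb ψ (hC hy)
    exact ⟨⟨x, emb_injective ψ (by
      rw [map_mul, map_mul]; exact Subgroup.mem_centralizer_singleton_iff.1 hy)⟩, rfl⟩

theorem card_cent_conj (g a : G) :
    Nat.card (Subgroup.centralizer ({g * a * g⁻¹} : Set G)) =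
      Nat.card (Subgroup.centralizer ({a} : Set G)) := by
  refine (Nat.card_congr ((MulAut.conj g).toEquiv.subtypeEquiv fun x => ?_)).symm
  simp only [Subgroup.mem_centralizer_singleton_iff, MulEquiv.toEquiv_eq_coe, MulEquiv.coe_toEquiv,
    MulAut.conj_apply]
  constructor
  · intro h
    calc g * x * g⁻¹ * (g * a * g⁻¹) = g * (x * a) * g⁻¹ := by group
      _ = g * (a * x) * g⁻¹ := by rw [h]
      _ = g * a * g⁻¹ * (g * x * g⁻¹) := by group
  · intro h
    calc x * a = g⁻¹ * (g * x * g⁻¹ * (g * a * g⁻¹)) * g := by group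
      _ = g⁻¹ * (g * a * g⁻¹ * (g * x * g⁻¹)) * g := by rw [h]
      _ = a * x := by group

theorem ctx_of [Finite G] (ψ : M81 ≃* H)
    (hC : ∀ j ∈ J0.map (emb ψ), j ≠ 1 → Subgroup.centralizer ({j} : Set G) ≤ H)
    (hcl : ∀ x ∈ J0.map (emb ψ), ∀ g : G, g * x * g⁻¹ ∈ H → g * x * g⁻¹ ∈ J0.map (emb ψ)) :
    Ctx H (J0.map (emb ψ)) := by
  have le : J0.map (emb ψ) ≤ H := by
    rintro _ ⟨m, -, rfl⟩; exact emb_mem ψ m
  have ha : emb ψ ga ∈ J0.map (emb ψ) := (emb_mem_J ψ _).2 rfl
  have ha1 : emb ψ ga ≠ 1 := by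
    rw [map_ne_one_iff _ (emb_injective ψ)]; decide +kernel
  refine ⟨⟨le, ?_, hC, ?_, ?_, ?_, hcl, ⟨_, ha, ha1⟩⟩, ?_⟩
  · apply le_antisymm
    · intro g hg
      have hg' := Subgroup.mem_normalizer_iff.1 hg
      obtain ⟨t, ht, he⟩ := (hg' _).1 ha
      have ht0 : t = ⟨t.t, 0⟩ := M81.ext rfl (mem_J0.1 ht)
      have hne : emb ψ t ≠ 1 := by rw [he]; simpa [conj_eq_one_iff] using ha1
      have hc := card_cent ψ t (hC _ (Subgroup.mem_map_of_mem _ ht) hne)
      rw [he, card_cent_conj, card_cent ψ ga (hC _ ha ha1)] at hc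
      have h108 : (Finset.univ.filter fun x : M81 => x * ga = ga * x).card = 108 := cent_card_a
      rw [h108] at hc
      obtain ⟨x, hx⟩ := cent_card t.t (ht0 ▸ hc.symm)
      rw [← ht0] at hx
      have hcen : (emb ψ x)⁻¹ * g ∈ Subgroup.centralizer ({emb ψ ga} : Set G) := by
        rw [Subgroup.mem_centralizer_singleton_iff]
        have e : emb ψ x * emb ψ ga * (emb ψ x)⁻¹ = g * emb ψ ga * g⁻¹ := by
          rw [← he, ← hx, map_mul, map_mul, map_inv]; rfl
        calc (emb ψ x)⁻¹ * g * emb ψ ga = (emb ψ x)⁻¹ * (g * emb ψ ga * g⁻¹) * g := by group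
          _ = (emb ψ x)⁻¹ * (emb ψ x * emb ψ ga * (emb ψ x)⁻¹) * g := by rw [e]
          _ = emb ψ ga * ((emb ψ x)⁻¹ * g) := by group
      have := H.mul_mem (emb_mem ψ x) (hC _ ha ha1 hcen)
      rwa [mul_inv_cancel_left] at this
    · intro g hg
      obtain ⟨y, rfl⟩ := exists_emb ψ hg
      refine Subgroup.mem_normalizer_iff.2 fun z => ⟨?_, fun hz => ?_⟩
      · rintro ⟨m, hm, rfl⟩
        rw [← map_mul, ← map_inv, ← map_mul]
        exact Subgroup.mem_map_of_mem _ (normal_J0.conj_mem m hm y)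
      · obtain ⟨m, hm, e⟩ := hz
        refine ⟨y⁻¹ * m * y, ?_, by rw [map_mul, map_mul, map_inv, e]; group⟩
        simpa using normal_J0.conj_mem m hm y⁻¹
  · rintro _ ⟨a, ha, rfl⟩ _ ⟨b, hb, rfl⟩
    rw [← map_mul, ← map_mul, J0_comm a ha b hb]
  · rintro _ ⟨a, ha, rfl⟩
    rw [← map_pow, J0_cube a ha, map_one]
  · intro y hy hyc
    obtain ⟨m, rfl⟩ := exists_emb ψ hy
    refine (emb_mem_J ψ m).2 (J0_self_centralizing m fun i => emb_injective ψ ?_)
    rw [map_mul, map_mul]
    exact hyc _ ((emb_mem_J ψ _).2 rfl)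
  · intro y hy hyy hy1
    obtain ⟨m, rfl⟩ := exists_emb ψ hy
    have hmm : m * m = 1 := emb_injective ψ (by rw [map_mul, hyy, map_one])
    have hm1 : m ≠ 1 := fun e => hy1 (by rw [e, map_one])
    refine ⟨?_, fun x hx hxy k hk => ?_⟩
    · obtain ⟨t, ht, htc⟩ := inv_cent81 m hmm hm1
      refine ⟨emb ψ ⟨t, 0⟩, (emb_mem_J ψ _).2 rfl, ?_, by rw [← map_mul, ← map_mul, htc]⟩
      rw [map_ne_one_iff _ (emb_injective ψ)]
      exact fun e => ht (congrArg M81.t e)
    · obtain ⟨z, rfl⟩ := exists_emb ψ hx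
      refine (emb_mem_J ψ z).2 ?_
      by_contra hs
      refine inv_three m hmm hm1 z (emb_injective ψ (by rw [map_mul, map_mul, hxy])) hs ?_
      exact nine_of_three z k (emb_injective ψ (by rw [map_pow, hk, map_one]))

theorem isA_of_InA (ψ : M81 ≃* H) {m : M81} (h : InA m) :
    IsA (J0.map (emb ψ)) (emb ψ m) := by
  simp only [IsA, ← map_pow, map_ne_one_iff _ (emb_injective ψ), emb_mem_J]
  exact h

theorem virt_fOn [Finite G] (ψ : M81 ≃* H) (j : Fin 6) :
    Virt H (J0.map (emb ψ)) (fOn ψ.symm j) := by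
  refine ⟨isGen_fOn ψ.symm j, fun h hh => ?_⟩
  show ev (tab j (ψ.symm h)) = 0
  rw [tab_supp j (ψ.symm h) fun hA => hh ?_, map_zero]
  have := isA_of_InA ψ hA
  rwa [emb_apply, MulEquiv.apply_symm_apply] at this

section

variable [Fintype G]

open scoped Classical in
theorem hClass_emb (ψ : M81 ≃* H) (b : Bool) :
    hClass H (emb ψ (invRep b)) =
      (Finset.univ.filter (invClass b)).map ⟨emb ψ, emb_injective ψ⟩ := by
  ext x
  simp only [hClass, Finset.mem_filter, Finset.mem_univ, true_and, Finset.mem_map,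
    Function.Embedding.coeFn_mk]
  constructor
  · rintro ⟨h, hh, rfl⟩
    obtain ⟨m, rfl⟩ := exists_emb ψ hh
    exact ⟨_, invClass_conj b m, by simp⟩
  · rintro ⟨y, hy, rfl⟩
    obtain ⟨m, rfl⟩ := invClass_exists b y hy
    exact ⟨emb ψ m, emb_mem ψ m, by simp⟩

theorem pairSum_fOn (ψ : M81 ≃* H) (b c : Bool) (hbc : b = true ∨ c = false) (j : Fin 6) :
    pairSum H (fOn ψ.symm j) (emb ψ (invRep b)) (emb ψ (invRep c)) =
      ((if b = true then 27 else 54 : ℕ) : ℂ) * (pairVal b c j : ℂ) := by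
  classical
  have hval : ∀ m : M81, extendByZero H (fOn ψ.symm j) (emb ψ m) = ev (tab j m) := by
    intro m
    rw [H12.extendByZero_mk H _ (emb_mem ψ m)]
    show ev (tab j (ψ.symm _)) = _
    rw [show (⟨emb ψ m, emb_mem ψ m⟩ : H) = ψ m from rfl, MulEquiv.symm_apply_apply]
  rw [pairSum, hClass_emb, hClass_emb, Finset.sum_map, ← invClass_card b]
  have hinner : ∀ x ∈ Finset.univ.filter (invClass b),
      ∑ y ∈ (Finset.univ.filter (invClass c)).map ⟨emb ψ, emb_injective ψ⟩,
        extendByZero H (fOn ψ.symm j) (emb ψ x * y) = (pairVal b c j : ℂ) := by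
    intro x hx
    obtain ⟨a, rfl⟩ := invClass_exists b x (Finset.mem_filter.1 hx).2
    rw [Finset.sum_map, ← ev_int, ← pair_eq b c hbc j, map_sum]
    refine Finset.sum_nbij' (fun y => a⁻¹ * y * a) (fun y => a * y * a⁻¹) ?_ ?_ ?_ ?_ ?_
    · intro y hy
      obtain ⟨d, rfl⟩ := invClass_exists c y (Finset.mem_filter.1 hy).2
      refine Finset.mem_filter.2 ⟨Finset.mem_univ _, ?_⟩
      rw [show a⁻¹ * (d * invRep c * d⁻¹) * a = (a⁻¹ * d) * invRep c * (a⁻¹ * d)⁻¹ by group]
      exact invClass_conj c _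
    · intro y hy
      obtain ⟨d, rfl⟩ := invClass_exists c y (Finset.mem_filter.1 hy).2
      refine Finset.mem_filter.2 ⟨Finset.mem_univ _, ?_⟩
      rw [show a * (d * invRep c * d⁻¹) * a⁻¹ = (a * d) * invRep c * (a * d)⁻¹ by group]
      exact invClass_conj c _
    · intro y _; group
    · intro y _; group
    · intro y _
      simp only [Function.Embedding.coeFn_mk]
      rw [← map_mul, hval, ← tab_conj j a (invRep b * (a⁻¹ * y * a))]
      congr 2
      group
  simp only [Function.Embedding.coeFn_mk]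
  rw [Finset.sum_congr rfl hinner, Finset.sum_const, nsmul_eq_mul]

/-- The integer coefficients of the induced functions. -/
noncomputable def coefs (ψ : M81 ≃* H) (j : Fin 6) (X : IrrCharacter G) : ℤ :=
  Classical.choose ((virt_fOn ψ j).coef_int X)

theorem coefs_spec (ψ : M81 ≃* H) (j : Fin 6) (X : IrrCharacter G) :
    classInner (indFun H (fOn ψ.symm j)) (X : G → ℂ) = (coefs ψ j X : ℂ) :=
  Classical.choose_spec ((virt_fOn ψ j).coef_int X)

theorem exists_two_char [Fintype H] (ψ : M81 ≃* H) (C : Ctx H (J0.map (emb ψ))) :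
    ∃ A : IrrCharacter G, (A : G → ℂ) 1 = 2 ∧ (A : G → ℂ) (emb ψ u0) = 2 := by
  classical
  set u := emb ψ (invRep true) with hu
  set w := emb ψ (invRep false) with hw
  have inv_facts : ∀ b : Bool, emb ψ (invRep b) * emb ψ (invRep b) = 1 ∧ emb ψ (invRep b) ≠ 1 := by
    intro b
    have h : ∀ b : Bool, invRep b * invRep b = 1 ∧ invRep b ≠ 1 := by decide +kernel
    exact ⟨by rw [← map_mul, (h b).1, map_one],
      by rw [map_ne_one_iff _ (emb_injective ψ)]; exact (h b).2⟩
  let d : IrrCharacter G → ℤ := fun X => (H12.degree (X : G → ℂ) : ℤ)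
  let c := coefs (H := H) ψ
  have hd : ∀ X : IrrCharacter G, (d X : ℂ) = (X : G → ℂ) 1 := fun X => by
    rw [H12.irr_apply_one X]; simp [d]
  have hlin : ∀ j : Fin 6, ∀ g : G, lin (c j) (fun X => (X : G → ℂ) g) =
      indFun H (fOn ψ.symm j) g := fun j g => by
    rw [H12.classFunction_apply_eq_sum (H12.indFun_isClassFunction _ _) g]
    exact Finset.sum_congr rfl fun X _ => by rw [coefs_spec]
  have hzd : ∀ j : Fin 6, lin (c j) (fun X => (d X : ℂ)) = 0 ∧
      lin (c j) (fun X => (X : G → ℂ) u) = 0 ∧ lin (c j) (fun X => (X : G → ℂ) w) = 0 := fun j => by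
    simp only [hd, hlin]
    exact ⟨(virt_fOn ψ j).ind_eq_zero C.toBase (one_mul 1),
      (virt_fOn ψ j).ind_eq_zero C.toBase (inv_facts true).1,
      (virt_fOn ψ j).ind_eq_zero C.toBase (inv_facts false).1⟩
  have hip : ∀ i j : Fin 6, ip (c i) (c j) = gram i j := fun i j => by
    have e := H12.classInner_eq_sum_mul (H12.indFun_isClassFunction H (fOn ψ.symm i))
      (H12.indFun_isClassFunction H (fOn ψ.symm j))
    rw [(virt_fOn ψ i).classInner_ind C.toBase (virt_fOn ψ j), inner_fOn] at e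
    simp only [coefs_spec, map_intCast] at e
    simp only [ip, c]
    exact_mod_cast e.symm
  have hone : ∀ i : Fin 6, c i (H12.oneIrr G) = coefOne i := fun i => by
    have e := coefs_spec ψ i (H12.oneIrr G)
    rw [H12.classInner_indFun H _ (H12.irr_isClassFunction _)] at e
    have e2 := inner_fOn_one ψ.symm i
    simp only [H12.oneIrr_apply] at e
    rw [e2] at e
    exact_mod_cast e.symm
  set K : Bool → Bool → ℂ := fun b b' =>
    (Nat.card (Subgroup.centralizer ({emb ψ (invRep b)} : Set G)) : ℂ) *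
      (Nat.card (Subgroup.centralizer ({emb ψ (invRep b')} : Set G)) : ℂ) /
      ((Nat.card H : ℂ) * (Nat.card G : ℂ))
  have hK : ∀ b b', K b b' ≠ 0 := fun b b' =>
    div_ne_zero (mul_ne_zero H12.card_ne_zero' H12.card_ne_zero')
      (mul_ne_zero H12.card_ne_zero' H12.card_ne_zero')
  have hform : ∀ b b' : Bool, (b = true ∨ b' = false) → ∀ j : Fin 6,
      form d (c j) (fun X => (X : G → ℂ) (emb ψ (invRep b)))
        (fun X => (X : G → ℂ) (emb ψ (invRep b'))) =
      K b b' * (((if b = true then 27 else 54 : ℕ) : ℂ) * (pairVal b b' j : ℂ)) := by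
    intro b b' hbb j
    rw [← pairSum_fOn ψ b b' hbb j, ← (virt_fOn ψ j).class_identity C (emb_mem ψ _)
      (inv_facts b).1 (inv_facts b).2 (emb_mem ψ _) (inv_facts b').1 (inv_facts b').2]
    refine Finset.sum_congr rfl fun X _ => ?_
    simp only [hd, coefs_spec, c]
  let S : Sys (IrrCharacter G) :=
    { o := H12.oneIrr G
      d := d
      u := fun X => (X : G → ℂ) u
      w := fun X => (X : G → ℂ) w
      k1 := c 0
      k3 := c 1
      al := c 2
      p1 := c 3
      p2 := c 4
      h := c 5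
      d_ne := fun X => by
        have := H12.irr_degree_pos X
        simp only [d]
        omega
      d_o := by
        have := hd (H12.oneIrr G)
        rw [H12.oneIrr_apply] at this
        exact_mod_cast this
      u_o := H12.oneIrr_apply (G := G) u
      w_o := H12.oneIrr_apply (G := G) w
      o1 := hone 0
      o3 := hone 1
      oA := hone 2
      oP := hone 3
      oQ := hone 4
      oH := hone 5
      g11 := hip 0 0
      g33 := hip 1 1
      g13 := hip 0 1
      g1A := hip 0 2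
      g3A := hip 1 2
      g1P := hip 0 3
      g3P := hip 1 3
      g1Q := hip 0 4
      g3Q := hip 1 4
      g1H := hip 0 5
      g3H := hip 1 5
      gAA := hip 2 2
      gPP := hip 3 3
      gQQ := hip 4 4
      gAP := hip 2 3
      gAQ := hip 2 4
      gPQ := hip 3 4
      gAH := hip 2 5
      gPH := hip 3 5
      gQH := hip 4 5
      gHH := hip 5 5
      zd := by
        intro v hv
        rcases hv with rfl | rfl | rfl | rfl | rfl | rfl
        exacts [hzd 0, hzd 1, hzd 2, hzd 3, hzd 4, hzd 5]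
      uu1 := by rw [hu, hform true true (Or.inl rfl)]; simp [pairVal]
      uu3 := by rw [hu, hform true true (Or.inl rfl)]; simp [pairVal]
      uuP := by
        rw [hu, hform true true (Or.inl rfl), hform true true (Or.inl rfl)]; simp [pairVal]
      uuQ := by
        rw [hu, hform true true (Or.inl rfl), hform true true (Or.inl rfl)]; simp [pairVal]
      uuH := by
        rw [hu, hform true true (Or.inl rfl), hform true true (Or.inl rfl)]; simp [pairVal]; ring
      uuA := by
        rw [hu, hform true true (Or.inl rfl)]; simp [pairVal, hK]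
      uwP := by rw [hu, hw, hform true false (Or.inl rfl)]; simp [pairVal]
      uwH := by
        rw [hu, hw, hform true false (Or.inl rfl), hform true false (Or.inl rfl)]
        simp [pairVal]; ring
      wwA := by
        rw [hw, hform false false (Or.inr rfl), hform false false (Or.inr rfl)]
        simp [pairVal]; ring
      wwH := by
        rw [hw, hform false false (Or.inr rfl), hform false false (Or.inr rfl)]
        simp [pairVal]; ring
      ww1 := by
        rw [hw, hform false false (Or.inr rfl)]; simp [pairVal, hK] }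
  obtain ⟨A, hA, hAu⟩ := S.exists_two_coord
  have hA2 : d A = 2 := by
    rcases hA with e | e
    · exact e
    · have e' : (d A) = -2 := e
      simp only [d] at e'
      omega
  refine ⟨A, by rw [← hd, hA2]; simp, ?_⟩
  have : (A : G → ℂ) u = (d A : ℂ) := hAu
  rw [hA2] at this
  simpa [hu, invRep] using this

end

/-- The elements over the four-group. -/
def V0 : Subgroup M81 where
  carrier := {g | g.s.val < 4}
  one_mem' := by show (1 : M81).s.val < 4; decide +kernel
  mul_mem' {a b} ha hb := four_closed a.s b.s ha hb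
  inv_mem' {a} ha := four_inv a.s ha

instance decV0 (g : M81) : Decidable (g ∈ V0) := decidable_of_iff (g.s.val < 4) Iff.rfl

theorem card_V0 : Nat.card V0 = 108 := by rw [Nat.card_eq_fintype_card]; decide +kernel

theorem V0_le {P : Subgroup M81} (h : ∀ y, invClass true y → y ∈ P) : V0 ≤ P := by
  intro g hg
  obtain ⟨h1, h2, h3, ha⟩ := u_gen
  have key : ∀ (y z : M81), invClass true y → invClass true (y * z) → z ∈ P := fun y z hy hz => by
    simpa using P.mul_mem (P.inv_mem (h y hy)) (h _ hz)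
  rw [decomp81 g]
  refine P.mul_mem (P.mul_mem (P.mul_mem (key _ _ h2 (ha _).1) (key _ _ h1 (ha _).2.1))
    (key _ _ h1 (ha _).2.2)) ?_
  rcases sgn_cases g.s hg with e | e | e | e <;> rw [e]
  exacts [P.one_mem, h _ h1, h _ h2, h _ h3]

/-- The group of the statement of the case of order 108, inside the model. -/
theorem range_V0 : (act81.comp V0.subtype).range = Subgroup.closure H83.Ti27.genSet := by
  have hmem : (∃ x : V0, act81 x = Equiv.swap (0 : Fin 9) 1 * Equiv.swap 1 2) ∧
      (∃ x : V0, act81 x = Equiv.swap (3 : Fin 9) 4 * Equiv.swap 4 5) ∧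
      (∃ x : V0, act81 x = Equiv.swap (6 : Fin 9) 7 * Equiv.swap 7 8) ∧
      (∃ x : V0, act81 x = Equiv.swap (0 : Fin 9) 1 * Equiv.swap 3 4) ∧
      (∃ x : V0, act81 x = Equiv.swap (0 : Fin 9) 1 * Equiv.swap 6 7) := by decide +kernel
  have hle : Subgroup.closure H83.Ti27.genSet ≤ (act81.comp V0.subtype).range := by
    rw [Subgroup.closure_le]
    obtain ⟨g1, g2, g3, g4, g5⟩ := hmem
    intro g hg
    simp only [H83.Ti27.genSet, Set.mem_insert_iff, Set.mem_singleton_iff] at hg
    rcases hg with rfl | rfl | rfl | rfl | rfl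
    exacts [g1, g2, g3, g4, g5]
  refine (Subgroup.eq_of_le_of_card_ge hle (le_of_eq ?_)).symm
  rw [← Nat.card_congr (MonoidHom.ofInjective
      (f := act81.comp V0.subtype) (act81_injective.comp V0.subtype_injective)).toEquiv, card_V0,
    ← Nat.card_congr H83.Ti27.equivModel.toEquiv, H83.Ti27.card_Mo]

/-- For a suitable normal subgroup, `H ∩ K` is the part over the four-group. -/
theorem exists_normal81 [Fintype G] (ψ : M81 ≃* H) (C : Ctx H (J0.map (emb ψ))) :
    ∃ K : Subgroup G, K.Normal ∧ ∀ m : M81, emb ψ m ∈ K ↔ m ∈ V0 := by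
  classical
  obtain ⟨A, hA1, hAu⟩ := exists_two_char ψ C
  have hAc : IsCharacter G (A : G → ℂ) := H12.isCharacter_irr A
  set K := H12.charKer (A : G → ℂ) hAc with hKdef
  have hKn : K.Normal := H12.charKer_normal hAc
  have hmem : ∀ {g : G}, g ∈ K ↔ (A : G → ℂ) g = (A : G → ℂ) 1 := Iff.rfl
  have hu : emb ψ u0 ∈ K := hmem.2 (hAu.trans hA1.symm)
  set P : Subgroup M81 := K.comap (emb ψ) with hP
  have hle : V0 ≤ P := V0_le fun y hy => by
    obtain ⟨x, rfl⟩ := invClass_exists true y hy
    show emb ψ _ ∈ K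
    rw [map_mul, map_mul, map_inv]
    exact hKn.conj_mem _ hu _
  have hJK : J0.map (emb ψ) ≤ K := by
    rintro _ ⟨m, hm, rfl⟩
    exact hle (show m.s.val < 4 by rw [mem_J0.1 hm]; decide)
  have hKH : ∀ g : G, ∃ k ∈ K, ∃ h ∈ H, g = k * h := fun g => C.toBase.exists_mul hJK g
  have e := H83.Ti27.sum_eq_of_mul (H := H) hKH
    (f := fun g => (A : G → ℂ) g * conj ((A : G → ℂ) g)) (fun k hk g => by
      rw [H12.IsCharacter.mul_left_of_eq_degree hAc (hmem.1 hk) g])
  rw [H12.sum_mul_conj_eq_card_mul, H12.classInner_irr_self, mul_one,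
    show Nat.card H = 648 from (Nat.card_congr ψ.toEquiv).symm.trans card_M81] at e
  simp only [Complex.mul_conj] at e
  have hG0 : (Nat.card G : ℂ) ≠ 0 := H12.card_ne_zero'
  have e1 : ∑ h : H, Complex.normSq ((A : G → ℂ) (h : G)) = 648 := by
    have h2 : ((∑ h : H, Complex.normSq ((A : G → ℂ) (h : G)) : ℝ) : ℂ) = ((648 : ℝ) : ℂ) := by
      push_cast
      apply mul_left_cancel₀ hG0
      push_cast at e
      linear_combination -e
    exact_mod_cast h2
  have e2 : (4 : ℝ) * (Nat.card P : ℝ) ≤ 648 := by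
    rw [← e1]
    calc (4 : ℝ) * (Nat.card P : ℝ)
        = ∑ h ∈ Finset.univ.filter (fun h : H => (h : G) ∈ K),
            Complex.normSq ((A : G → ℂ) (h : G)) := by
          rw [Finset.sum_congr rfl (g := fun _ => (4 : ℝ)) (fun h hh => by
            rw [hmem.1 (Finset.mem_filter.1 hh).2, hA1]; norm_num [Complex.normSq_ofNat]),
            Finset.sum_const, nsmul_eq_mul, ← Fintype.card_subtype, ← Nat.card_eq_fintype_card,
            mul_comm]
          congr 2
          exact Nat.card_congr (ψ.toEquiv.subtypeEquiv fun m => Iff.rfl)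
      _ ≤ _ := Finset.sum_le_sum_of_subset_of_nonneg (Finset.filter_subset _ _)
          fun h _ _ => Complex.normSq_nonneg _
  have e3 : 4 * Nat.card P ≤ 648 := by exact_mod_cast e2
  have e4 : Nat.card P = 108 := by
    have hd := Subgroup.card_dvd_of_le hle
    rw [card_V0] at hd
    have hpos : 0 < Nat.card P := Nat.card_pos
    obtain ⟨k, hk⟩ := hd
    have : k = 1 := by omega
    omega
  have hPV : V0 = P := Subgroup.eq_of_le_of_card_ge hle (by rw [e4, card_V0])
  exact ⟨K, hKn, fun m => by rw [hPV]; rfl⟩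

/-- Recognition of `3³ : S₄`. -/
theorem recognition [Finite G] (H : Subgroup G)
    (hH : Nonempty (↥H ≃* Subgroup.closure genSet81)) (J : Subgroup G)
    (hJ : J = (pCore 3 ↥H).map H.subtype)
    (hC : ∀ j ∈ J, j ≠ 1 → Subgroup.centralizer ({j} : Set G) ≤ H) (hsc : IsStronglyClosed J H) :
    H = ⊤ := by
  obtain ⟨e⟩ := hH
  let := Fintype.ofFinite G
  set ψ : M81 ≃* H := equivModel81.trans e.symm with hψ
  rw [map_pCore_eq ψ] at hJ
  subst hJ
  have C : Ctx H (J0.map (emb ψ)) := ctx_of ψ hC hsc.2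
  obtain ⟨K, hKn, hK⟩ := exists_normal81 ψ C
  have hJK : J0.map (emb ψ) ≤ K := by
    rintro _ ⟨m, hm, rfl⟩
    exact (hK m).2 (show m.s.val < 4 by rw [mem_J0.1 hm]; decide)
  -- the subgroup `H ∩ K` as a group of the smaller type
  let θ : V0 →* K := ((emb ψ).comp V0.subtype).codRestrict K fun m => (hK _).2 m.2
  have hθ : Function.Injective θ := fun a b h => by
    have h' := congrArg Subtype.val h
    exact Subtype.ext (emb_injective ψ h')
  have hrange : θ.range = H.subgroupOf K := by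
    apply le_antisymm
    · rintro _ ⟨m, rfl⟩
      exact Subgroup.mem_subgroupOf.2 (emb_mem ψ _)
    · rintro ⟨x, hx⟩ hxH
      obtain ⟨m, rfl⟩ := exists_emb ψ (Subgroup.mem_subgroupOf.1 hxH)
      exact ⟨⟨m, (hK m).1 hx⟩, Subtype.ext rfl⟩
  have hiso : Nonempty (↥(H.subgroupOf K) ≃* Subgroup.closure H83.Ti27.genSet) :=
    ⟨((MulEquiv.subgroupCongr hrange.symm).trans (MonoidHom.ofInjective hθ).symm).trans
      ((MonoidHom.ofInjective (f := act81.comp V0.subtype)
        (act81_injective.comp V0.subtype_injective)).trans (MulEquiv.subgroupCongr range_V0))⟩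
  have hJH : J0.map (emb ψ) ≤ H := C.toBase.le
  have hcard : Nat.card ((J0.map (emb ψ)).subgroupOf K) = 27 := by
    rw [Nat.card_congr (Subgroup.subgroupOfEquivOfLe hJK).toEquiv,
      Subgroup.card_map_of_injective (emb_injective ψ), card_J0]
  have hN : Subgroup.normalizer (((J0.map (emb ψ)).subgroupOf K : Subgroup K) : Set K) =
      H.subgroupOf K := by
    ext g
    rw [Subgroup.mem_normalizer_iff, Subgroup.mem_subgroupOf,
      ← show (g : G) ∈ Subgroup.normalizer ((J0.map (emb ψ) : Subgroup G) : Set G) ↔ (g : G) ∈ H from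
        SetLike.ext_iff.1 C.toBase.norm _, Subgroup.mem_normalizer_iff]
    constructor
    · intro h y
      constructor
      · intro hy
        exact Subgroup.mem_subgroupOf.1 ((h ⟨y, hJK hy⟩).1 (Subgroup.mem_subgroupOf.2 hy))
      · intro hy
        have hyK : y ∈ K := by
          have := K.mul_mem (K.mul_mem (K.inv_mem g.2) (hJK hy)) g.2
          simpa [mul_assoc] using this
        exact Subgroup.mem_subgroupOf.1 ((h ⟨y, hyK⟩).2 (Subgroup.mem_subgroupOf.2 hy))
    · intro h k
      rw [Subgroup.mem_subgroupOf, Subgroup.mem_subgroupOf]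
      exact h k
  have htop := H83.Ti27.recognition (H.subgroupOf K) hiso ((J0.map (emb ψ)).subgroupOf K)
    (fun x hx => Subgroup.mem_subgroupOf.2 (hJH (Subgroup.mem_subgroupOf.1 hx))) hcard hN
    (fun t ht ht1 x hx => Subgroup.mem_subgroupOf.2 (hC (t : G) (Subgroup.mem_subgroupOf.1 ht)
      (fun h => ht1 (Subtype.ext h)) (Subgroup.mem_centralizer_singleton_iff.2
        (congrArg Subtype.val (Subgroup.mem_centralizer_singleton_iff.1 hx)))))
  have hKH : K ≤ H := Subgroup.subgroupOf_eq_top.1 htop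
  rw [eq_top_iff]
  intro g _
  obtain ⟨k, hk, h, hh, rfl⟩ := C.toBase.exists_mul hJK g
  exact H.mul_mem (hKH hk) hh

end H83.Ti81
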