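import Cfsg.Agent.H12.Induction
import Cfsg.Agent.H12.Transport
import Cfsg.Agent.H83.Ti81Data

/-!
# The six generalized characters of the model of order 648
-/

set_option autoImplicit false

open Cfsg
open scoped ComplexConjugate

namespace H83.Ti81

/-- `ω`. -/
noncomputable def omega : ℂ := ⟨-1 / 2, Real.sqrt 3 / 2⟩

theorem omega_sq : omega * omega = -1 - omega := by
  have h : Real.sqrt 3 * Real.sqrt 3 = 3 := Real.mul_self_sqrt (by norm_num)
  apply Complex.ext
  · simp [omega, Complex.mul_re]; linear_combination (-1 / 4 : ℝ) * h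
  · simp [omega, Complex.mul_im]; ring

theorem conj_omega : conj omega = -1 - omega := by
  apply Complex.ext <;> simp [omega] <;> ring

/-- The value of an element of `ℤ[ω, i]`. -/
noncomputable def ev : Z12 →+ ℂ where
  toFun x := (x.1 : ℂ) + (x.2.1 : ℂ) * omega + ((x.2.2.1 : ℂ) + (x.2.2.2 : ℂ) * omega) * Complex.I
  map_zero' := by simp
  map_add' x y := by simp only [Prod.fst_add, Prod.snd_add, Int.cast_add]; ring

theorem ev_apply (x : Z12) : ev x =
    (x.1 : ℂ) + (x.2.1 : ℂ) * omega + ((x.2.2.1 : ℂ) + (x.2.2.2 : ℂ) * omega) * Complex.I := rfl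

theorem ev_mul (x y : Z12) : ev (zMul x y) = ev x * ev y := by
  simp only [ev_apply, zMul, eMul]
  push_cast
  linear_combination -((x.2.1 : ℂ) + (x.2.2.2 : ℂ) * Complex.I) *
    ((y.2.1 : ℂ) + (y.2.2.2 : ℂ) * Complex.I) * omega_sq -
    ((x.2.2.1 : ℂ) * y.2.2.1 + (x.2.2.1 : ℂ) * y.2.2.2 * omega + (x.2.2.2 : ℂ) * y.2.2.1 * omega +
      (x.2.2.2 : ℂ) * y.2.2.2 * (-1 - omega)) * Complex.I_mul_I

theorem conj_ev (x : Z12) : conj (ev x) = ev (zStar x) := by
  simp only [ev_apply, zStar, map_add, map_mul, map_intCast, Complex.conj_I, conj_omega]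
  push_cast
  ring

theorem ev_one : ev (1, 0, 0, 0) = 1 := by simp [ev_apply]

theorem ev_int (n : ℤ) : ev (n, 0, 0, 0) = (n : ℂ) := by simp [ev_apply]

/-- `n ↦ ev (zeta n)`. -/
noncomputable def zetaHom : Multiplicative (ZMod 12) →* ℂ where
  toFun n := ev (zeta (Multiplicative.toAdd n))
  map_one' := by rw [toAdd_one, zeta_zero, ev_one]
  map_mul' a b := by rw [toAdd_mul, zeta_add, ev_mul]

/-- The exponent of the second character as a homomorphism. -/
def expHom (j : Fin 6) : subK (funSub j) →* Multiplicative (ZMod 12) where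
  toFun g := Multiplicative.ofAdd (expT (funSub j) (g : M81) + expS j (g : M81))
  map_one' := by
    have : ∀ j : Fin 6, expT (funSub j) (1 : M81) + expS j (1 : M81) = 0 := by decide +kernel
    rw [OneMemClass.coe_one, this]; rfl
  map_mul' a b := by
    rw [Subgroup.coe_mul, expT_mul _ a.2, expS_mul j a.2 b.2, ← ofAdd_add, add_add_add_comm]

/-- The exponent of the first character as a homomorphism. -/
def sgnHom (j : Fin 6) : subK (funSub j) →* Multiplicative (ZMod 12) where
  toFun g := Multiplicative.ofAdd (expS j (g : M81))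
  map_one' := by
    have : ∀ j : Fin 6, expS j (1 : M81) = 0 := by decide +kernel
    rw [OneMemClass.coe_one, this]; rfl
  map_mul' a b := by rw [Subgroup.coe_mul, expS_mul j a.2 b.2, ← ofAdd_add]

/-- The two linear characters. -/
noncomputable def chiBig (j : Fin 6) : subK (funSub j) →* ℂˣ := (zetaHom.comp (expHom j)).toHomUnits

/-- The two linear characters. -/
noncomputable def chiSmall (j : Fin 6) : subK (funSub j) →* ℂˣ :=
  (zetaHom.comp (sgnHom j)).toHomUnits

/-- Their difference. -/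
noncomputable def diffFun (j : Fin 6) : subK (funSub j) → ℂ :=
  (fun g => (chiBig j g : ℂ)) - fun g => (chiSmall j g : ℂ)

theorem term_eq (j : Fin 6) (g : M81) :
    ev (term j g) = extendByZero (subK (funSub j)) (diffFun j) g := by
  by_cases h : g.s ∈ cyc (funSub j)
  · rw [H12.extendByZero_mk _ _ (show g ∈ subK (funSub j) from h), term, if_pos h, map_sub]
    rfl
  · rw [H12.extendByZero_of_notMem _ _ (show g ∉ subK (funSub j) from h), term, if_neg h, map_zero]

open scoped Classical in
theorem indVal_eq (j : Fin 6) (g : M81) :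
    ev (indVal j g) = indFun (subK (funSub j)) (diffFun j) g := by
  set k := funSub j with hk
  set U := subK k
  set R := (reps k).toFinset with hR
  have hcard : R.card * Nat.card U = 648 := by
    rw [hR, List.toFinset_card_of_nodup (reps_nodup k).1, card_subK]; exact (reps_nodup k).2
  have hinj : Function.Injective (fun p : R × U => (⟨0, p.1.1⟩ : M81) * p.2) := by
    rintro ⟨⟨a, ha⟩, u⟩ ⟨⟨b, hb⟩, v⟩ h
    simp only at h
    have hm : ((⟨0, a⟩ : M81)⁻¹ * ⟨0, b⟩) ∈ U := by
      rw [show ((⟨0, a⟩ : M81)⁻¹ * ⟨0, b⟩) = (u : M81) * (v : M81)⁻¹ by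
        rw [eq_mul_inv_iff_mul_eq, mul_assoc, ← h]; group]
      exact U.mul_mem u.2 (U.inv_mem v.2)
    have hab : a = b := reps_inj k a (List.mem_toFinset.1 ha) b (List.mem_toFinset.1 hb) hm
    subst hab
    exact Prod.ext rfl (Subtype.ext (mul_left_cancel h))
  have hbij : Function.Bijective (fun p : R × U => (⟨0, p.1.1⟩ : M81) * p.2) := by
    rw [Fintype.bijective_iff_injective_and_card]
    refine ⟨hinj, ?_⟩
    rw [Fintype.card_prod, Fintype.card_coe, ← Nat.card_eq_fintype_card, ← Nat.card_eq_fintype_card,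
      hcard, card_M81]
  have hU0 : (Nat.card U : ℂ) ≠ 0 := H12.card_ne_zero'
  have hsum : ∑ x : M81, extendByZero U (diffFun j) (x⁻¹ * g * x) =
      (Nat.card U : ℂ) * ∑ r ∈ R, extendByZero U (diffFun j) ((⟨0, r⟩ : M81)⁻¹ * g * ⟨0, r⟩) := by
    rw [← Fintype.sum_bijective _ hbij
      (fun p : R × U => extendByZero U (diffFun j) ((⟨0, p.1.1⟩ : M81)⁻¹ * g * ⟨0, p.1.1⟩))
      (fun x : M81 => extendByZero U (diffFun j) (x⁻¹ * g * x))]
    · rw [Fintype.sum_prod_type, Finset.mul_sum, ← Finset.sum_coe_sort R]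
      refine Finset.sum_congr rfl fun r _ => ?_
      simp only [Finset.sum_const, Finset.card_univ, nsmul_eq_mul, ← Nat.card_eq_fintype_card]
    · rintro ⟨⟨r, hr⟩, u⟩
      set y := (⟨0, r⟩ : M81)⁻¹ * g * ⟨0, r⟩ with hy
      rw [show ((⟨0, r⟩ : M81) * u)⁻¹ * g * (⟨0, r⟩ * u) = (u : M81)⁻¹ * y * u by rw [hy]; group]
      by_cases hyU : y ∈ U
      · have hm : (u : M81)⁻¹ * y * u ∈ U := U.mul_mem (U.mul_mem (U.inv_mem u.2) hyU) u.2
        rw [H12.extendByZero_mk _ _ hyU, H12.extendByZero_mk _ _ hm,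
          show (⟨(u : M81)⁻¹ * y * u, hm⟩ : U) = u⁻¹ * ⟨y, hyU⟩ * u from Subtype.ext rfl]
        simp only [diffFun, Pi.sub_apply, map_mul, map_inv, mul_comm _ (chiBig j u),
          mul_comm _ (chiSmall j u), mul_inv_cancel_left]
      · rw [H12.extendByZero_of_notMem _ _ hyU, H12.extendByZero_of_notMem]
        intro hm
        refine hyU ?_
        rw [show y = (u : M81) * ((u : M81)⁻¹ * y * u) * (u : M81)⁻¹ by group]
        exact U.mul_mem (U.mul_mem u.2 hm) (U.inv_mem u.2)
  rw [H12.indFun_apply, hsum, inv_mul_cancel_left₀ hU0, hR,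
    List.sum_toFinset _ (reps_nodup k).1, indVal, map_list_sum, List.map_map]
  exact congrArg List.sum (List.map_congr_left fun r _ => term_eq j _)

theorem isGen_indVal (j : Fin 6) : IsGeneralizedCharacter M81 fun g => ev (indVal j g) := by
  have e : (fun g => ev (indVal j g)) = indFun (subK (funSub j)) (diffFun j) :=
    funext (indVal_eq j)
  rw [e]
  exact H12.IsGeneralizedCharacter.indFun
    ⟨_, _, H12.isCharacter_monoidHom _, H12.isCharacter_monoidHom _, rfl⟩

theorem isGen_tab (j : Fin 6) : IsGeneralizedCharacter M81 fun g => ev (tab j g) := by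
  have e : (fun g => ev (tab j g)) = fun g => ev (fVal j g) := by simp only [fVal_eq]
  rw [e]
  obtain ⟨a, b, ha, hb, h2⟩ := isGen_indVal 2
  obtain ⟨c, d, hc, hd, h5⟩ := isGen_indVal 5
  have v2 : ∀ g, ev (indVal 2 g) = a g - b g := fun g => congrFun h2 g
  have v5 : ∀ g, ev (indVal 5 g) = c g - d g := fun g => congrFun h5 g
  by_cases e2 : j = 2
  · subst e2
    refine ⟨b, a, hb, ha, funext fun g => ?_⟩
    rw [fVal, if_pos rfl, map_neg, v2, neg_sub]; rfl
  by_cases e5 : j = 5
  · subst e5
    refine ⟨c + b, d + a, H12.IsCharacter.add hc hb, H12.IsCharacter.add hd ha,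
      funext fun g => ?_⟩
    rw [fVal, if_neg (by decide), if_pos rfl, map_sub, v2, v5]
    simp only [Pi.sub_apply, Pi.add_apply]; ring
  · simp only [fVal, if_neg e2, if_neg e5]
    exact isGen_indVal j

variable {K : Type*} [Group K]

/-- The six functions on a group isomorphic to the model. -/
noncomputable def fOn (φ : K ≃* M81) (j : Fin 6) : K → ℂ := fun x => ev (tab j (φ x))

theorem isGen_fOn (φ : K ≃* M81) (j : Fin 6) : IsGeneralizedCharacter K (fOn φ j) := by
  obtain ⟨a, b, ha, hb, h⟩ := isGen_tab j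
  exact ⟨a ∘ φ, b ∘ φ, H12.IsCharacter.comp ha φ.toMonoidHom, H12.IsCharacter.comp hb φ.toMonoidHom,
    funext fun x => congrFun h (φ x)⟩

theorem tab_conj (j : Fin 6) (a g : M81) : ev (tab j (a * g * a⁻¹)) = ev (tab j g) := by
  classical
  exact (H12.isGeneralizedCharacter_iff.1 (isGen_tab j)).1 g a

theorem inner_fOn [Fintype K] (φ : K ≃* M81) (i j : Fin 6) :
    classInner (fOn φ i) (fOn φ j) = (gram i j : ℂ) := by
  classical
  show classInner ((fun g => ev (tab i g)) ∘ φ) ((fun g => ev (tab j g)) ∘ φ) = _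
  rw [H12.classInner_comp_equiv, H12.classInner_def, card_M81]
  simp only [conj_ev, tab_star, ← ev_mul, ← map_sum, gram_eq, ev_int]
  push_cast; ring

theorem inner_fOn_one [Fintype K] (φ : K ≃* M81) (i : Fin 6) :
    classInner (fOn φ i) (fun _ => 1) = (coefOne i : ℂ) := by
  classical
  show classInner ((fun g => ev (tab i g)) ∘ φ) ((fun _ : M81 => (1 : ℂ)) ∘ φ) = _
  rw [H12.classInner_comp_equiv, H12.classInner_def, card_M81]
  simp only [map_one, mul_one, ← map_sum, coefOne_eq, ev_int]
  push_cast; ring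

end H83.Ti81
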