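import Mathlib

/-!
# A model of the group `3³ : S₄` of order 648

Pairs of a vector in `(ℤ/3)³` and one of the 24 signed permutations of determinant one (in the
sense of the action on 9 points).
-/

set_option autoImplicit false

namespace H83.Ti81

/-- The multiplication table of the signed permutations. -/
def mulTab : List (List (Fin 24)) := [
  [0, 1, 2, 3, 4, 5, 6, 7, 8, 9, 10, 11, 12, 13, 14, 15, 16, 17, 18, 19, 20, 21, 22, 23],
  [1, 0, 3, 2, 5, 4, 7, 6, 10, 11, 8, 9, 15, 14, 13, 12, 18, 19, 16, 17, 23, 22, 21, 20],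
  [2, 3, 0, 1, 7, 6, 5, 4, 9, 8, 11, 10, 13, 12, 15, 14, 19, 18, 17, 16, 22, 23, 20, 21],
  [3, 2, 1, 0, 6, 7, 4, 5, 11, 10, 9, 8, 14, 15, 12, 13, 17, 16, 19, 18, 21, 20, 23, 22],
  [4, 5, 6, 7, 1, 0, 3, 2, 16, 17, 18, 19, 21, 20, 23, 22, 10, 11, 8, 9, 14, 15, 12, 13],
  [5, 4, 7, 6, 0, 1, 2, 3, 18, 19, 16, 17, 22, 23, 20, 21, 8, 9, 10, 11, 13, 12, 15, 14],
  [6, 7, 4, 5, 2, 3, 0, 1, 17, 16, 19, 18, 20, 21, 22, 23, 9, 8, 11, 10, 12, 13, 14, 15],
  [7, 6, 5, 4, 3, 2, 1, 0, 19, 18, 17, 16, 23, 22, 21, 20, 11, 10, 9, 8, 15, 14, 13, 12],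
  [8, 9, 10, 11, 13, 12, 15, 14, 0, 1, 2, 3, 5, 4, 7, 6, 22, 23, 20, 21, 18, 19, 16, 17],
  [9, 8, 11, 10, 12, 13, 14, 15, 2, 3, 0, 1, 6, 7, 4, 5, 20, 21, 22, 23, 17, 16, 19, 18],
  [10, 11, 8, 9, 14, 15, 12, 13, 1, 0, 3, 2, 4, 5, 6, 7, 21, 20, 23, 22, 16, 17, 18, 19],
  [11, 10, 9, 8, 15, 14, 13, 12, 3, 2, 1, 0, 7, 6, 5, 4, 23, 22, 21, 20, 19, 18, 17, 16],
  [12, 13, 14, 15, 8, 9, 10, 11, 20, 21, 22, 23, 16, 17, 18, 19, 0, 1, 2, 3, 4, 5, 6, 7],
  [13, 12, 15, 14, 9, 8, 11, 10, 22, 23, 20, 21, 19, 18, 17, 16, 2, 3, 0, 1, 7, 6, 5, 4],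
  [14, 15, 12, 13, 11, 10, 9, 8, 21, 20, 23, 22, 17, 16, 19, 18, 3, 2, 1, 0, 6, 7, 4, 5],
  [15, 14, 13, 12, 10, 11, 8, 9, 23, 22, 21, 20, 18, 19, 16, 17, 1, 0, 3, 2, 5, 4, 7, 6],
  [16, 17, 18, 19, 20, 21, 22, 23, 4, 5, 6, 7, 0, 1, 2, 3, 12, 13, 14, 15, 8, 9, 10, 11],
  [17, 16, 19, 18, 21, 20, 23, 22, 6, 7, 4, 5, 3, 2, 1, 0, 14, 15, 12, 13, 11, 10, 9, 8],
  [18, 19, 16, 17, 23, 22, 21, 20, 5, 4, 7, 6, 1, 0, 3, 2, 15, 14, 13, 12, 10, 11, 8, 9],
  [19, 18, 17, 16, 22, 23, 20, 21, 7, 6, 5, 4, 2, 3, 0, 1, 13, 12, 15, 14, 9, 8, 11, 10],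
  [20, 21, 22, 23, 17, 16, 19, 18, 12, 13, 14, 15, 9, 8, 11, 10, 6, 7, 4, 5, 2, 3, 0, 1],
  [21, 20, 23, 22, 16, 17, 18, 19, 14, 15, 12, 13, 10, 11, 8, 9, 4, 5, 6, 7, 1, 0, 3, 2],
  [22, 23, 20, 21, 18, 19, 16, 17, 13, 12, 15, 14, 8, 9, 10, 11, 5, 4, 7, 6, 0, 1, 2, 3],
  [23, 22, 21, 20, 19, 18, 17, 16, 15, 14, 13, 12, 11, 10, 9, 8, 7, 6, 5, 4, 3, 2, 1, 0]]

/-- The inverses of the signed permutations. -/
def invTab : List (Fin 24) := [0, 1, 2, 3, 5, 4, 6, 7, 8, 10, 9, 11, 16, 18, 19, 17, 12, 15, 13, 14, 22, 21, 20, 23]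

/-- For each signed permutation and coordinate, the source coordinate and whether the sign is
negative. -/
def actTab : List (List (Fin 3 × Bool)) := [
  [(0, false), (1, false), (2, false)],
  [(0, false), (1, true), (2, true)],
  [(0, true), (1, false), (2, true)],
  [(0, true), (1, true), (2, false)],
  [(0, false), (2, true), (1, false)],
  [(0, false), (2, false), (1, true)],
  [(0, true), (2, false), (1, false)],
  [(0, true), (2, true), (1, true)],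
  [(1, false), (0, false), (2, true)],
  [(1, true), (0, false), (2, false)],
  [(1, false), (0, true), (2, false)],
  [(1, true), (0, true), (2, true)],
  [(2, false), (0, false), (1, false)],
  [(2, true), (0, false), (1, true)],
  [(2, true), (0, true), (1, false)],
  [(2, false), (0, true), (1, true)],
  [(1, false), (2, false), (0, false)],
  [(1, true), (2, true), (0, false)],
  [(1, false), (2, true), (0, true)],
  [(1, true), (2, false), (0, true)],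
  [(2, true), (1, false), (0, false)],
  [(2, false), (1, true), (0, false)],
  [(2, false), (1, false), (0, true)],
  [(2, true), (1, true), (0, true)]]

/-- The action of the signed permutations on 9 points. -/
def pointTab : List (List (Fin 9)) := [
  [0, 1, 2, 3, 4, 5, 6, 7, 8],
  [0, 1, 2, 3, 5, 4, 6, 8, 7],
  [0, 2, 1, 3, 4, 5, 6, 8, 7],
  [0, 2, 1, 3, 5, 4, 6, 7, 8],
  [0, 1, 2, 6, 7, 8, 3, 5, 4],
  [0, 1, 2, 6, 8, 7, 3, 4, 5],
  [0, 2, 1, 6, 7, 8, 3, 4, 5],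
  [0, 2, 1, 6, 8, 7, 3, 5, 4],
  [3, 4, 5, 0, 1, 2, 6, 8, 7],
  [3, 4, 5, 0, 2, 1, 6, 7, 8],
  [3, 5, 4, 0, 1, 2, 6, 7, 8],
  [3, 5, 4, 0, 2, 1, 6, 8, 7],
  [3, 4, 5, 6, 7, 8, 0, 1, 2],
  [3, 4, 5, 6, 8, 7, 0, 2, 1],
  [3, 5, 4, 6, 7, 8, 0, 2, 1],
  [3, 5, 4, 6, 8, 7, 0, 1, 2],
  [6, 7, 8, 0, 1, 2, 3, 4, 5],
  [6, 7, 8, 0, 2, 1, 3, 5, 4],
  [6, 8, 7, 0, 1, 2, 3, 5, 4],
  [6, 8, 7, 0, 2, 1, 3, 4, 5],
  [6, 7, 8, 3, 4, 5, 0, 2, 1],
  [6, 7, 8, 3, 5, 4, 0, 1, 2],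
  [6, 8, 7, 3, 4, 5, 0, 1, 2],
  [6, 8, 7, 3, 5, 4, 0, 2, 1]]

/-- The inverse of the action on 9 points. -/
def pointInvTab : List (List (Fin 9)) := [
  [0, 1, 2, 3, 4, 5, 6, 7, 8],
  [0, 1, 2, 3, 5, 4, 6, 8, 7],
  [0, 2, 1, 3, 4, 5, 6, 8, 7],
  [0, 2, 1, 3, 5, 4, 6, 7, 8],
  [0, 1, 2, 6, 8, 7, 3, 4, 5],
  [0, 1, 2, 6, 7, 8, 3, 5, 4],
  [0, 2, 1, 6, 7, 8, 3, 4, 5],
  [0, 2, 1, 6, 8, 7, 3, 5, 4],
  [3, 4, 5, 0, 1, 2, 6, 8, 7],
  [3, 5, 4, 0, 1, 2, 6, 7, 8],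
  [3, 4, 5, 0, 2, 1, 6, 7, 8],
  [3, 5, 4, 0, 2, 1, 6, 8, 7],
  [6, 7, 8, 0, 1, 2, 3, 4, 5],
  [6, 8, 7, 0, 1, 2, 3, 5, 4],
  [6, 8, 7, 0, 2, 1, 3, 4, 5],
  [6, 7, 8, 0, 2, 1, 3, 5, 4],
  [3, 4, 5, 6, 7, 8, 0, 1, 2],
  [3, 5, 4, 6, 8, 7, 0, 1, 2],
  [3, 4, 5, 6, 8, 7, 0, 2, 1],
  [3, 5, 4, 6, 7, 8, 0, 2, 1],
  [6, 8, 7, 3, 4, 5, 0, 1, 2],
  [6, 7, 8, 3, 5, 4, 0, 1, 2],
  [6, 7, 8, 3, 4, 5, 0, 2, 1],
  [6, 8, 7, 3, 5, 4, 0, 2, 1]]

/-- Signed permutations. -/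
abbrev Sgn : Type := Fin 24

/-- Multiplication of signed permutations. -/
def smul' (s r : Sgn) : Sgn := (mulTab.getD s.val []).getD r.val 0

/-- Inverse of a signed permutation. -/
def sinv (s : Sgn) : Sgn := invTab.getD s.val 0

/-- The translation group. -/
abbrev V3 : Type := ZMod 3 × ZMod 3 × ZMod 3

/-- A coordinate of a vector. -/
def coord (t : V3) : Fin 3 → ZMod 3 := ![t.1, t.2.1, t.2.2]

/-- A signed coordinate. -/
def scoord (t : V3) (p : Fin 3 × Bool) : ZMod 3 := if p.2 then -coord t p.1 else coord t p.1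

/-- The action of signed permutations on vectors. -/
def sact (s : Sgn) (t : V3) : V3 :=
  let r := actTab.getD s.val []
  (scoord t (r.getD 0 (0, false)), scoord t (r.getD 1 (0, false)), scoord t (r.getD 2 (0, false)))

theorem smul'_assoc : ∀ a b c : Sgn, smul' (smul' a b) c = smul' a (smul' b c) := by
  decide +kernel

theorem one_smul' : ∀ a : Sgn, smul' 0 a = a ∧ smul' a 0 = a ∧ smul' (sinv a) a = 0 := by
  decide +kernel

theorem sact_add : ∀ (s : Sgn) (t t' : V3), sact s (t + t') = sact s t + sact s t' := by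
  decide +kernel

theorem sact_smul : ∀ (s r : Sgn) (t : V3), sact (smul' s r) t = sact s (sact r t) := by
  decide +kernel

theorem sact_zero : ∀ (s : Sgn) (t : V3), sact 0 t = t ∧ sact s (-t) = -sact s t := by
  decide +kernel

/-- The group of order 648. -/
@[ext] structure M81 where
  /-- translation part -/
  t : V3
  /-- signed permutation part -/
  s : Sgn
  deriving DecidableEq

/-- `M81` as a product. -/
def m81Equiv : M81 ≃ V3 × Sgn where
  toFun g := (g.t, g.s)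
  invFun p := ⟨p.1, p.2⟩
  left_inv _ := rfl
  right_inv _ := rfl

instance m81Fintype : Fintype M81 := Fintype.ofEquiv _ m81Equiv.symm

instance m81Mul : Mul M81 := ⟨fun g h => ⟨g.t + sact g.s h.t, smul' g.s h.s⟩⟩
instance m81One : One M81 := ⟨⟨0, 0⟩⟩
instance m81Inv : Inv M81 := ⟨fun g => ⟨-sact (sinv g.s) g.t, sinv g.s⟩⟩

theorem m81_mul_def (g h : M81) : g * h = ⟨g.t + sact g.s h.t, smul' g.s h.s⟩ := rfl

instance m81Group : Group M81 :=
  Group.ofLeftAxioms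
    (fun a b c => by
      simp only [m81_mul_def, M81.mk.injEq, smul'_assoc, sact_add, sact_smul, add_assoc, and_self])
    (fun a => by
      show (⟨0 + sact 0 a.t, smul' 0 a.s⟩ : M81) = a
      rw [(sact_zero a.s a.t).1, (one_smul' a.s).1, zero_add])
    (fun a => by
      show (⟨-sact (sinv a.s) a.t + sact (sinv a.s) a.t, smul' (sinv a.s) a.s⟩ : M81) = ⟨0, 0⟩
      rw [neg_add_cancel, (one_smul' a.s).2.2])

/-! ### The action on 9 points -/

/-- A translation on 9 points. -/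
def transFun (t : V3) (x : Fin 9) : Fin 9 :=
  ⟨3 * (x.val / 3) + (x.val % 3 + (coord t ⟨x.val / 3 % 3, Nat.mod_lt _ (by norm_num)⟩).val) % 3,
    by omega⟩

/-- A signed permutation on 9 points. -/
def pointFun (s : Sgn) (x : Fin 9) : Fin 9 := (pointTab.getD s.val []).getD x.val 0

/-- The inverse of a signed permutation on 9 points. -/
def pointInvFun (s : Sgn) (x : Fin 9) : Fin 9 := (pointInvTab.getD s.val []).getD x.val 0

/-- A translation as a permutation. -/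
def transPerm (t : V3) : Equiv.Perm (Fin 9) where
  toFun := transFun t
  invFun := transFun (-t)
  left_inv := by revert t; decide +kernel
  right_inv := by revert t; decide +kernel

/-- A signed permutation as a permutation. -/
def pointPerm (s : Sgn) : Equiv.Perm (Fin 9) where
  toFun := pointFun s
  invFun := pointInvFun s
  left_inv := by revert s; decide +kernel
  right_inv := by revert s; decide +kernel

theorem point_smul : ∀ (s r : Sgn) (x : Fin 9),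
    pointFun (smul' s r) x = pointFun s (pointFun r x) := by decide +kernel

theorem trans_add : ∀ (t t' : V3) (x : Fin 9),
    transFun (t + t') x = transFun t (transFun t' x) := by decide +kernel

theorem point_trans : ∀ (s : Sgn) (t : V3) (x : Fin 9),
    pointFun s (transFun t x) = transFun (sact s t) (pointFun s x) := by decide +kernel

/-- The action of the model on 9 points. -/
def act81 : M81 →* Equiv.Perm (Fin 9) where
  toFun g := transPerm g.t * pointPerm g.s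
  map_one' := by decide +kernel
  map_mul' g h := by
    ext x
    show ((transFun (g.t + sact g.s h.t) (pointFun (smul' g.s h.s) x) : Fin 9) : ℕ) = _
    rw [point_smul, trans_add]
    show _ = ((transFun g.t (pointFun g.s (transFun h.t (pointFun h.s x))) : Fin 9) : ℕ)
    rw [point_trans]

theorem act81_ker : ∀ g : M81, act81 g = 1 → g = 1 := by decide +kernel

theorem act81_injective : Function.Injective act81 := by
  rw [injective_iff_map_eq_one]; exact act81_ker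

/-- The four generators in the statement. -/
def genSet81 : Set (Equiv.Perm (Fin 9)) :=
  {Equiv.swap (0 : Fin 9) 1 * Equiv.swap 1 2,
    Equiv.swap (0 : Fin 9) 3 * Equiv.swap 3 6 * (Equiv.swap (1 : Fin 9) 4 * Equiv.swap 4 7) *
      (Equiv.swap (2 : Fin 9) 5 * Equiv.swap 5 8),
    Equiv.swap (0 : Fin 9) 1 * Equiv.swap 3 4,
    Equiv.swap (0 : Fin 9) 3 * Equiv.swap 1 4 * Equiv.swap 2 5 * Equiv.swap 6 7}

/-- The generator 1. -/
def ga : M81 := ⟨(1, 0, 0), 0⟩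
/-- The generator 2. -/
def gs : M81 := ⟨(0, 0, 0), 12⟩
/-- The generator 3. -/
def gu : M81 := ⟨(1, 1, 0), 3⟩
/-- The generator 4. -/
def gw : M81 := ⟨(0, 0, 1), 8⟩

theorem act_gens81 :
    act81 ga = Equiv.swap (0 : Fin 9) 1 * Equiv.swap 1 2 ∧
    act81 gs = Equiv.swap (0 : Fin 9) 3 * Equiv.swap 3 6 *
      (Equiv.swap (1 : Fin 9) 4 * Equiv.swap 4 7) * (Equiv.swap (2 : Fin 9) 5 * Equiv.swap 5 8) ∧
    act81 gu = Equiv.swap (0 : Fin 9) 1 * Equiv.swap 3 4 ∧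
    act81 gw = Equiv.swap (0 : Fin 9) 3 * Equiv.swap 1 4 * Equiv.swap 2 5 * Equiv.swap 6 7 := by
  decide +kernel

theorem trans_word : ∀ t : V3, ∃ i j k : Fin 3, (⟨t, 0⟩ : M81) =
    ga ^ i.val * (gs * ga * gs⁻¹) ^ j.val * (gs * (gs * ga * gs⁻¹) * gs⁻¹) ^ k.val := by
  decide +kernel

theorem point_word : ∀ s : Sgn, ∃ p q : Fin 2, ∃ r : Fin 3, ∃ l : Fin 2,
    (gu ^ p.val * (gs * gu * gs⁻¹) ^ q.val * gs ^ r.val * gw ^ l.val).s = s := by decide +kernel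

theorem closure_gens : Subgroup.closure ({ga, gs, gu, gw} : Set M81) = ⊤ := by
  rw [eq_top_iff]
  intro g _
  set C := Subgroup.closure ({ga, gs, gu, gw} : Set M81)
  have ha : ga ∈ C := Subgroup.subset_closure (by simp)
  have hs : gs ∈ C := Subgroup.subset_closure (by simp)
  have hu : gu ∈ C := Subgroup.subset_closure (by simp)
  have hw : gw ∈ C := Subgroup.subset_closure (by simp)
  obtain ⟨p, q, r, l, hW⟩ := point_word g.s
  set W := gu ^ p.val * (gs * gu * gs⁻¹) ^ q.val * gs ^ r.val * gw ^ l.val with hWdef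
  have hWC : W ∈ C :=
    mul_mem (mul_mem (mul_mem (pow_mem hu _) (pow_mem (mul_mem (mul_mem hs hu) (inv_mem hs)) _))
      (pow_mem hs _)) (pow_mem hw _)
  obtain ⟨i, j, k, hT⟩ := trans_word (g.t - W.t)
  have e : g = (⟨g.t - W.t, 0⟩ : M81) * W := by
    rw [m81_mul_def, (sact_zero 0 W.t).1, (one_smul' W.s).1, hW, sub_add_cancel]
  rw [e, hT]
  exact mul_mem (mul_mem (mul_mem (pow_mem ha _)
    (pow_mem (mul_mem (mul_mem hs ha) (inv_mem hs)) _))
    (pow_mem (mul_mem (mul_mem hs (mul_mem (mul_mem hs ha) (inv_mem hs))) (inv_mem hs)) _)) hWC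

theorem range_act81 : act81.range = Subgroup.closure genSet81 := by
  rw [MonoidHom.range_eq_map, ← closure_gens, MonoidHom.map_closure]
  congr 1
  obtain ⟨h1, h2, h3, h4⟩ := act_gens81
  simp only [Set.image_insert_eq, Set.image_singleton, genSet81, h1, h2, h3, h4]

/-- The model is isomorphic to the group of the statement. -/
noncomputable def equivModel81 : M81 ≃* Subgroup.closure genSet81 :=
  (MonoidHom.ofInjective act81_injective).trans (MulEquiv.subgroupCongr range_act81)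

end H83.Ti81
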